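import Cfsg.Agent.Lib.FieldAut.OrthBasic
import Cfsg.Agent.Lib.Orth.Geo
import Cfsg.Agent.Lib.OrthAct.Stab
import Cfsg.Agent.Lib.OrthOuter.Semi

/-!
# Automorphisms of `PΩ(Q)`: classes of Eichler transformations

* `Hyp Q` : non-degenerate, dimension `≥ 7`, and no totally singular 4-space in dimension `8`
* `om g`, `E Q u w` : classes in `PΩ(Q)`; `E_eq_iff`, `E_commute_iff` (equalities and commutations lift to `Ω`)
* `SPair Q u w`, `ln u w` : totally singular lines and their elements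
* separation and dimension lemmas for orthogonal complements
-/

set_option autoImplicit false
set_option linter.unusedSectionVars false

namespace Cfsg.Agent.AutPOmega

open Cfsg Matrix Module Cfsg.Agent.Orth
open QuadraticMap (polar)

variable {ι : Type} [Fintype ι] [DecidableEq ι] {F : Type*} [Field F] [Fintype F]
variable {Q : QuadraticForm F (ι → F)}

/-- The basic hypotheses: `n ≥ 7`. -/
structure Base (Q : QuadraticForm F (ι → F)) : Prop where
  nd : Q.polarBilin.Nondegenerate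
  seven : 7 ≤ Fintype.card ι

/-- The standing hypotheses: `n ≥ 7`, and no totally singular 4-space if `n = 8`. -/
structure Hyp (Q : QuadraticForm F (ι → F)) : Prop extends Base Q where
  eight : Fintype.card ι = 8 → ∀ H : Submodule F (ι → F), (∀ x ∈ H, Q x = 0) → finrank F H ≤ 3

instance {Q : QuadraticForm F (ι → F)} : Coe (Hyp Q) (Base Q) := ⟨Hyp.toBase⟩

theorem Base.hE (H : Base Q) : eichGen Q ≤ Omega F ⇑Q :=
  eichGen_le_omega H.nd (by have := H.seven; omega) (.inr (by have := H.seven; omega))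

theorem Base.eich_mem (H : Base Q) (u w : ι → F) : eich Q u w ∈ Omega F ⇑Q :=
  H.hE (eich_mem_eichGen u w)

theorem Base.nonempty (H : Base Q) : Nonempty ι :=
  Fintype.card_pos_iff.1 (by have := H.seven; omega)

open Classical in
/-- The class of an element of `Ω(Q)` in `PΩ(Q)`. -/
noncomputable def om (g : IsoGrp Q) : POmega F ⇑Q :=
  if h : g ∈ Omega F ⇑Q then QuotientGroup.mk ⟨g, h⟩ else 1

theorem om_of_mem {g : IsoGrp Q} (h : g ∈ Omega F ⇑Q) : om g = QuotientGroup.mk ⟨g, h⟩ := dif_pos h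

theorem om_mul {g h : IsoGrp Q} (hg : g ∈ Omega F ⇑Q) (hh : h ∈ Omega F ⇑Q) :
    om (g * h) = om g * om h := by
  rw [om_of_mem hg, om_of_mem hh, om_of_mem (mul_mem hg hh)]; rfl

theorem om_one : om (1 : IsoGrp Q) = 1 := by rw [om_of_mem (one_mem _)]; rfl

theorem om_inv {g : IsoGrp Q} (hg : g ∈ Omega F ⇑Q) : om g⁻¹ = (om g)⁻¹ := by
  rw [om_of_mem hg, om_of_mem (inv_mem hg)]; rfl

theorem exists_om (x : POmega F ⇑Q) : ∃ g : IsoGrp Q, g ∈ Omega F ⇑Q ∧ x = om g := by
  obtain ⟨⟨g, hg⟩, rfl⟩ := QuotientGroup.mk_surjective x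
  exact ⟨g, hg, (om_of_mem hg).symm⟩

theorem om_eq_iff (H : Base Q) {g h : IsoGrp Q} (hg : g ∈ Omega F ⇑Q) (hh : h ∈ Omega F ⇑Q) :
    om g = om h ↔ ∃ a : F, a * a = 1 ∧ ∀ x, ap h x = a • ap g x := by
  rw [om_of_mem hg, om_of_mem hh, QuotientGroup.eq,
    mem_center_omega_iff H.nd (by have := H.seven; omega) H.hE]
  constructor
  · rintro ⟨a, ha, hx⟩
    refine ⟨a, ha, fun x => ?_⟩
    have : ap (g⁻¹ * h) x = a • x := hx x
    rw [ap_mul] at this
    rw [← ap_ap_inv g (ap h x), this, map_smul]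
  · rintro ⟨a, ha, hx⟩
    exact ⟨a, ha, fun x => show ap (g⁻¹ * h) x = a • x by rw [ap_mul, hx, map_smul, ap_inv_ap]⟩

/-- Unipotence of an isometry. -/
def Unip (g : IsoGrp Q) : Prop := IsNilpotent (((g : GL ι F) : Matrix ι ι F) - 1)

theorem eich_unip (u w : ι → F) : Unip (eich Q u w) := by
  by_cases h : Q u = 0 ∧ polar ⇑Q u w = 0
  · exact FieldAut.eich_unipotent h.1 h.2
  · rw [eich_eq_one h, Unip, coe_one_mat, sub_self]; exact IsNilpotent.zero

theorem Unip.mul {g h : IsoGrp Q} (hg : Unip g) (hh : Unip h) (hc : g * h = h * g) : Unip (g * h) := by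
  unfold Unip at *
  rw [coe_mul_mat]
  have hM : Commute ((g : GL ι F) : Matrix ι ι F) ((h : GL ι F) : Matrix ι ι F) := by
    have := congrArg (fun z : IsoGrp Q => ((z : GL ι F) : Matrix ι ι F)) hc
    simpa [coe_mul_mat, Commute, SemiconjBy] using this
  set A := ((g : GL ι F) : Matrix ι ι F)
  set B := ((h : GL ι F) : Matrix ι ι F)
  have h1 : A * B - 1 = B * (A - 1) + (B - 1) := by rw [mul_sub, mul_one, hM.eq]; abel
  rw [h1]
  have c1 : Commute B (A - 1) := hM.symm.sub_right (Commute.one_right B)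
  refine Commute.isNilpotent_add ?_ (Commute.isNilpotent_mul_left c1 hg) hh
  exact (((Commute.refl B).sub_right (Commute.one_right B))).mul_left
    (c1.symm.sub_right (Commute.one_right _))

theorem Unip.ext_of_smul [Nonempty ι] {g h : IsoGrp Q} (hg : Unip g) (hh : Unip h) {a : F}
    (hx : ∀ x, ap h x = a • ap g x) : g = h := by
  set u := ((g : GL ι F) : Matrix ι ι F)
  have hv : ((h : GL ι F) : Matrix ι ι F) = a • u := Matrix.ext_of_mulVec_single fun i => by
    rw [Matrix.smul_mulVec]; exact hx _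
  unfold Unip at hg hh
  rw [hv] at hh
  have h2 : IsNilpotent ((a - 1) • (1 : Matrix ι ι F)) := by
    have h3 : (a - 1) • (1 : Matrix ι ι F) = (a • u - 1) - a • (u - 1) := by
      simp only [sub_smul, one_smul, smul_sub]; abel
    rw [h3]
    refine Commute.isNilpotent_sub ?_ hh (hg.smul a)
    exact (((Commute.refl u).smul_left a).sub_left (Commute.one_left u)).sub_right
      (Commute.one_right _) |>.smul_right a
  obtain ⟨n, hn⟩ := h2
  obtain ⟨i⟩ := (inferInstance : Nonempty ι)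
  have h4 := congrFun (congrFun hn i) i
  rw [smul_pow, one_pow] at h4
  simp only [Matrix.smul_apply, Matrix.one_apply_eq, smul_eq_mul, mul_one, Matrix.zero_apply] at h4
  have ha : a = 1 :=
    sub_eq_zero.1 (pow_eq_zero_iff (n := n) (fun h0 => by simp [h0] at h4) |>.1 h4)
  exact ext_ap fun x => by rw [hx, ha, one_smul]

theorem om_inj_unip (H : Base Q) {g h : IsoGrp Q} (hg : g ∈ Omega F ⇑Q) (hh : h ∈ Omega F ⇑Q)
    (ug : Unip g) (uh : Unip h) (e : om g = om h) : g = h := by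
  haveI := H.nonempty
  obtain ⟨a, -, ha⟩ := (om_eq_iff H hg hh).1 e
  exact ug.ext_of_smul uh ha

variable (Q) in
/-- The class of an Eichler transformation. -/
noncomputable def E (u w : ι → F) : POmega F ⇑Q := om (eich Q u w)

theorem E_eq_iff (H : Base Q) {u w u' w' : ι → F} :
    E Q u w = E Q u' w' ↔ eich Q u w = eich Q u' w' :=
  ⟨om_inj_unip H (H.eich_mem _ _) (H.eich_mem _ _) (eich_unip _ _) (eich_unip _ _),
    fun h => congrArg om h⟩

theorem E_eq_one_iff (H : Base Q) {u w : ι → F} : E Q u w = 1 ↔ eich Q u w = 1 := by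
  rw [← om_one]
  exact ⟨om_inj_unip H (H.eich_mem _ _) (one_mem _) (eich_unip _ _)
    (by rw [Unip, coe_one_mat, sub_self]; exact IsNilpotent.zero), fun h => congrArg om h⟩

theorem E_add (H : Base Q) {u w w' : ι → F} (hu : Q u = 0) (hw : polar ⇑Q u w = 0)
    (hw' : polar ⇑Q u w' = 0) : E Q u (w + w') = E Q u w * E Q u w' := by
  rw [E, ← eich_add hu hw hw', om_mul (H.eich_mem _ _) (H.eich_mem _ _)]; rfl

theorem E_zero (u : ι → F) : E Q u 0 = 1 := by rw [E, eich_zero, om_one]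

theorem E_smul_left (u w : ι → F) (c : F) : E Q (c • u) w = E Q u (c • w) := by
  rw [E, eich_smul_left]; rfl

theorem om_conj (H : Base Q) {g : IsoGrp Q} (hg : g ∈ Omega F ⇑Q) (u w : ι → F) :
    om g * E Q u w * (om g)⁻¹ = E Q (ap g u) (ap g w) := by
  rw [E, E, ← om_inv hg, ← om_mul hg (H.eich_mem _ _),
    ← om_mul (mul_mem hg (H.eich_mem _ _)) (inv_mem hg), conj_eich]

/-- Commutation with the class of an Eichler transformation lifts. -/
theorem commute_E_iff (H : Base Q) {g : IsoGrp Q} (hg : g ∈ Omega F ⇑Q) {u w : ι → F} :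
    Commute (om g) (E Q u w) ↔ eich Q (ap g u) (ap g w) = eich Q u w := by
  rw [← E_eq_iff H, ← om_conj H hg, mul_inv_eq_iff_eq_mul]
  rfl

theorem E_commute_iff (H : Base Q) {u w u' w' : ι → F} :
    Commute (E Q u w) (E Q u' w') ↔ Commute (eich Q u w) (eich Q u' w') := by
  show Commute (om (eich Q u w)) _ ↔ _
  rw [commute_E_iff H (H.eich_mem _ _), ← conj_eich, mul_inv_eq_iff_eq_mul]
  rfl

theorem eich_right_inj (hQ : Q.polarBilin.Nondegenerate) {u w w' : ι → F} (hu : Q u = 0) (hu0 : u ≠ 0)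
    (hw : polar ⇑Q u w = 0) (hw' : polar ⇑Q u w' = 0) (h : eich Q u w = eich Q u w') :
    ∃ c : F, w' = w + c • u := by
  obtain ⟨x, hx⟩ := exists_hpair_left hQ hu hu0
  have := congrArg (fun g => ap g x) h
  simp only [eich_ap hu hw, eich_ap hu hw', hx.pf, mul_one, one_smul] at this
  exact ⟨polar ⇑Q w' x + Q w' - (polar ⇑Q w x + Q w), by linear_combination (norm := module) -this⟩

/-! ### orthogonal complements -/

theorem exists_sep_sub (hQ : Q.polarBilin.Nondegenerate) {S : Submodule F (ι → F)} {w : ι → F}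
    (hw : w ∉ S) : ∃ y ∈ perpSub Q S, polar ⇑Q w y ≠ 0 := by
  by_contra! hall
  apply hw
  rw [← perpSub_perpSub hQ S]
  intro y hy
  show polar ⇑Q y w = 0
  rw [pl_comm]
  exact hall y hy

theorem mem_perpSub_pair {a b y : ι → F} :
    y ∈ perpSub Q (Submodule.span F {a, b}) ↔ polar ⇑Q a y = 0 ∧ polar ⇑Q b y = 0 := by
  rw [mem_perpSub]
  constructor
  · exact fun h => ⟨h a (Submodule.subset_span (by simp)), h b (Submodule.subset_span (by simp))⟩
  · rintro ⟨h1, h2⟩ w hw
    obtain ⟨s, t, rfl⟩ := Submodule.mem_span_pair.1 hw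
    rw [pl_add_left, pl_smul_left, pl_smul_left, h1, h2]; ring

/-- `W` is non-degenerate for the polar form. -/
def NdOn (Q : QuadraticForm F (ι → F)) (W : Submodule F (ι → F)) : Prop :=
  ∀ x ∈ W, x ≠ 0 → ∃ y ∈ W, polar ⇑Q x y ≠ 0

theorem ndOn_top (hQ : Q.polarBilin.Nondegenerate) : NdOn Q ⊤ := fun _ _ h => by
  simpa using exists_polar_ne hQ h

theorem ndOn_cut {W : Submodule F (ι → F)} (hW : NdOn Q W) {e f : ι → F} (h : HPair Q e f)
    (he : e ∈ W) (hf : f ∈ W) :
    NdOn Q (W ⊓ perp Q e f) ∧ finrank F ↥(W ⊓ perp Q e f) + 2 = finrank F W := by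
  have hfe : polar ⇑Q f e = 1 := by rw [pl_comm]; exact h.pf
  refine ⟨fun x hx hx0 => ?_, ?_⟩
  · obtain ⟨y, hy, hxy⟩ := hW x hx.1 hx0
    refine ⟨wPart Q e f y, ⟨?_, h.wPart_mem y⟩, ?_⟩
    · exact sub_mem (sub_mem hy (W.smul_mem _ he)) (W.smul_mem _ hf)
    · obtain ⟨hxe, hxf⟩ := mem_perp.1 hx.2
      rwa [decomp (Q := Q) e f y, pl_add_right, pl_add_right, pl_smul_right, pl_smul_right,
        pl_comm Q x e, pl_comm Q x f, hxe, hxf, mul_zero, mul_zero, zero_add, zero_add] at hxy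
  · set φ : W →ₗ[F] (Fin 2 → F) :=
      (LinearMap.pi fun i => Q.polarBilin (![e, f] i)).comp W.subtype
    have hsurj : Function.Surjective φ := fun c => by
      refine ⟨⟨c 1 • e + c 0 • f, add_mem (W.smul_mem _ he) (W.smul_mem _ hf)⟩, funext fun i => ?_⟩
      show polar ⇑Q (![e, f] i) (c 1 • e + c 0 • f) = c i
      fin_cases i <;>
        simp [pl_add_right, pl_smul_right, pl_self, h.qe, h.qf, h.pf, hfe]
    have hk : LinearMap.ker φ = (W ⊓ perp Q e f).comap W.subtype := by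
      ext x
      simp [φ, mem_perp, funext_iff, Fin.forall_fin_two]
    have h1 := LinearMap.finrank_range_add_finrank_ker φ
    rw [LinearMap.range_eq_top.2 hsurj, finrank_top, Module.finrank_fin_fun, hk,
      (Submodule.comapSubtypeEquivOfLe (inf_le_left : W ⊓ perp Q e f ≤ W)).finrank_eq] at h1
    omega

theorem finrank_perp_eq (hQ : Q.polarBilin.Nondegenerate) {e f : ι → F} (h : HPair Q e f) :
    NdOn Q (perp Q e f) ∧ finrank F (perp Q e f) + 2 = Fintype.card ι := by
  have := ndOn_cut (ndOn_top hQ) h Submodule.mem_top Submodule.mem_top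
  rwa [top_inf_eq, finrank_top, finrank_space] at this

theorem exists_hpair_in {W : Submodule F (ι → F)} (hW : NdOn Q W) {e : ι → F} (he : e ∈ W)
    (hQe : Q e = 0) (he0 : e ≠ 0) : ∃ f ∈ W, HPair Q e f := by
  obtain ⟨y, hy, hey⟩ := hW e he he0
  set y' := (polar ⇑Q e y)⁻¹ • y with hy'
  have h1 : polar ⇑Q e y' = 1 := by rw [hy', pl_smul_right, inv_mul_cancel₀ hey]
  refine ⟨y' - Q y' • e, sub_mem (W.smul_mem _ hy) (W.smul_mem _ he), hQe, ?_, ?_⟩
  · rw [Q_sub, Q_smul Q (Q y') e, pl_smul_right, hQe, pl_comm Q y' e, h1]; ring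
  · rw [pl_sub_right, h1, pl_smul_right, pl_self, hQe]; ring

theorem exists_hpair_of_three {W : Submodule F (ι → F)} (hW : NdOn Q W) (h3 : 3 ≤ finrank F W) :
    ∃ e ∈ W, ∃ f ∈ W, HPair Q e f := by
  obtain ⟨e, he, he0, hQe⟩ := exists_ne_zero_Q_eq hW h3 0
  exact ⟨e, he, exists_hpair_in hW he hQe he0⟩

theorem exists_two_hpairs (H : Base Q) {e f : ι → F} (h : HPair Q e f) :
    ∃ e2 f2, HPair Q e2 f2 ∧ e2 ∈ perp Q e f ∧ f2 ∈ perp Q e f ∧
      NdOn Q (perp Q e f ⊓ perp Q e2 f2) ∧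
      finrank F ↥(perp Q e f ⊓ perp Q e2 f2) + 4 = Fintype.card ι := by
  obtain ⟨hnd, hd⟩ := finrank_perp_eq H.nd h
  obtain ⟨e2, he2, f2, hf2, h2⟩ := exists_hpair_of_three hnd (by have := H.seven; omega)
  obtain ⟨k1, k2⟩ := ndOn_cut hnd h2 he2 hf2
  exact ⟨e2, f2, h2, he2, hf2, k1, by omega⟩

/-! ### totally singular lines -/

/-- A basis of a totally singular line. -/
structure SPair (Q : QuadraticForm F (ι → F)) (u w : ι → F) : Prop where
  qu : Q u = 0
  qw : Q w = 0
  p : polar ⇑Q u w = 0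
  nu : u ≠ 0
  ind : w ∉ Submodule.span F {u}

/-- The line of a pair. -/
abbrev ln (u w : ι → F) : Submodule F (ι → F) := Submodule.span F {u, w}

theorem mem_ln {u w x : ι → F} : x ∈ ln u w ↔ ∃ a b : F, a • u + b • w = x :=
  Submodule.mem_span_pair

theorem left_mem_ln (u w : ι → F) : u ∈ ln u w := Submodule.subset_span (by simp)
theorem right_mem_ln (u w : ι → F) : w ∈ ln u w := Submodule.subset_span (by simp)

theorem SPair.nw {u w : ι → F} (h : SPair Q u w) : w ≠ 0 := fun h0 => h.ind (h0 ▸ zero_mem _)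

theorem SPair.coeff {u w : ι → F} (h : SPair Q u w) {a b : F} (e : a • u + b • w = 0) :
    a = 0 ∧ b = 0 := by
  rcases eq_or_ne b 0 with rfl | hb
  · rw [zero_smul, add_zero, smul_eq_zero] at e
    exact ⟨e.resolve_right h.nu, rfl⟩
  · refine absurd (Submodule.mem_span_singleton.2 ⟨-(b⁻¹ * a), ?_⟩) h.ind
    rw [neg_smul, mul_smul, eq_neg_of_add_eq_zero_left e, smul_neg, neg_neg, inv_smul_smul₀ hb]

theorem SPair.linIndep {u w : ι → F} (h : SPair Q u w) : LinearIndependent F ![u, w] :=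
  LinearIndependent.pair_iff.2 fun _ _ e => h.coeff e

theorem SPair.ts {u w : ι → F} (h : SPair Q u w) {x y : ι → F} (hx : x ∈ ln u w) (hy : y ∈ ln u w) :
    Q x = 0 ∧ polar ⇑Q x y = 0 := by
  obtain ⟨a, b, rfl⟩ := mem_ln.1 hx
  obtain ⟨c, d, rfl⟩ := mem_ln.1 hy
  simp only [Q_add, Q_smul, pl_add_left, pl_add_right, pl_smul_left, pl_smul_right, pl_self, h.qu,
    h.qw, h.p, pl_comm Q w u]
  constructor <;> ring

theorem SPair.of_mem {u w : ι → F} (h : SPair Q u w) {a b : ι → F} (ha : a ∈ ln u w)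
    (hb : b ∈ ln u w) (ha0 : a ≠ 0) (hab : b ∉ Submodule.span F {a}) : SPair Q a b :=
  ⟨(h.ts ha ha).1, (h.ts hb hb).1, (h.ts ha hb).2, ha0, hab⟩

theorem SPair.smul_right {u w : ι → F} (h : SPair Q u w) {k : F} (hk : k ≠ 0) :
    SPair Q u (k • w) := by
  refine ⟨h.qu, by rw [Q_smul, h.qw, mul_zero], by rw [pl_smul_right, h.p, mul_zero], h.nu,
    fun hm => h.ind ?_⟩
  have := Submodule.smul_mem _ k⁻¹ hm
  rwa [inv_smul_smul₀ hk] at this

theorem eich_line_ap {u w : ι → F} (h : SPair Q u w) (x : ι → F) :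
    ap (eich Q u w) x - x = polar ⇑Q u x • w - polar ⇑Q w x • u := by
  rw [eich_ap h.qu h.p, h.qw]; module

theorem SPair.exists_hits (hQ : Q.polarBilin.Nondegenerate) {u w : ι → F} (h : SPair Q u w) :
    ∃ y, polar ⇑Q u y = 0 ∧ polar ⇑Q w y = 1 := by
  obtain ⟨y, hy, hwy⟩ := exists_sep_sub hQ h.ind
  refine ⟨(polar ⇑Q w y)⁻¹ • y, ?_, by rw [pl_smul_right, inv_mul_cancel₀ hwy]⟩
  rw [pl_smul_right, mem_perpSub.1 hy u (Submodule.mem_span_singleton_self u), mul_zero]

theorem SPair.eich_ne_one (hQ : Q.polarBilin.Nondegenerate) {u w : ι → F} (h : SPair Q u w) :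
    eich Q u w ≠ 1 := fun he => by
  obtain ⟨y, hy1, hy2⟩ := h.exists_hits hQ
  have := eich_line_ap h y
  rw [he, ap_one, sub_self, hy1, hy2] at this
  exact h.nu (by simpa using this.symm)

theorem SPair.swap {u w : ι → F} (h : SPair Q u w) : SPair Q w u :=
  ⟨h.qw, h.qu, by rw [pl_comm]; exact h.p, h.nw, fun hm => by
    obtain ⟨c, hc⟩ := Submodule.mem_span_singleton.1 hm
    have := (h.coeff (a := -1) (b := c) (by rw [hc]; module)).1
    simp at this⟩

theorem SPair.eich_swap {u w : ι → F} (h : SPair Q u w) :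
    eich Q w u = eich Q u ((-1 : F) • w) := by
  refine ext_ap fun x => ?_
  rw [eich_ap h.qw h.swap.p, eich_ap h.qu (by rw [pl_smul_right, h.p, mul_zero]), Q_smul, h.qu, h.qw,
    pl_smul_left]
  module

theorem SPair.line_le (hQ : Q.polarBilin.Nondegenerate) {u w u' w' : ι → F} (h : SPair Q u w)
    (h' : SPair Q u' w') (e : eich Q u w = eich Q u' w') : ln u w ≤ ln u' w' := by
  have img : ∀ x, polar ⇑Q u x • w - polar ⇑Q w x • u ∈ ln u' w' := fun x => by
    rw [← eich_line_ap h, e, eich_line_ap h']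
    exact sub_mem (Submodule.smul_mem _ _ (right_mem_ln _ _)) (Submodule.smul_mem _ _ (left_mem_ln _ _))
  obtain ⟨y, hy1, hy2⟩ := h.exists_hits hQ
  obtain ⟨z, hz1, hz2⟩ := h.swap.exists_hits hQ
  rw [Submodule.span_le, Set.insert_subset_iff, Set.singleton_subset_iff]
  refine ⟨?_, ?_⟩
  · have := img y
    rw [hy1, hy2, zero_smul, one_smul, zero_sub, Submodule.neg_mem_iff] at this
    exact this
  · have := img z
    rwa [hz1, hz2, zero_smul, one_smul, sub_zero] at this

theorem SPair.line_eq (hQ : Q.polarBilin.Nondegenerate) {u w u' w' : ι → F} (h : SPair Q u w)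
    (h' : SPair Q u' w') (e : eich Q u w = eich Q u' w') : ln u w = ln u' w' :=
  le_antisymm (h.line_le hQ h' e) (h'.line_le hQ h e.symm)

theorem SPair.eich_of_line {u w a b : ι → F} (h : SPair Q u w) (ha : a ∈ ln u w) (hb : b ∈ ln u w)
    (ha0 : a ≠ 0) (hab : b ∉ Submodule.span F {a}) :
    ∃ k : F, k ≠ 0 ∧ eich Q u w = eich Q a (k • b) := by
  have h' := h.of_mem ha hb ha0 hab
  obtain ⟨p, q, rfl⟩ := mem_ln.1 ha
  obtain ⟨r, s, rfl⟩ := mem_ln.1 hb
  have hd : p * s - q * r ≠ 0 := by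
    intro hd
    by_cases hp : p = 0
    · subst hp
      have hq : q ≠ 0 := fun hq => ha0 (by simp [hq])
      have hr : r = 0 := by simpa [hq] using hd
      refine hab (Submodule.mem_span_singleton.2 ⟨s / q, ?_⟩)
      rw [hr]; simp [smul_smul, div_mul_cancel₀ _ hq]
    · refine hab (Submodule.mem_span_singleton.2 ⟨r / p, ?_⟩)
      rw [smul_add, smul_smul, smul_smul, div_mul_cancel₀ _ hp]
      congr 2
      field_simp
      linear_combination -hd
  refine ⟨(p * s - q * r)⁻¹, inv_ne_zero hd, ext_ap fun x => ?_⟩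
  have e1 := eich_line_ap h x
  have e2 := eich_line_ap (h'.smul_right (inv_ne_zero hd)) x
  simp only [pl_smul_left, pl_add_left] at e2
  rw [sub_eq_iff_eq_add] at e1 e2
  rw [e1, e2]
  match_scalars <;> field_simp <;> ring

theorem SPair.line_of_two {u w a b : ι → F} (h : SPair Q u w) (ha : a ∈ ln u w) (hb : b ∈ ln u w)
    (ha0 : a ≠ 0) (hab : b ∉ Submodule.span F {a}) : ln a b = ln u w := by
  refine Submodule.eq_of_le_of_finrank_le ?_ ?_
  · rw [Submodule.span_le, Set.insert_subset_iff, Set.singleton_subset_iff]; exact ⟨ha, hb⟩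
  · have fr : ∀ {x y : ι → F}, SPair Q x y → finrank F (ln x y) = 2 := fun {x y} hxy => by
      rw [ln, show ({x, y} : Set (ι → F)) = Set.range ![x, y] by ext; simp [or_comm, eq_comm],
        finrank_span_eq_card hxy.linIndep, Fintype.card_fin]
    rw [fr h, fr (h.of_mem ha hb ha0 hab)]

theorem SPair.basis_at {u w : ι → F} (h : SPair Q u w) {a : ι → F} (ha : a ∈ ln u w) (ha0 : a ≠ 0) :
    ∃ b, SPair Q a b ∧ ln a b = ln u w ∧ eich Q u w = eich Q a b := by
  have key : ∀ c ∈ ln u w, c ∉ Submodule.span F {a} →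
      ∃ b, SPair Q a b ∧ ln a b = ln u w ∧ eich Q u w = eich Q a b := by
    intro c hc hca
    obtain ⟨k, hk, e⟩ := h.eich_of_line ha hc ha0 hca
    have h' := (h.of_mem ha hc ha0 hca).smul_right hk
    exact ⟨_, h', h.line_of_two ha (Submodule.smul_mem _ _ hc) ha0 h'.ind, e⟩
  by_cases hu : u ∈ Submodule.span F {a}
  · refine key w (right_mem_ln u w) fun hw => h.ind ?_
    obtain ⟨c, rfl⟩ := Submodule.mem_span_singleton.1 hu
    obtain ⟨d, rfl⟩ := Submodule.mem_span_singleton.1 hw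
    have hc : c ≠ 0 := fun h0 => h.nu (by rw [h0, zero_smul])
    exact Submodule.mem_span_singleton.2 ⟨d / c, by rw [smul_smul, div_mul_cancel₀ _ hc]⟩
  · exact key u (left_mem_ln u w) hu

end Cfsg.Agent.AutPOmega
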