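import Cfsg.Agent.Lib.AutPOmega.Main

/-!
# Automorphisms of `PΩ(Q)`: the field part

* `semiAut_mul`, `semisim_inv`, `semiAut_congr`
* `fieldPart H : MulAut (POmega) →* (F ≃+* F)`, `fieldPart_semi`; `outField H` on `Out`
* `semiAut_one_eq` : a semisimilarity pair with trivial field part acts as its similarity
-/

set_option autoImplicit false
set_option linter.unusedSectionVars false

namespace Cfsg.Agent.AutPOmega

open Cfsg Matrix Module Cfsg.Agent.Orth
open QuadraticMap (polar)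

variable {ι : Type} [Fintype ι] [DecidableEq ι] {F : Type*} [Field F] [Fintype F]
variable {Q : QuadraticForm F (ι → F)}

theorem semiAut_congr {g h : GL ι F} {σ τ : F ≃+* F} (hs : IsSemisimilarityPair ⇑Q g σ)
    (ht : IsSemisimilarityPair ⇑Q h τ) (e1 : g = h) (e2 : σ = τ) : semiAut Q hs = semiAut Q ht := by
  subst e1; subst e2; rfl

theorem semiAut_mul {g h : GL ι F} {σ τ : F ≃+* F} (hs : IsSemisimilarityPair ⇑Q g σ)
    (ht : IsSemisimilarityPair ⇑Q h τ) :
    semiAut Q hs * semiAut Q ht = semiAut Q (OrthOuter.semisim_mul hs ht) := by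
  rw [semiAut, semiAut, semiAut, ← map_mul]
  exact congrArg _ (Subtype.ext (OrthOuter.psi_mul g h σ τ))

theorem semisim_one : IsSemisimilarityPair ⇑Q (1 : GL ι F) (1 : F ≃+* F) :=
  ⟨1, fun v => by simp⟩

theorem semiAut_one : semiAut Q (semisim_one (Q := Q)) = 1 := by
  rw [semiAut, ← map_one (FieldAut.indAut (FieldAut.omMat_injective (Qf := ⇑Q)))]
  refine congrArg _ (Subtype.ext ?_)
  show OrthOuter.psi (1 : GL ι F) (1 : F ≃+* F) = 1
  rw [OrthOuter.psi, map_one, map_one, one_mul]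

theorem semiAut_unique (H : Hyp Q) {g h : GL ι F} {σ τ : F ≃+* F} (hs : IsSemisimilarityPair ⇑Q g σ)
    (ht : IsSemisimilarityPair ⇑Q h τ) (e : semiAut Q hs = semiAut Q ht) : σ = τ := by
  -- compare with the inverse of `(g, σ)`
  obtain ⟨k, ρ, hk, hinv⟩ := exists_semi_eq H (semiAut Q hs)⁻¹
  have e1 : semiAut Q (OrthOuter.semisim_mul hk hs) = 1 := by
    rw [← semiAut_mul hk hs, ← hinv, inv_mul_cancel]
  have e2 : semiAut Q (OrthOuter.semisim_mul hk ht) = 1 := by
    rw [← semiAut_mul hk ht, ← e, ← hinv, inv_mul_cancel]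
  have s1 := (semi_eq_one H _ e1).1
  have s2 := (semi_eq_one H _ e2).1
  exact mul_left_cancel (s1.trans s2.symm)

/-- The field component of an automorphism. -/
noncomputable def fieldPart (H : Hyp Q) : MulAut (POmega F ⇑Q) →* (F ≃+* F) where
  toFun α := (exists_semi_eq H α).choose_spec.choose
  map_one' := by
    obtain ⟨hs, he⟩ := (exists_semi_eq H (1 : MulAut (POmega F ⇑Q))).choose_spec.choose_spec
    exact semiAut_unique H hs semisim_one (he.symm.trans semiAut_one.symm)
  map_mul' α β := by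
    obtain ⟨hs, he⟩ := (exists_semi_eq H (α * β)).choose_spec.choose_spec
    obtain ⟨h1, e1⟩ := (exists_semi_eq H α).choose_spec.choose_spec
    obtain ⟨h2, e2⟩ := (exists_semi_eq H β).choose_spec.choose_spec
    exact semiAut_unique H hs (OrthOuter.semisim_mul h1 h2)
      (by rw [← semiAut_mul h1 h2, ← e1, ← e2, ← he])

theorem fieldPart_semi (H : Hyp Q) {g : GL ι F} {σ : F ≃+* F} (hs : IsSemisimilarityPair ⇑Q g σ) :
    fieldPart H (semiAut Q hs) = σ := by
  obtain ⟨h1, e1⟩ := (exists_semi_eq H (semiAut Q hs)).choose_spec.choose_spec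
  exact semiAut_unique H h1 hs e1.symm

theorem semi_sim {g : GL ι F} (hs : IsSemisimilarityPair ⇑Q g (1 : F ≃+* F)) :
    g ∈ OrthOuter.Sim Q := by
  obtain ⟨c, hc⟩ := hs
  exact ⟨c, fun v => hc v⟩

theorem semiAut_one_eq {g : GL ι F} (hs : IsSemisimilarityPair ⇑Q g (1 : F ≃+* F)) :
    semiAut Q hs = OrthOuter.conjAut Q ⟨g, semi_sim hs⟩ :=
  (OrthOuter.induced_iff _ _).1 ((OrthOuter.semi_induced FieldAut.omMat_injective hs _).2 rfl)

theorem conjAut_eq_semiAut (x : OrthOuter.Sim Q) :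
    ∃ hs : IsSemisimilarityPair ⇑Q (x : GL ι F) (1 : F ≃+* F), OrthOuter.conjAut Q x = semiAut Q hs := by
  obtain ⟨c, hc⟩ := x.2
  exact ⟨⟨c, fun v => hc v⟩, (semiAut_one_eq _).symm⟩

theorem fieldPart_eq_one_iff (H : Hyp Q) (α : MulAut (POmega F ⇑Q)) :
    fieldPart H α = 1 ↔ α ∈ (OrthOuter.conjAut Q).range := by
  constructor
  · intro h
    obtain ⟨g, σ, hs, rfl⟩ := exists_semi_eq H α
    rw [fieldPart_semi] at h
    subst h
    exact ⟨_, (semiAut_one_eq hs).symm⟩
  · rintro ⟨x, rfl⟩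
    obtain ⟨hs, e⟩ := conjAut_eq_semiAut x
    rw [e, fieldPart_semi]

theorem inn_le_fieldPart_ker (H : Hyp Q) : Inn (POmega F ⇑Q) ≤ (fieldPart H).ker := by
  rw [OrthOuter.inn_eq]
  rintro _ ⟨x, -, rfl⟩
  exact (fieldPart_eq_one_iff H _).2 ⟨x, rfl⟩

/-- The field component of an outer automorphism. -/
noncomputable def outField (H : Hyp Q) : Out (POmega F ⇑Q) →* (F ≃+* F) :=
  QuotientGroup.lift _ (fieldPart H) (inn_le_fieldPart_ker H)

theorem outField_mk (H : Hyp Q) (α : MulAut (POmega F ⇑Q)) :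
    outField H (QuotientGroup.mk α) = fieldPart H α := rfl

theorem outField_semi (H : Hyp Q) {g : GL ι F} {σ : F ≃+* F} (hs : IsSemisimilarityPair ⇑Q g σ) :
    outField H (QuotientGroup.mk (semiAut Q hs)) = σ := fieldPart_semi H hs

theorem mem_outField_ker_iff (H : Hyp Q) (y : Out (POmega F ⇑Q)) :
    y ∈ (outField H).ker ↔ ∃ x : OrthOuter.Sim Q, y = QuotientGroup.mk (OrthOuter.conjAut Q x) := by
  obtain ⟨α, rfl⟩ := QuotientGroup.mk_surjective y
  rw [MonoidHom.mem_ker, outField_mk, fieldPart_eq_one_iff]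
  constructor
  · rintro ⟨x, rfl⟩; exact ⟨x, rfl⟩
  · rintro ⟨x, hx⟩
    rw [QuotientGroup.eq] at hx
    have hle : Inn (POmega F ⇑Q) ≤ (OrthOuter.conjAut Q).range := by
      rw [OrthOuter.inn_eq]; rintro _ ⟨z, -, rfl⟩; exact ⟨z, rfl⟩
    refine (Subgroup.inv_mem_iff _).1 ?_
    rw [← mul_inv_cancel_right α⁻¹ (OrthOuter.conjAut Q x)]
    exact mul_mem (hle hx) (Subgroup.inv_mem _ ⟨x, rfl⟩)

/-- A recognition of `pgoAut / Inn` recognises the kernel of the field component. -/
theorem nonempty_ker_equiv (H : Hyp Q) {X : Type*} [Group X]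
    (h : ∃ φ : ↥(pgoAut F ⇑Q) →* X, Function.Surjective φ ∧
      φ.ker = (Inn (POmega F ⇑Q)).subgroupOf (pgoAut F ⇑Q)) :
    Nonempty ((outField H).ker ≃* X) := by
  obtain ⟨φ, hφ, hk⟩ := h
  have hmem : ∀ a : ↥(pgoAut F ⇑Q),
      (QuotientGroup.mk (a : MulAut (POmega F ⇑Q)) : Out (POmega F ⇑Q)) ∈ (outField H).ker := by
    rintro ⟨a, ha⟩
    rw [OrthOuter.pgoAut_eq] at ha
    obtain ⟨x, rfl⟩ := ha
    exact (mem_outField_ker_iff H _).2 ⟨x, rfl⟩
  let ψ : ↥(pgoAut F ⇑Q) →* (outField H).ker :=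
    ((QuotientGroup.mk' (Inn (POmega F ⇑Q))).comp (pgoAut F ⇑Q).subtype).codRestrict _ hmem
  have hψ : Function.Surjective ψ := by
    rintro ⟨y, hy⟩
    obtain ⟨x, rfl⟩ := (mem_outField_ker_iff H y).1 hy
    exact ⟨⟨_, by rw [OrthOuter.pgoAut_eq]; exact ⟨x, rfl⟩⟩, rfl⟩
  have hkψ : ψ.ker = (Inn (POmega F ⇑Q)).subgroupOf (pgoAut F ⇑Q) := by
    ext a
    rw [MonoidHom.mem_ker, Subgroup.mem_subgroupOf, Subtype.ext_iff]
    exact QuotientGroup.eq_one_iff (a : MulAut (POmega F ⇑Q))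
  exact ⟨((QuotientGroup.quotientKerEquivOfSurjective ψ hψ).symm.trans
    (QuotientGroup.quotientMulEquivOfEq (hkψ.trans hk.symm))).trans
    (QuotientGroup.quotientKerEquivOfSurjective φ hφ)⟩

theorem card_mulAut_base (H : Base Q) :
    Nat.card (MulAut (POmega F ⇑Q)) = Nat.card (Out (POmega F ⇑Q)) * Nat.card (POmega F ⇑Q) := by
  have hn : 5 ≤ Fintype.card ι := by have := H.seven; omega
  haveI := isSimpleGroup_pomega H.nd hn
  have hinj : Function.Injective (MulAut.conj : POmega F ⇑Q →* MulAut (POmega F ⇑Q)) := by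
    rw [injective_iff_map_eq_one]
    intro x hx
    by_contra hx1
    obtain ⟨u, w, hs⟩ : ∃ u w, SPair Q u w := by
      obtain ⟨e, f, h⟩ := exists_hpair H.nd (by omega)
      obtain ⟨e2, f2, h2, he2, -, -, -⟩ := exists_two_hpairs H h
      exact ⟨e, e2, spair_perp h he2 h2.ne_zero h2.qe⟩
    -- a central element generates a trivial normal subgroup
    have hc : x ∈ Subgroup.center (POmega F ⇑Q) := Subgroup.mem_center_iff.2 fun y => by
      have := DFunLike.congr_fun hx y
      rw [MulAut.conj_apply, MulAut.one_apply, mul_inv_eq_iff_eq_mul] at this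
      exact this.symm
    rcases (Subgroup.normal_of_characteristic (Subgroup.center (POmega F ⇑Q))).eq_bot_or_eq_top with h | h
    · exact hx1 (by rwa [h, Subgroup.mem_bot] at hc)
    · obtain ⟨a, b, hroot⟩ : ∃ a b, ¬ Commute (a : POmega F ⇑Q) b := by
        obtain ⟨e, f, hp⟩ := exists_hpair H.nd (by omega)
        obtain ⟨e2, f2, h2, he2, hf2, -, -⟩ := exists_two_hpairs H hp
        have ha := spair_perp hp he2 h2.ne_zero h2.qe
        have hb : SPair Q f f2 := spair_perp hp.swap (by rwa [perp_swap]) h2.swap.ne_zero h2.qf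
        refine ⟨E Q e e2, E Q f f2, fun hcm => ?_⟩
        rcases (commute_iff H ha hb).1 hcm with ⟨p, hp0, hp1, hp2⟩ | hperp
        · obtain ⟨s, t, rfl⟩ := mem_ln.1 hp1
          obtain ⟨s', t', hst⟩ := mem_ln.1 hp2
          have k1 := congrArg (polar ⇑Q f) hst
          have k2 := congrArg (polar ⇑Q f2) hst
          simp only [pl_add_right, pl_smul_right, pl_self, hp.qf, h2.qf, pl_comm Q f e, hp.pf,
            (mem_perp.1 he2).2, (mem_perp.1 hf2).2, pl_comm Q f2 e2, h2.pf, pl_comm Q f2 e,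
            (mem_perp.1 hf2).1, pl_comm Q f2 f] at k1 k2
          have hs0 : s = 0 := by linear_combination -k1
          have ht0 : t = 0 := by linear_combination -k2
          exact hp0 (by simp [hs0, ht0])
        · have := hperp _ (left_mem_ln e e2) _ (left_mem_ln f f2)
          rw [hp.pf] at this
          exact one_ne_zero this
      exact hroot ((Subgroup.mem_center_iff.1 (h ▸ Subgroup.mem_top a : a ∈ Subgroup.center _) b).symm)
  rw [Subgroup.card_eq_card_quotient_mul_card_subgroup (Inn (POmega F ⇑Q)),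
    ← Nat.card_congr (MonoidHom.ofInjective hinj).toEquiv]

theorem card_mulAut (H : Hyp Q) :
    Nat.card (MulAut (POmega F ⇑Q)) = Nat.card (Out (POmega F ⇑Q)) * Nat.card (POmega F ⇑Q) :=
  card_mulAut_base H.toBase

theorem card_out (H : Hyp Q) (hsurj : Function.Surjective (outField H)) :
    Nat.card (Out (POmega F ⇑Q)) = Nat.card (outField H).ker * Nat.card (F ≃+* F) := by
  rw [Subgroup.card_eq_card_quotient_mul_card_subgroup (outField H).ker,
    Nat.card_congr (QuotientGroup.quotientKerEquivOfSurjective _ hsurj).toEquiv, mul_comm]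

end Cfsg.Agent.AutPOmega
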