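import Cfsg.Agent.Lib.AutPOmega.Main

/-!
# Automorphisms of `PΩ`: the three families

* `hypOdd` (`q` odd, `m ≥ 3`), `hypPlus` (`m ≥ 5`), `hypMinus` (`m ≥ 3`)
* `finrank_singular_minus_le` : a totally singular subspace of the minus form has dimension at most `m`
-/

set_option autoImplicit false
set_option linter.unusedSectionVars false

namespace Cfsg.Agent.AutPOmega

open Cfsg Matrix Module Cfsg.Agent.Orth
open QuadraticMap (polar)

variable {F : Type*} [Field F] [Fintype F]

theorem two_ne_zero_of_odd (hodd : Odd (Fintype.card F)) : (2 : F) ≠ 0 := fun h => by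
  have h2 : ringChar F = 2 := by
    haveI := Fact.mk (CharP.char_is_prime F (ringChar F))
    exact ringChar.eq_iff.2 (CharTwo.of_one_ne_zero_of_two_eq_zero one_ne_zero h)
  have := FiniteField.even_card_of_char_two h2
  exact absurd hodd (Nat.not_odd_iff.2 (by omega))

theorem hypOdd (hodd : Odd (Fintype.card F)) {m : ℕ} (hm : 3 ≤ m) : Hyp (quadOdd m F) where
  nd := quadOdd_nondeg m (two_ne_zero_of_odd hodd)
  seven := by simp; omega
  eight h := by simp at h; omega

theorem hypPlus {m : ℕ} (hm : 5 ≤ m) : Hyp (quadPlus m F) where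
  nd := quadPlus_nondeg m
  seven := by simp; omega
  eight h := by simp at h; omega

theorem finrank_singular_minus_le {m : ℕ} {a b : F} (hab : Aniso a b)
    (S : Submodule F ((Fin m ⊕ Fin m) ⊕ Fin 2 → F)) (hS : ∀ v ∈ S, quadMinus m F a b v = 0) :
    finrank F S ≤ m := by
  classical
  have hpol : ∀ u ∈ S, ∀ v ∈ S, polar (quadFormMinus m F a b) u v = 0 := fun u hu v hv => by
    show quadMinus m F a b (u + v) - quadMinus m F a b u - quadMinus m F a b v = 0
    rw [hS _ (add_mem hu hv), hS u hu, hS v hv]; ring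
  let φ : S →ₗ[F] (Fin m → F) := (LinearMap.funLeft F F fun i : Fin m => Sum.inl (Sum.inr i)).comp S.subtype
  have hker : ∀ k ∈ LinearMap.ker φ, (∀ i, k.1 (.inl (.inr i)) = 0) ∧ k.1 (.inr 0) = 0 ∧ k.1 (.inr 1) = 0 := by
    intro k hk
    have hy : ∀ i, k.1 (.inl (.inr i)) = 0 := fun i => congrFun (LinearMap.mem_ker.1 hk) i
    have hQ : quadFormMinus m F a b k.1 = 0 := hS k.1 k.2
    simp [quadFormMinus, hy] at hQ
    exact ⟨hy, hab _ _ hQ⟩
  let Ψ : (LinearMap.ker φ × LinearMap.range φ) →ₗ[F] (Fin m ⊕ Fin m → F) :=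
    { toFun := fun p => Sum.elim (fun i => p.1.1.1 (.inl (.inl i))) p.2.1
      map_add' := fun p q => funext fun j => by cases j <;> simp
      map_smul' := fun c p => funext fun j => by cases j <;> simp }
  have hinj : Function.Injective Ψ := by
    rintro ⟨k, r⟩ ⟨k', r'⟩ e
    refine Prod.ext (Subtype.ext (Subtype.ext (funext fun j => ?_))) (Subtype.ext (funext fun i => congrFun e (.inr i)))
    obtain ⟨h1, h2, h3⟩ := hker k.1 k.2
    obtain ⟨h1', h2', h3'⟩ := hker k'.1 k'.2
    rcases j with (i | i) | j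
    · exact congrFun e (.inl i)
    · rw [h1, h1']
    · fin_cases j
      · exact h2.trans h2'.symm
      · exact h3.trans h3'.symm
  have hiso : ∀ x ∈ LinearMap.range Ψ, ∀ y ∈ LinearMap.range Ψ, polar ⇑(quadPlus m F) x y = 0 := by
    rintro _ ⟨⟨k, r⟩, rfl⟩ _ ⟨⟨k', r'⟩, rfl⟩
    obtain ⟨s, hs⟩ := r.2
    obtain ⟨s', hs'⟩ := r'.2
    have hsum : ∀ (k : LinearMap.ker φ) (s : S), ∑ i, k.1.1 (.inl (.inl i)) * φ s i = 0 := fun k s => by
      obtain ⟨h1, h2, h3⟩ := hker k.1 k.2
      have h := hpol k.1.1 k.1.2 s.1 s.2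
      rw [polar_quadMinus] at h
      simp [h1, h2, h3] at h
      exact h
    show polar (quadFormPlus m F) _ _ = 0
    rw [polar_quadPlus]
    simp only [Ψ, LinearMap.coe_mk, AddHom.coe_mk, Sum.elim_inl, Sum.elim_inr, ← hs, ← hs',
      Finset.sum_add_distrib, hsum, add_zero]
  have h1 := two_mul_finrank_le_of_isotropic (quadPlus_nondeg m) _ hiso
  haveI : Module.Free F ↥(LinearMap.ker φ) :=
    @Module.Free.of_divisionRing F ↥(LinearMap.ker φ) _ (Submodule.addCommGroup _) _
  rw [LinearMap.finrank_range_of_inj hinj, Module.finrank_prod, add_comm,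
    LinearMap.finrank_range_add_finrank_ker] at h1
  simp at h1
  omega

theorem hypMinus {m : ℕ} (hm : 3 ≤ m) {a b : F} (hab : Aniso a b) : Hyp (quadMinus m F a b) where
  nd := quadMinus_nondeg m hab
  seven := by simp; omega
  eight h S hS := by
    have := finrank_singular_minus_le hab S hS
    simp at h; omega

end Cfsg.Agent.AutPOmega
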