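import Cfsg.Agent.Lib.AutPOmega.Root

/-!
# Automorphisms of `PΩ(Q)`: the relations between lines seen inside the group

* `commute_iff` : root elements commute iff their lines meet or are perpendicular
* `SameL`, `Coplanar`, `Meets` : relations defined inside the group, with `same_iff`, `coplanar_iff`,
  `meets_iff` identifying them with equality, coplanarity and intersection of lines
* `SameL.map`, `Meets.map` : automorphisms preserve them
-/

set_option autoImplicit false
set_option linter.unusedSectionVars false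

namespace Cfsg.Agent.AutPOmega

open Cfsg Matrix Module Cfsg.Agent.Orth
open QuadraticMap (polar)

variable {ι : Type} [Fintype ι] [DecidableEq ι] {F : Type*} [Field F] [Fintype F]
variable {Q : QuadraticForm F (ι → F)}

/-- Two subspaces share a point. -/
def Meet (L L' : Submodule F (ι → F)) : Prop := ∃ p, p ≠ 0 ∧ p ∈ L ∧ p ∈ L'

/-- Two subspaces are orthogonal. -/
def Perp (Q : QuadraticForm F (ι → F)) (L L' : Submodule F (ι → F)) : Prop :=
  ∀ a ∈ L, ∀ b ∈ L', polar ⇑Q a b = 0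

theorem Meet.symm {L L' : Submodule F (ι → F)} (h : Meet L L') : Meet L' L := by
  obtain ⟨p, h0, h1, h2⟩ := h; exact ⟨p, h0, h2, h1⟩

theorem Perp.symm {L L' : Submodule F (ι → F)} (h : Perp Q L L') : Perp Q L' L := fun a ha b hb => by
  rw [pl_comm]; exact h b hb a ha

theorem perp_ln_iff {u w u' w' : ι → F} : Perp Q (ln u w) (ln u' w') ↔
    (polar ⇑Q u u' = 0 ∧ polar ⇑Q u w' = 0) ∧ (polar ⇑Q w u' = 0 ∧ polar ⇑Q w w' = 0) := by
  constructor
  · intro h
    exact ⟨⟨h _ (left_mem_ln _ _) _ (left_mem_ln _ _), h _ (left_mem_ln _ _) _ (right_mem_ln _ _)⟩,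
      ⟨h _ (right_mem_ln _ _) _ (left_mem_ln _ _), h _ (right_mem_ln _ _) _ (right_mem_ln _ _)⟩⟩
  · rintro ⟨⟨h1, h2⟩, h3, h4⟩ a ha b hb
    obtain ⟨a1, a2, rfl⟩ := mem_ln.1 ha
    obtain ⟨b1, b2, rfl⟩ := mem_ln.1 hb
    simp only [pl_add_left, pl_add_right, pl_smul_left, pl_smul_right, h1, h2, h3, h4]
    ring

theorem SPair.finrank_ln {u w : ι → F} (h : SPair Q u w) : finrank F (ln u w) = 2 := by
  rw [ln, show ({u, w} : Set (ι → F)) = Set.range ![u, w] by ext; simp [or_comm, eq_comm],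
    finrank_span_eq_card h.linIndep, Fintype.card_fin]

theorem SPair.eq_of_le {u w u' w' : ι → F} (h : SPair Q u w) (h' : SPair Q u' w')
    (hle : ln u w ≤ ln u' w') : ln u w = ln u' w' :=
  Submodule.eq_of_le_of_finrank_eq hle (by rw [h.finrank_ln, h'.finrank_ln])

theorem commute_iff (H : Base Q) {u w u' w' : ι → F} (h : SPair Q u w) (h' : SPair Q u' w') :
    Commute (E Q u w) (E Q u' w') ↔ Meet (ln u w) (ln u' w') ∨ Perp Q (ln u w) (ln u' w') := by
  rw [E_commute_iff H]
  constructor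
  · intro hc
    by_cases hm : Meet (ln u w) (ln u' w')
    · exact .inl hm
    refine .inr (perp_ln_iff.2 ?_)
    set g := eich Q u w with hg
    have hgg : eich Q (ap g u') (ap g w') = eich Q u' w' := by
      rw [← conj_eich, mul_inv_eq_iff_eq_mul]; exact hc
    have h'' : SPair Q (ap g u') (ap g w') :=
      ⟨by rw [Q_ap, h'.qu], by rw [Q_ap, h'.qw], by rw [polar_ap, h'.p], ap_ne_zero g h'.nu,
        fun hm' => h'.ind (by
          obtain ⟨c, hc'⟩ := Submodule.mem_span_singleton.1 hm'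
          exact Submodule.mem_span_singleton.2 ⟨c, ap_inj g (by rw [map_smul, hc'])⟩)⟩
    have hline := h''.line_eq H.nd h' hgg
    have hzero : ∀ x, ap g x ∈ ln u' w' → x ∈ ln u' w' → polar ⇑Q u x = 0 ∧ polar ⇑Q w x = 0 := by
      intro x hx1 hx2
      have h1 : ap g x - x = 0 := by
        by_contra h0
        exact hm ⟨_, h0, by
          rw [hg, eich_line_ap h]
          exact sub_mem (Submodule.smul_mem _ _ (right_mem_ln _ _))
            (Submodule.smul_mem _ _ (left_mem_ln _ _)), sub_mem hx1 hx2⟩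
      rw [hg, eich_line_ap h] at h1
      have := h.coeff (a := -polar ⇑Q w x) (b := polar ⇑Q u x) (by rw [← h1]; module)
      exact ⟨this.2, neg_eq_zero.1 this.1⟩
    obtain ⟨a1, a2⟩ := hzero u' (hline ▸ left_mem_ln _ _) (left_mem_ln _ _)
    obtain ⟨b1, b2⟩ := hzero w' (hline ▸ right_mem_ln _ _) (right_mem_ln _ _)
    exact ⟨⟨a1, b1⟩, a2, b2⟩
  · rintro (⟨p, hp0, hpL, hpL'⟩ | hp)
    · obtain ⟨a, ha, -, e1⟩ := h.basis_at hpL hp0
      obtain ⟨b, hb, -, e2⟩ := h'.basis_at hpL' hp0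
      rw [e1, e2, Commute, SemiconjBy, eich_add ha.qu ha.p hb.p, eich_add ha.qu hb.p ha.p, add_comm]
    · obtain ⟨⟨h1, h2⟩, h3, h4⟩ := perp_ln_iff.1 hp
      rw [Commute, SemiconjBy, ← mul_inv_eq_iff_eq_mul, conj_eich]
      congr 1
      · rw [eich_ap h.qu h.p, h1, h3]; module
      · rw [eich_ap h.qu h.p, h2, h4]; module

theorem exists_unit_orth (hQ : Q.polarBilin.Nondegenerate) {w : ι → F} {S : Submodule F (ι → F)}
    (hw : w ∉ S) : ∃ y, (∀ s ∈ S, polar ⇑Q s y = 0) ∧ polar ⇑Q w y = 1 := by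
  obtain ⟨y, hy, hwy⟩ := exists_sep_sub hQ hw
  refine ⟨(polar ⇑Q w y)⁻¹ • y, fun s hs => ?_, by rw [pl_smul_right, inv_mul_cancel₀ hwy]⟩
  rw [pl_smul_right, mem_perpSub.1 hy s hs, mul_zero]

theorem left_mem_of_disjoint (hQ : Q.polarBilin.Nondegenerate) {u w u' w' : ι → F}
    (h : SPair Q u w) (hm : ¬ Meet (ln u w) (ln u' w')) {L : Submodule F (ι → F)}
    (himg : ∀ x, (polar ⇑Q u x • w - polar ⇑Q w x • u) +
      (polar ⇑Q u' x • w' - polar ⇑Q w' x • u') ∈ L) : u ∈ L := by
  have hw : w ∉ Submodule.span F {u} ⊔ ln u' w' := by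
    intro hw
    obtain ⟨a, ha, b, hb, hab⟩ := Submodule.mem_sup.1 hw
    obtain ⟨c, rfl⟩ := Submodule.mem_span_singleton.1 ha
    by_cases hb0 : b = 0
    · exact h.ind (Submodule.mem_span_singleton.2 ⟨c, by rw [← hab, hb0, add_zero]⟩)
    · exact hm ⟨b, hb0, by
        rw [show b = w - c • u by rw [← hab]; abel]
        exact sub_mem (right_mem_ln _ _) (Submodule.smul_mem _ _ (left_mem_ln _ _)), hb⟩
  obtain ⟨y, hy, hy1⟩ := exists_unit_orth hQ hw
  have h2 := himg y
  rw [hy u (Submodule.mem_sup_left (Submodule.mem_span_singleton_self u)), hy1,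
    hy u' (Submodule.mem_sup_right (left_mem_ln _ _)),
    hy w' (Submodule.mem_sup_right (right_mem_ln _ _))] at h2
  simpa using h2

theorem line_le_of_disjoint (hQ : Q.polarBilin.Nondegenerate) {u w u' w' : ι → F} (h : SPair Q u w)
    (hm : ¬ Meet (ln u w) (ln u' w')) {L : Submodule F (ι → F)}
    (himg : ∀ x, (polar ⇑Q u x • w - polar ⇑Q w x • u) +
      (polar ⇑Q u' x • w' - polar ⇑Q w' x • u') ∈ L) : ln u w ≤ L := by
  rw [Submodule.span_le, Set.insert_subset_iff, Set.singleton_subset_iff]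
  refine ⟨left_mem_of_disjoint hQ h hm himg, left_mem_of_disjoint hQ (u' := w') (w' := u') h.swap ?_
    fun x => ?_⟩
  · rw [ln, ln, Set.pair_comm w u, Set.pair_comm w' u']; exact hm
  · have := L.neg_mem (himg x)
    convert this using 1
    abel

theorem root_mul_iff (H : Base Q) {u w u' w' : ι → F} (h : SPair Q u w) (h' : SPair Q u' w')
    (hne : ln u w ≠ ln u' w') (hc : Commute (E Q u w) (E Q u' w')) :
    IsRoot (E Q u w * E Q u' w') ↔ Meet (ln u w) (ln u' w') ∧ Perp Q (ln u w) (ln u' w') := by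
  constructor
  · rintro ⟨u'', w'', h'', e⟩
    have hcE := (E_commute_iff H).1 hc
    have e' : eich Q u w * eich Q u' w' = eich Q u'' w'' :=
      om_inj_unip H (mul_mem (H.eich_mem _ _) (H.eich_mem _ _)) (H.eich_mem _ _)
        ((eich_unip _ _).mul (eich_unip _ _) hcE) (eich_unip _ _)
        ((om_mul (H.eich_mem _ _) (H.eich_mem _ _)).trans e)
    have himg : ∀ x, ap (eich Q u w * eich Q u' w') x - x ∈ ln u'' w'' := fun x => by
      rw [e', eich_line_ap h'']
      exact sub_mem (Submodule.smul_mem _ _ (right_mem_ln _ _)) (Submodule.smul_mem _ _ (left_mem_ln _ _))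
    rcases (commute_iff H h h').1 hc with hm | hp
    · refine ⟨hm, ?_⟩
      obtain ⟨p, hp0, hpL, hpL'⟩ := hm
      obtain ⟨a, ha, hla, e1⟩ := h.basis_at hpL hp0
      obtain ⟨b, hb, hlb, e2⟩ := h'.basis_at hpL' hp0
      rw [← hla, ← hlb]
      refine perp_ln_iff.2 ⟨⟨by rw [pl_self, ha.qu, mul_zero], hb.p⟩, by rw [pl_comm]; exact ha.p, ?_⟩
      obtain ⟨x, hx⟩ := exists_hpair_left H.nd ha.qu hp0
      have hi := himg x
      rw [e1, e2, eich_add ha.qu ha.p hb.p,
        eich_ap ha.qu (by rw [pl_add_right, ha.p, hb.p, add_zero]), hx.pf, one_smul] at hi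
      have h0 := (h''.ts hi hi).1
      rw [show x + (a + b) - (polar ⇑Q (a + b) x + Q (a + b) * 1) • p - x =
        (a + b) + (-(polar ⇑Q (a + b) x + Q (a + b) * 1)) • p by module, Q_add,
        Q_smul Q (-(polar ⇑Q (a + b) x + Q (a + b) * 1)) p, ha.qu, pl_smul_right,
        pl_comm Q (a + b) p, pl_add_right Q p, ha.p, hb.p, Q_add Q a b, ha.qw, hb.qw] at h0
      linear_combination h0
    · refine ⟨?_, hp⟩
      by_contra hm
      have key : ∀ x, ap (eich Q u w * eich Q u' w') x - x =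
          (polar ⇑Q u x • w - polar ⇑Q w x • u) + (polar ⇑Q u' x • w' - polar ⇑Q w' x • u') := by
        intro x
        obtain ⟨⟨h1, h2⟩, h3, h4⟩ := perp_ln_iff.1 hp
        rw [ap_mul, eich_ap h'.qu h'.p x, eich_ap h.qu h.p, h.qw, h'.qw]
        simp only [pl_add_right, pl_sub_right, pl_smul_right, h1, h2, h3, h4]
        module
      have l1 := line_le_of_disjoint H.nd h hm fun x => key x ▸ himg x
      have l2 := line_le_of_disjoint H.nd h' (fun m => hm m.symm) fun x => by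
        rw [add_comm]; exact key x ▸ himg x
      exact hne ((h.eq_of_le h'' l1).trans (h'.eq_of_le h'' l2).symm)
  · rintro ⟨⟨p, hp0, hpL, hpL'⟩, hp⟩
    obtain ⟨a, ha, hla, e1⟩ := h.basis_at hpL hp0
    obtain ⟨b, hb, hlb, e2⟩ := h'.basis_at hpL' hp0
    rw [show E Q u w = E Q p a from congrArg om e1, show E Q u' w' = E Q p b from congrArg om e2,
      ← E_add H ha.qu ha.p hb.p]
    refine ⟨p, a + b, ⟨ha.qu, ?_, by rw [pl_add_right, ha.p, hb.p, add_zero], hp0, fun hm => hne ?_⟩, rfl⟩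
    · rw [Q_add, ha.qw, hb.qw, hp _ (hla ▸ right_mem_ln p a) _ (hlb ▸ right_mem_ln p b)]; ring
    · have hbL : b ∈ ln u w := by
        obtain ⟨c, hc'⟩ := Submodule.mem_span_singleton.1 hm
        rw [show b = c • p - a by rw [hc']; abel]
        exact sub_mem (Submodule.smul_mem _ _ hpL) (hla ▸ right_mem_ln p a)
      rw [← hlb, h.line_of_two hpL hbL hp0 hb.ind]

/-! ### relations inside the group -/

/-- Same line. -/
def SameL (x y : POmega F ⇑Q) : Prop :=
  IsRoot x ∧ IsRoot y ∧ ∀ z, IsRoot z → (Commute z x ↔ Commute z y)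

/-- Distinct meeting orthogonal lines. -/
def Coplanar (x y : POmega F ⇑Q) : Prop :=
  IsRoot x ∧ IsRoot y ∧ Commute x y ∧ ¬ SameL x y ∧ IsRoot (x * y)

/-- The roots coplanar to both. -/
def CSet (x y : POmega F ⇑Q) : Set (POmega F ⇑Q) := {z | Coplanar z x ∧ Coplanar z y}

/-- Lines which meet. -/
def Meets (x y : POmega F ⇑Q) : Prop :=
  SameL x y ∨ Coplanar x y ∨ (IsRoot x ∧ IsRoot y ∧ Commute x y ∧ ¬ SameL x y ∧ ¬ Coplanar x y ∧
    (Fintype.card F - 1) * Nat.card (CSet x y) ≠ (Fintype.card F ^ 2 - 1) * (Fintype.card F ^ 2 - 1))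

section Map

variable (H : Base Q) (α : MulAut (POmega F ⇑Q))

include H

theorem sameL_map_iff {x y : POmega F ⇑Q} : SameL (α x) (α y) ↔ SameL x y := by
  simp only [SameL, isRoot_map_iff H α]
  refine and_congr_right fun _ => and_congr_right fun _ => ⟨fun h z hz => ?_, fun h z hz => ?_⟩
  · have := h (α z) ((isRoot_map_iff H α).2 hz)
    rwa [commute_map_iff α.injective, commute_map_iff α.injective] at this
  · obtain ⟨z, rfl⟩ := α.surjective z
    rw [commute_map_iff α.injective, commute_map_iff α.injective]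
    exact h z ((isRoot_map_iff H α).1 hz)

theorem coplanar_map_iff {x y : POmega F ⇑Q} : Coplanar (α x) (α y) ↔ Coplanar x y := by
  simp only [Coplanar, isRoot_map_iff H α, sameL_map_iff H α, commute_map_iff α.injective, ← map_mul]

theorem meets_map_iff {x y : POmega F ⇑Q} : Meets (α x) (α y) ↔ Meets x y := by
  have hC : Nat.card (CSet (α x) (α y)) = Nat.card (CSet x y) := by
    refine (Nat.card_congr (Equiv.subtypeEquiv α.toEquiv fun z => ?_)).symm
    exact (and_congr (coplanar_map_iff H α) (coplanar_map_iff H α)).symm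
  simp only [Meets, isRoot_map_iff H α, sameL_map_iff H α, coplanar_map_iff H α,
    commute_map_iff α.injective, hC]

end Map

theorem same_iff (H : Base Q) {u w u' w' : ι → F} (h : SPair Q u w) (h' : SPair Q u' w') :
    SameL (E Q u w) (E Q u' w') ↔ ln u w = ln u' w' := by
  constructor
  · rintro ⟨-, -, hs⟩
    by_contra hne
    obtain ⟨p, hpL, hpL'⟩ := SetLike.exists_of_lt (lt_of_le_of_ne (inf_le_left : ln u w ⊓ ln u' w' ≤ ln u w)
      fun heq => hne (h.eq_of_le h' (inf_eq_left.1 heq)))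
    have hpn : p ∉ ln u' w' := fun hm => hpL' ⟨hpL, hm⟩
    have hp0 : p ≠ 0 := fun h0 => hpn (h0 ▸ zero_mem _)
    have hQp : Q p = 0 := (h.ts hpL hpL).1
    obtain ⟨b, hb, hb0, hpb⟩ : ∃ b ∈ ln u' w', b ≠ 0 ∧ polar ⇑Q p b = 0 := by
      by_cases hu' : polar ⇑Q p u' = 0
      · exact ⟨u', left_mem_ln _ _, h'.nu, hu'⟩
      refine ⟨(-polar ⇑Q p w') • u' + polar ⇑Q p u' • w', mem_ln.2 ⟨_, _, rfl⟩,
        fun h0 => hu' (h'.coeff h0).2, ?_⟩
      rw [pl_add_right, pl_smul_right, pl_smul_right]; ring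
    have hQb : Q b = 0 := (h'.ts hb hb).1
    have hbn : b ∉ Submodule.span F {p} := fun hm => by
      obtain ⟨c, rfl⟩ := Submodule.mem_span_singleton.1 hm
      refine hpn ?_
      have := Submodule.smul_mem _ c⁻¹ hb
      rwa [inv_smul_smul₀ fun hc : c = 0 => hb0 (by rw [hc, zero_smul])] at this
    obtain ⟨y, hy, hby⟩ := exists_unit_orth H.nd hbn
    have hpy : polar ⇑Q p y = 0 := hy p (Submodule.mem_span_singleton_self p)
    set q := y - Q y • b with hq
    have hQq : Q q = 0 := by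
      rw [hq, Q_sub, Q_smul Q (Q y) b, hQb, pl_smul_right, pl_comm Q y b, hby]; ring
    have hpq : polar ⇑Q p q = 0 := by rw [hq, pl_sub_right, pl_smul_right, hpy, hpb]; ring
    have hbq : polar ⇑Q b q = 1 := by
      rw [hq, pl_sub_right, pl_smul_right, hby, pl_self, hQb]; ring
    have hsp : SPair Q p q := ⟨hQp, hQq, hpq, hp0, fun hm => by
      obtain ⟨c, hc⟩ := Submodule.mem_span_singleton.1 hm
      rw [← hc, pl_smul_right, pl_comm Q b p, hpb, mul_zero] at hbq
      exact zero_ne_one hbq⟩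
    have hc1 : Commute (E Q p q) (E Q u w) :=
      (commute_iff H hsp h).2 (.inl ⟨p, hp0, left_mem_ln _ _, hpL⟩)
    rcases (commute_iff H hsp h').1 ((hs _ ⟨p, q, hsp, rfl⟩).1 hc1) with ⟨z, hz0, hzK, hzL'⟩ | hperp
    · obtain ⟨c, d, rfl⟩ := mem_ln.1 hzK
      have h0 := (h'.ts hb hzL').2
      rw [pl_add_right, pl_smul_right, pl_smul_right, pl_comm Q b p, hpb, hbq, mul_zero, zero_add,
        mul_one] at h0
      subst h0
      rw [zero_smul, add_zero] at hz0 hzL'
      refine hpn ?_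
      have := Submodule.smul_mem _ c⁻¹ hzL'
      rwa [inv_smul_smul₀ fun hc : c = 0 => hz0 (by rw [hc, zero_smul])] at this
    · have := hperp q (right_mem_ln _ _) b hb
      rw [pl_comm, hbq] at this
      exact one_ne_zero this
  · intro hl
    refine ⟨⟨u, w, h, rfl⟩, ⟨u', w', h', rfl⟩, ?_⟩
    rintro _ ⟨a, b, hab, rfl⟩
    rw [commute_iff H hab h, commute_iff H hab h', hl]

theorem coplanar_iff (H : Base Q) {u w u' w' : ι → F} (h : SPair Q u w) (h' : SPair Q u' w') :
    Coplanar (E Q u w) (E Q u' w') ↔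
      ln u w ≠ ln u' w' ∧ Meet (ln u w) (ln u' w') ∧ Perp Q (ln u w) (ln u' w') := by
  constructor
  · rintro ⟨-, -, hc, hs, hr⟩
    have hne : ln u w ≠ ln u' w' := fun hl => hs ((same_iff H h h').2 hl)
    exact ⟨hne, (root_mul_iff H h h' hne hc).1 hr⟩
  · rintro ⟨hne, hm, hp⟩
    have hc := (commute_iff H h h').2 (.inl hm)
    exact ⟨⟨u, w, h, rfl⟩, ⟨u', w', h', rfl⟩, hc, fun hs => hne ((same_iff H h h').1 hs),
      (root_mul_iff H h h' hne hc).2 ⟨hm, hp⟩⟩

end Cfsg.Agent.AutPOmega
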