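import Cfsg.Agent.Lib.AutPOmega.Semilinear

/-!
# Automorphisms of `PΩ(Q)` are induced by semisimilarities (`n ≥ 7`, excluding triality)

* `semi_E` : the semisimilarity automorphism on Eichler classes
* `exists_semi_eq_of` : automorphisms mapping stars to stars are semilinear
* `exists_semi_eq` : every automorphism is induced by a semisimilarity pair
* `gammaPOmega_eq_top`
* `semi_eq_one` : only scalars act trivially (any characteristic)
-/

set_option autoImplicit false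
set_option linter.unusedSectionVars false

namespace Cfsg.Agent.AutPOmega

open Cfsg Matrix Module Cfsg.Agent.Orth
open QuadraticMap (polar)

variable {ι : Type} [Fintype ι] [DecidableEq ι] {F : Type*} [Field F] [Fintype F]
variable {Q : QuadraticForm F (ι → F)}

variable (Q) in
/-- The automorphism of a semisimilarity pair. -/
noncomputable def semiAut {g : GL ι F} {σ : F ≃+* F} (hs : IsSemisimilarityPair ⇑Q g σ) :
    MulAut (POmega F ⇑Q) :=
  FieldAut.indAut FieldAut.omMat_injective ⟨OrthOuter.psi g σ, OrthOuter.semi_keep hs⟩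

theorem semisim_of {g : GL ι F} {σ : F ≃+* F} {c : F} (hc : c ≠ 0)
    (hQ : ∀ v, Q ((g : Matrix ι ι F) *ᵥ (σ ∘ v)) = c * σ (Q v)) : IsSemisimilarityPair ⇑Q g σ :=
  ⟨Units.mk0 c hc, hQ⟩

theorem semi_polar {g : GL ι F} {σ : F ≃+* F} {c : F}
    (hQ : ∀ v, Q ((g : Matrix ι ι F) *ᵥ (σ ∘ v)) = c * σ (Q v)) (u v : ι → F) :
    polar ⇑Q ((g : Matrix ι ι F) *ᵥ (σ ∘ u)) ((g : Matrix ι ι F) *ᵥ (σ ∘ v)) =
      c * σ (polar ⇑Q u v) := by
  have e : σ ∘ (u + v) = σ ∘ u + σ ∘ v := funext fun i => map_add σ _ _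
  simp only [polar, map_sub, mul_sub]
  rw [← Matrix.mulVec_add, ← e, hQ, hQ, hQ]

theorem semi_E (H : Base Q) {g : GL ι F} {σ : F ≃+* F} {c : F} (hc : c ≠ 0)
    (hQ : ∀ v, Q ((g : Matrix ι ι F) *ᵥ (σ ∘ v)) = c * σ (Q v))
    {u w : ι → F} (hu : Q u = 0) (hw : polar ⇑Q u w = 0) :
    semiAut Q (semisim_of hc hQ) (E Q u w) =
      E Q ((g : Matrix ι ι F) *ᵥ (σ ∘ u)) (c⁻¹ • ((g : Matrix ι ι F) *ᵥ (σ ∘ w))) := by
  set U := (g : Matrix ι ι F) *ᵥ (σ ∘ u)
  set W' := (g : Matrix ι ι F) *ᵥ (σ ∘ w)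
  have hU : Q U = 0 := by rw [hQ, hu, map_zero, mul_zero]
  have hUW : polar ⇑Q U (c⁻¹ • W') = 0 := by
    rw [pl_smul_right, semi_polar hQ, hw, map_zero, mul_zero, mul_zero]
  rw [E, E, om_of_mem (H.eich_mem u w), om_of_mem (H.eich_mem U _), semiAut, FieldAut.indAut_mk]
  refine congrArg _ (FieldAut.omMat_injective ?_)
  rw [FieldAut.mat_liftAut]
  refine Units.ext (Matrix.ext_of_mulVec_single fun i => ?_)
  set x : ι → F := Pi.single i 1
  show ((g * FieldAut.galGL σ (eich Q u w : GL ι F) * g⁻¹ : GL ι F) : Matrix ι ι F) *ᵥ x =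
    ap (eich Q U (c⁻¹ • W')) x
  obtain ⟨y, hy⟩ : ∃ y : ι → F, σ ∘ y = ((g⁻¹ : GL ι F) : Matrix ι ι F) *ᵥ x :=
    ⟨σ.symm ∘ (((g⁻¹ : GL ι F) : Matrix ι ι F) *ᵥ x), funext fun j => by simp⟩
  have hx : x = (g : Matrix ι ι F) *ᵥ (σ ∘ y) := by
    rw [hy, Matrix.mulVec_mulVec, ← Units.val_mul, mul_inv_cancel, Units.val_one, Matrix.one_mulVec]
  rw [Units.val_mul, Units.val_mul, ← Matrix.mulVec_mulVec, ← hy, ← Matrix.mulVec_mulVec,
    FieldAut.galGL_mulVec, ← ap_apply, eich_ap hu hw, eich_ap hU hUW, pl_smul_left, Q_smul, hQ]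
  conv_rhs => rw [hx, semi_polar hQ, semi_polar hQ]
  have e : σ ∘ (y + polar ⇑Q u y • w - (polar ⇑Q w y + Q w * polar ⇑Q u y) • u) =
      σ ∘ y + σ (polar ⇑Q u y) • (σ ∘ w) - (σ (polar ⇑Q w y) + σ (Q w) * σ (polar ⇑Q u y)) • (σ ∘ u) := by
    funext j; simp
  rw [e, Matrix.mulVec_sub, Matrix.mulVec_add, Matrix.mulVec_smul, Matrix.mulVec_smul, smul_smul]
  congr 2
  · congr 1; field_simp
  · field_simp

theorem braid_of (H : Base Q) {e f w z : ι → F} (h : HPair Q e f) (hw : w ∈ perp Q e f)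
    (hz : z ∈ perp Q e f) (hwz : HPair Q w z) {t b : F} (htb : t * b = 1) :
    E Q e (t • w) * E Q f (b • z) * E Q e (t • w) = E Q f (b • z) * E Q e (t • w) * E Q f (b • z) := by
  obtain ⟨hew, hfw⟩ := mem_perp.1 hw
  obtain ⟨hez, hfz⟩ := mem_perp.1 hz
  have hfe : polar ⇑Q f e = 1 := by rw [pl_comm]; exact h.pf
  have hX : polar ⇑Q e (t • w) = 0 := by rw [pl_smul_right, hew, mul_zero]
  have hY : polar ⇑Q f (b • z) = 0 := by rw [pl_smul_right, hfz, mul_zero]
  set X := eich Q e (t • w)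
  set Y := eich Q f (b • z)
  have hb : b ≠ 0 := right_ne_zero_of_mul_eq_one htb
  have e1 : ap (X * Y) e = b • z := by
    rw [ap_mul, eich_ap h.qf hY, hfe, Q_smul, hwz.qf, pl_smul_left, pl_comm Q z e, hez,
      eich_ap h.qe hX, Q_smul, hwz.qe]
    simp only [pl_add_right, pl_sub_right, pl_smul_right, pl_smul_left, pl_self, h.qe, hez,
      pl_comm Q w e, hew, hwz.pf, one_mul, mul_zero, zero_mul, add_zero]
    match_scalars <;> first | ring1 | linear_combination -htb | linear_combination -t * htb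
  have e2 : ap (X * Y) (t • w) = (-1 : F) • f := by
    rw [ap_mul, eich_ap h.qf hY, Q_smul, hwz.qf, pl_smul_left, pl_smul_right, hfw, pl_smul_right,
      pl_comm Q z w, hwz.pf, eich_ap h.qe hX]
    simp only [Q_smul, pl_add_right, pl_sub_right, pl_smul_right, pl_smul_left, pl_self, hwz.qe, hew,
      pl_comm Q w f, hfw, hez, h.pf, mul_zero, zero_mul, add_zero, sub_zero]
    match_scalars <;> first | ring1 | linear_combination -htb | linear_combination -t * htb
  have hsz : SPair Q f ((-b) • z) :=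
    (spair_perp h.swap (by rwa [perp_swap]) hwz.swap.ne_zero hwz.qf).smul_right (neg_ne_zero.2 hb)
  have key : X * Y * X * (X * Y)⁻¹ = Y := by
    rw [conj_eich, e1, e2,
      show eich Q (b • z) ((-1 : F) • f) = eich Q ((-b) • z) f by
        rw [← eich_smul_left, smul_smul, neg_one_mul],
      hsz.eich_swap, smul_smul, neg_one_mul, neg_neg]
  have hXY : X * Y * X = Y * X * Y := by rw [mul_assoc Y, ← mul_inv_eq_iff_eq_mul]; exact key
  show om X * om Y * om X = om Y * om X * om Y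
  have mX : X ∈ Omega F ⇑Q := H.eich_mem _ _
  have mY : Y ∈ Omega F ⇑Q := H.eich_mem _ _
  rw [← om_mul mX mY, ← om_mul (mul_mem mX mY) mX, ← om_mul mY mX, ← om_mul (mul_mem mY mX) mY, hXY]

theorem eq_of_braid (H : Base Q) {e f w z : ι → F} (h : HPair Q e f) (hw : w ∈ perp Q e f)
    (hz : z ∈ perp Q e f) (hwz : HPair Q w z) {t b : F} (ht : t ≠ 0)
    (hbr : E Q e (t • w) * E Q f (b • z) * E Q e (t • w) = E Q f (b • z) * E Q e (t • w) * E Q f (b • z)) :
    t * b = 1 := by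
  obtain ⟨hew, hfw⟩ := mem_perp.1 hw
  obtain ⟨hez, hfz⟩ := mem_perp.1 hz
  have hX : polar ⇑Q e (t • w) = 0 := by rw [pl_smul_right, hew, mul_zero]
  have hY : polar ⇑Q f (b • z) = 0 := by rw [pl_smul_right, hfz, mul_zero]
  set X := eich Q e (t • w)
  set Y := eich Q f (b • z)
  have mX : X ∈ Omega F ⇑Q := H.eich_mem _ _
  have mY : Y ∈ Omega F ⇑Q := H.eich_mem _ _
  have hbr' : om (X * Y * X) = om (Y * X * Y) := by
    rw [om_mul (mul_mem mX mY) mX, om_mul mX mY, om_mul (mul_mem mY mX) mY, om_mul mY mX]; exact hbr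
  obtain ⟨a, -, ha⟩ := (om_eq_iff H (mul_mem (mul_mem mX mY) mX) (mul_mem (mul_mem mY mX) mY)).1 hbr'
  have hff : polar ⇑Q f f = 0 := by rw [pl_self, h.qf, mul_zero]
  have y1 : ap Y f = f := by
    rw [eich_ap h.qf hY, hff, pl_smul_left, pl_comm Q z f, hfz]; simp
  have x1 : ap X f = f + t • w := by
    rw [eich_ap h.qe hX, Q_smul, hwz.qe, h.pf, pl_smul_left, pl_comm Q w f, hfw]; module
  have y2 : ap Y (f + t • w) = (1 - t * b) • f + t • w := by
    rw [eich_ap h.qf hY, Q_smul, hwz.qf]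
    simp only [pl_add_right, pl_smul_right, pl_smul_left, hff, hfw, pl_comm Q z f, hfz, pl_comm Q z w,
      hwz.pf]
    module
  have x2 : ap X ((1 - t * b) • f + t • w) = (1 - t * b) • f + ((2 - t * b) * t) • w := by
    rw [eich_ap h.qe hX]
    simp only [Q_smul, pl_add_right, pl_smul_right, pl_smul_left, pl_self, hwz.qe, h.pf, hew, pl_comm Q w f, hfw]
    module
  have key := ha f
  simp only [ap_mul, y1, x1, y2, x2] at key
  have k1 := congrArg (polar ⇑Q z) key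
  have k2 := congrArg (polar ⇑Q e) key
  simp only [pl_add_right, pl_smul_right, pl_comm Q z f, hfz, pl_comm Q z w, hwz.pf, h.pf, hew] at k1 k2
  by_cases hone : a = 1
  · subst hone
    exact mul_left_cancel₀ ht (by linear_combination k1)
  · have h2 : (1 - t * b) * (1 - a) = 0 := by linear_combination k2
    linear_combination -(mul_eq_zero.1 h2).resolve_right (sub_ne_zero.2 (Ne.symm hone))

variable (Q) in
/-- `α` maps the star at `u` to a star. -/
def Pt (α : MulAut (POmega F ⇑Q)) (u : ι → F) : Prop :=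
  ∃ u', Q u' = 0 ∧ u' ≠ 0 ∧ ∀ z, α z ∈ Star Q u' ↔ z ∈ Star Q u

theorem pt_of_fix (H : Base Q) (γ : MulAut (POmega F ⇑Q)) {e f : ι → F} (h : HPair Q e f)
    (hU : ∀ w ∈ perp Q e f, γ (E Q e w) = E Q e w) : Pt Q γ e := by
  refine ⟨e, h.qe, h.ne_zero, fun z => ⟨fun hz => ?_, fun hz => ?_⟩⟩
  · obtain ⟨w, hw, -, -, he⟩ := star_eq_perp H h hz
    rw [← hU w hw] at he
    rw [γ.injective he] at hz ⊢
    rwa [hU w hw] at hz
  · obtain ⟨w, hw, -, -, rfl⟩ := star_eq_perp H h hz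
    rwa [hU w hw]

theorem eq_one_of_fix (H : Base Q) (γ : MulAut (POmega F ⇑Q)) {e f : ι → F} (h : HPair Q e f)
    (hU : ∀ w ∈ perp Q e f, γ (E Q e w) = E Q e w) (hf : ∀ z, z ∈ Star Q f → γ z ∈ Star Q f)
    (hpt : ∀ u, Q u = 0 → u ≠ 0 → Pt Q γ u) : γ = 1 := by
  obtain ⟨e2, f2, h2, he2, hf2, -, -⟩ := exists_two_hpairs H h
  obtain ⟨hnd, -⟩ := finrank_perp_eq H.nd h
  have hUf : ∀ z ∈ perp Q e f, Q z = 0 → γ (E Q f z) = E Q f z := by
    intro z hz hQz
    by_cases hz0 : z = 0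
    · rw [hz0, E_zero, map_one]
    have hzf := spair_perp h.swap (by rwa [perp_swap]) hz0 hQz
    have hze := spair_perp h hz hz0 hQz
    obtain ⟨z', hz', hz'0, hQz', he⟩ := star_eq_perp H h.swap
      (hf _ ((star_iff H h.qf h.swap.ne_zero hzf).2 (left_mem_ln _ _)))
    have hz'' : z' ∈ perp Q e f := by rwa [perp_swap] at hz'
    have hz'f := spair_perp h.swap hz' hz'0 hQz'
    obtain ⟨p, hp0, hp1, hp2⟩ : Meet (ln e z) (ln f z') := by
      obtain ⟨p, hQp, hp0, hp⟩ := hpt z hQz hz0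
      have k1 := (hp _).2 ((star_iff H hQz hz0 hze).2 (right_mem_ln _ _))
      have k2 := (hp _).2 ((star_iff H hQz hz0 hzf).2 (right_mem_ln _ _))
      rw [hU z hz, star_iff H hQp hp0 hze] at k1
      rw [he, star_iff H hQp hp0 hz'f] at k2
      exact ⟨p, hp0, k1, k2⟩
    obtain ⟨s, t, hst⟩ := mem_ln.1 hp1
    obtain ⟨s', t', hst'⟩ := mem_ln.1 hp2
    obtain ⟨hs, hs', hrest⟩ := FieldAut.HPair.coeffs h
      (x := t • z - t' • z') (sub_mem (Submodule.smul_mem _ _ hz) (Submodule.smul_mem _ _ hz''))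
      (α := s) (β := -s') (by linear_combination (norm := module) hst - hst')
    rw [neg_eq_zero] at hs'
    rw [hs', zero_smul, zero_add] at hst'
    have ht' : t' ≠ 0 := fun h0 => hp0 (by rw [← hst', h0, zero_smul])
    have hk : z' = (t'⁻¹ * t) • z := by
      rw [mul_smul, sub_eq_zero.1 hrest, inv_smul_smul₀ ht']
    set k := t'⁻¹ * t
    obtain ⟨w, hw, hzw⟩ := exists_hpair_in hnd hz hQz hz0
    have hb := braid_of H h hw hz hzw.swap (t := 1) (b := 1) (one_mul 1)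
    simp only [one_smul] at hb
    have hg := congrArg γ hb
    simp only [map_mul, hU w hw, he] at hg
    rw [hk] at hg
    have hk1 : (1 : F) * k = 1 := eq_of_braid H h hw hz hzw.swap (t := 1) (b := k) one_ne_zero
      (by rw [one_smul]; exact hg)
    rw [he, hk, show k = 1 by rw [← hk1, one_mul], one_smul]
  have hall : ∀ z ∈ perp Q e f, γ (E Q f z) = E Q f z := by
    refine singular_induction h2 he2 hf2 (P := fun z => γ (E Q f z) = E Q f z) ?_ hUf
    intro a ha b hb ea eb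
    rw [E_add H h.qf (mem_perp.1 ha).2 (mem_perp.1 hb).2, map_mul, ea, eb]
  have hgen : ∀ g ∈ eichPair Q e f, g ∈ Omega F ⇑Q ∧ γ (om g) = om g := by
    intro g hg
    induction hg using Subgroup.closure_induction with
    | mem x hx =>
      obtain ⟨w, hw, rfl | rfl⟩ := hx
      · exact ⟨H.eich_mem _ _, hU w hw⟩
      · exact ⟨H.eich_mem _ _, hall w hw⟩
    | one => exact ⟨one_mem _, by rw [om_one, map_one]⟩
    | mul x y _ _ hx hy =>
      exact ⟨mul_mem hx.1 hy.1, by rw [om_mul hx.1 hy.1, map_mul, hx.2, hy.2]⟩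
    | inv x _ hx => exact ⟨inv_mem hx.1, by rw [om_inv hx.1, map_inv, hx.2]⟩
  refine MulEquiv.ext fun x => ?_
  obtain ⟨g, hg, rfl⟩ := exists_om x
  have h7 := H.seven
  rw [omega_eq_eichPair (Good.of_card H.nd (.inr (by omega))) (by omega) (.inr (by omega)) h] at hg
  rw [(hgen g hg).2, MulAut.one_apply]

/-- An automorphism mapping stars to stars is induced by a semisimilarity. -/
theorem exists_semi_eq_of (H : Base Q)
    (hall : ∀ (γ : MulAut (POmega F ⇑Q)) (e : ι → F), Q e = 0 → e ≠ 0 → Pt Q γ e →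
      ∀ u, Q u = 0 → u ≠ 0 → Pt Q γ u)
    (α : MulAut (POmega F ⇑Q)) (hα : ∀ u, Q u = 0 → u ≠ 0 → Pt Q α u) :
    ∃ (g : GL ι F) (σ : F ≃+* F) (hs : IsSemisimilarityPair ⇑Q g σ), α = semiAut Q hs := by
  obtain ⟨e, f, h⟩ := exists_hpair H.nd (by have := H.seven; omega)
  obtain ⟨e', he', he'0, h1⟩ := hα e h.qe h.ne_zero
  obtain ⟨f₁, hf₁, hf₁0, h2⟩ := hα f h.qf h.swap.ne_zero
  have hne := star_image_opposite H α h he' he'0 hf₁ hf₁0 h1 h2
  set d := (polar ⇑Q e' f₁)⁻¹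
  set f' := d • f₁
  have hd : d ≠ 0 := inv_ne_zero hne
  have h' : HPair Q e' f' := ⟨he', by rw [Q_smul, hf₁, mul_zero], by rw [pl_smul_right, inv_mul_cancel₀ hne]⟩
  have hstar : ∀ z, α z ∈ Star Q f' ↔ z ∈ Star Q f := fun z => by
    rw [← h2]
    constructor <;> intro hz <;> obtain ⟨a, b, hs, he⟩ := hz.1 <;> rw [he] at hz ⊢
    · have := (star_iff H h'.qf h'.swap.ne_zero hs).1 hz
      refine (star_iff H hf₁ hf₁0 hs).2 ?_
      have h3 := Submodule.smul_mem _ d⁻¹ this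
      rwa [inv_smul_smul₀ hd] at h3
    · exact (star_iff H h'.qf h'.swap.ne_zero hs).2
        (Submodule.smul_mem _ d ((star_iff H hf₁ hf₁0 hs).1 hz))
  obtain ⟨g, σ, c, hc, hQ, hgf, hU⟩ := exists_semisim H α h h' h1
  refine ⟨g, σ, semisim_of hc hQ, ?_⟩
  set β := semiAut Q (semisim_of hc hQ)
  suffices hh : β⁻¹ * α = 1 by rw [inv_mul_eq_one] at hh; exact hh.symm
  have hfix : ∀ w ∈ perp Q e f, (β⁻¹ * α) (E Q e w) = E Q e w := fun w hw => by
    rw [MulAut.mul_apply, hU w hw, ← semi_E H hc hQ h.qe (mem_perp.1 hw).1]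
    exact β.symm_apply_apply _
  refine eq_one_of_fix H _ h hfix (fun z hz => ?_) (hall _ e h.qe h.ne_zero (pt_of_fix H _ h hfix))
  · set y := (β⁻¹ * α) z
    have hy : β y = α z := β.apply_symm_apply _
    have hrz : IsRoot y := IsRoot.map H _ hz.1
    obtain ⟨a, b, hs, hab⟩ := hrz
    have h3 := (hstar z).2 hz
    rw [← hy, hab, semi_E H hc hQ hs.qu hs.p] at h3
    have hr2 : IsRoot (β (E Q a b)) := IsRoot.map H β ⟨a, b, hs, rfl⟩
    set A := (g : Matrix ι ι F) *ᵥ (σ ∘ a)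
    set B := (g : Matrix ι ι F) *ᵥ (σ ∘ b)
    have hinj : Function.Injective fun v : ι → F => (g : Matrix ι ι F) *ᵥ (σ ∘ v) := fun u v huv => by
      have h4 := Matrix.mulVec_injective_of_isUnit g.isUnit huv
      exact funext fun i => σ.injective (congrFun h4 i)
    have hsm : ∀ (k : F) (v : ι → F), (g : Matrix ι ι F) *ᵥ (σ ∘ (k • v)) =
        σ k • ((g : Matrix ι ι F) *ᵥ (σ ∘ v)) := fun k v => by
      rw [show σ ∘ (k • v) = σ k • (σ ∘ v) by funext i; simp, Matrix.mulVec_smul]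
    have hsAB : SPair Q A (c⁻¹ • B) := by
      refine SPair.smul_right ⟨by rw [hQ, hs.qu, map_zero, mul_zero], by rw [hQ, hs.qw, map_zero, mul_zero],
        by rw [semi_polar hQ, hs.p, map_zero, mul_zero], fun h0 => hs.nu (hinj (h0.trans ?_)),
        fun hm => hs.ind ?_⟩ (inv_ne_zero hc)
      · simp [show σ ∘ (0 : ι → F) = 0 by funext i; simp]
      · obtain ⟨k, hk⟩ := Submodule.mem_span_singleton.1 hm
        exact Submodule.mem_span_singleton.2 ⟨σ.symm k, hinj (by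
          show (g : Matrix ι ι F) *ᵥ (σ ∘ (σ.symm k • a)) = B
          rw [hsm, RingEquiv.apply_symm_apply, hk])⟩
    obtain ⟨r, s, hrs⟩ := mem_ln.1 ((star_iff H h'.qf h'.swap.ne_zero hsAB).1 h3)
    rw [hab, star_iff H h.qf h.swap.ne_zero hs]
    refine mem_ln.2 ⟨σ.symm r, σ.symm (s * c⁻¹), hinj ?_⟩
    show (g : Matrix ι ι F) *ᵥ (σ ∘ (σ.symm r • a + σ.symm (s * c⁻¹) • b)) = (g : Matrix ι ι F) *ᵥ (σ ∘ f)
    rw [show σ ∘ (σ.symm r • a + σ.symm (s * c⁻¹) • b) = r • (σ ∘ a) + (s * c⁻¹) • (σ ∘ b) by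
      funext i; simp, Matrix.mulVec_add, Matrix.mulVec_smul, Matrix.mulVec_smul, hgf, ← hrs, smul_smul]

/-- Every automorphism of `PΩ(Q)` is induced by a semisimilarity. -/
theorem exists_semi_eq (H : Hyp Q) (α : MulAut (POmega F ⇑Q)) :
    ∃ (g : GL ι F) (σ : F ≃+* F) (hs : IsSemisimilarityPair ⇑Q g σ), α = semiAut Q hs :=
  exists_semi_eq_of H.toBase (fun γ _ _ _ _ _ hu hu0 => exists_star_image H γ hu hu0) α
    fun _ hu hu0 => exists_star_image H α hu hu0

theorem gammaPOmega_eq_top (H : Hyp Q) : gammaPOmega F ⇑Q = ⊤ := by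
  rw [eq_top_iff]
  intro α _
  obtain ⟨g, σ, hs, he⟩ := exists_semi_eq H α
  exact Subgroup.subset_closure ⟨g, σ, hs, (OrthOuter.semi_induced FieldAut.omMat_injective hs α).2 he⟩

/-- Only scalars act trivially. -/
theorem semi_eq_one (H : Base Q) {g : GL ι F} {σ : F ≃+* F} (hs : IsSemisimilarityPair ⇑Q g σ)
    (h1 : semiAut Q hs = 1) : σ = 1 ∧ g ∈ Geo.scalars ι F := by
  obtain ⟨c, hc'⟩ := id hs
  have hQ : ∀ v, Q ((g : Matrix ι ι F) *ᵥ (σ ∘ v)) = (c : F) * σ (Q v) := hc'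
  have hpt : ∀ v, v ≠ 0 → Q v = 0 → ∃ a : F, (g : Matrix ι ι F) *ᵥ (σ ∘ v) = a • v := by
    intro v hv0 hQv
    obtain ⟨f, h⟩ := exists_hpair_left H.nd hQv hv0
    obtain ⟨e2, f2, h2, he2, hf2, -, -⟩ := exists_two_hpairs H h
    set Gs : (ι → F) → (ι → F) := fun x => (g : Matrix ι ι F) *ᵥ (σ ∘ x)
    have fix : ∀ y ∈ perp Q v f, y ≠ 0 → Q y = 0 → ∃ s t : F, Gs v = s • v + t • y := by
      intro y hy hy0 hQy
      have hsp := spair_perp h hy hy0 hQy
      have e1 : semiAut Q hs (E Q v y) = E Q v y := by rw [h1, MulAut.one_apply]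
      rw [show semiAut Q hs = semiAut Q (semisim_of c.ne_zero hQ) from rfl,
        semi_E H c.ne_zero hQ hQv hsp.p] at e1
      have hroot : IsRoot (E Q (Gs v) ((c : F)⁻¹ • Gs y)) := e1 ▸ ⟨v, y, hsp, rfl⟩
      have hG0 : Gs v ≠ 0 := fun h0 => hv0 (funext fun i => by
        have h4 := Matrix.mulVec_injective_of_isUnit g.isUnit
          (h0.trans (Matrix.mulVec_zero (g : Matrix ι ι F)).symm)
        simpa using congrFun h4 i)
      have hGQ : Q (Gs v) = 0 := by rw [hQ, hQv, map_zero, mul_zero]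
      have hin : E Q v y ∈ Star Q (Gs v) :=
        ⟨⟨v, y, hsp, rfl⟩, _, by rw [pl_smul_right, semi_polar hQ, hsp.p, map_zero, mul_zero, mul_zero],
          e1.symm⟩
      obtain ⟨s, t, hst⟩ := mem_ln.1 ((star_iff H hGQ hG0 hsp).1 hin)
      exact ⟨s, t, hst.symm⟩
    obtain ⟨s, t, hst⟩ := fix e2 he2 h2.ne_zero h2.qe
    obtain ⟨s', t', hst'⟩ := fix f2 hf2 h2.swap.ne_zero h2.qf
    refine ⟨s, ?_⟩
    have h3 := congrArg (polar ⇑Q f2) (hst.symm.trans hst')
    simp only [pl_add_right, pl_smul_right, pl_self, h2.qf, pl_comm Q f2 e2, h2.pf,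
      pl_comm Q f2 v, (mem_perp.1 hf2).1] at h3
    have ht : t = 0 := by linear_combination h3
    show Gs v = s • v
    rw [hst, ht, zero_smul, add_zero]
  obtain ⟨e, f, h⟩ := exists_hpair H.nd (by have := H.seven; omega)
  obtain ⟨e2, f2, h2, he2, hf2, -, -⟩ := exists_two_hpairs H h
  obtain ⟨a, ha⟩ := hpt e h.ne_zero h.qe
  obtain ⟨a2, ha2⟩ := hpt e2 h2.ne_zero h2.qe
  have hσ : σ = 1 := by
    refine RingEquiv.ext fun k => ?_
    have hne : ∀ k : F, e + k • e2 ≠ 0 := fun k h0 => by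
      have h3 := congrArg (polar ⇑Q f) h0
      rw [pl_add_right, pl_smul_right, (mem_perp.1 he2).2, pl_comm Q f e, h.pf, pl_zero_right, mul_zero,
        add_zero] at h3
      exact one_ne_zero h3
    have hz : ∀ k : F, ∃ r : F, (a • e + σ k • (a2 • e2) : ι → F) = r • (e + k • e2) := fun k => by
      obtain ⟨r, hr⟩ := hpt (e + k • e2) (hne k) (by
        rw [Q_add, Q_smul, h.qe, h2.qe, pl_smul_right, (mem_perp.1 he2).1]; ring)
      exact ⟨r, by rw [← hr, show σ ∘ (e + k • e2) = σ ∘ e + σ k • (σ ∘ e2) by funext i; simp,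
        Matrix.mulVec_add, Matrix.mulVec_smul, ha, ha2]⟩
    have hco : ∀ k : F, σ k * a2 = a * k := fun k => by
      obtain ⟨r, hr⟩ := hz k
      have h3 := congrArg (polar ⇑Q f) hr
      have h4 := congrArg (polar ⇑Q f2) hr
      simp only [pl_add_right, pl_smul_right, pl_comm Q f e, h.pf, (mem_perp.1 he2).2, pl_comm Q f2 e2,
        h2.pf, pl_comm Q f2 e, (mem_perp.1 hf2).1] at h3 h4
      linear_combination h4 - k * h3
    have h1' := hco 1
    rw [map_one, one_mul, mul_one] at h1'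
    have ha0 : a ≠ 0 := fun h0 => by
      rw [h0, zero_smul] at ha
      have h4 := Matrix.mulVec_injective_of_isUnit g.isUnit
        (ha.trans (Matrix.mulVec_zero (g : Matrix ι ι F)).symm)
      exact h.ne_zero (funext fun i => by simpa using congrFun h4 i)
    show σ k = k
    have := hco k
    rw [h1', mul_comm] at this
    exact mul_left_cancel₀ ha0 this
  subst hσ
  exact ⟨rfl, FieldAut.mem_scalars_of_singular_eigen H.nd (by have := H.seven; omega) g fun v hv0 hQv => by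
    simpa using hpt v hv0 hQv⟩

end Cfsg.Agent.AutPOmega
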