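import Cfsg.Agent.Lib.AutPOmega.Lines

/-!
# Automorphisms of `PΩ(Q)`: meeting lines are recognised by counting

* `card_singular_rec` : singular vectors of a non-degenerate space through a hyperbolic pair
* `count_perp` : disjoint orthogonal lines have `(q²-1)²/(q-1)` common coplanar roots
* `count_meet` : meeting non-orthogonal lines have a different number
* `meets_iff`
-/

set_option autoImplicit false
set_option linter.unusedSectionVars false

namespace Cfsg.Agent.AutPOmega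

open Cfsg Matrix Module Cfsg.Agent.Orth
open QuadraticMap (polar)

variable {ι : Type} [Fintype ι] [DecidableEq ι] {F : Type*} [Field F] [Fintype F]
variable {Q : QuadraticForm F (ι → F)}

/-- The singular vectors of a subspace, zero included. -/
abbrev SVec (Q : QuadraticForm F (ι → F)) (W : Submodule F (ι → F)) : Type _ :=
  {s : ι → F // s ∈ W ∧ Q s = 0}

theorem coords {e f : ι → F} (h : HPair Q e f) {w : ι → F} (hw : w ∈ perp Q e f) (a b : F) :
    polar ⇑Q f (a • e + b • f + w) = a ∧ polar ⇑Q e (a • e + b • f + w) = b ∧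
      wPart Q e f (a • e + b • f + w) = w := by
  have h1 : polar ⇑Q f (a • e + b • f + w) = a := by
    simp only [pl_add_right, pl_smul_right, pl_self, h.qf, pl_comm Q f e, h.pf, (mem_perp.1 hw).2]
    ring
  have h2 : polar ⇑Q e (a • e + b • f + w) = b := by
    simp only [pl_add_right, pl_smul_right, pl_self, h.qe, h.pf, (mem_perp.1 hw).1]
    ring
  refine ⟨h1, h2, ?_⟩
  rw [wPart, h1, h2]; abel

theorem card_singular_rec {W : Submodule F (ι → F)} {e f : ι → F} (h : HPair Q e f) (he : e ∈ W)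
    (hf : f ∈ W) :
    Nat.card (SVec Q W) = Fintype.card F * Nat.card (SVec Q (W ⊓ perp Q e f)) +
      (Fintype.card F - 1) * Fintype.card F ^ finrank F ↥(W ⊓ perp Q e f) := by
  classical
  set W' := W ⊓ perp Q e f
  let ψ : (F × SVec Q W') ⊕ ({b : F // b ≠ 0} × W') → SVec Q W := Sum.elim
    (fun x => ⟨x.1 • e + (0 : F) • f + x.2.1,
      add_mem (add_mem (W.smul_mem _ he) (W.smul_mem _ hf)) x.2.2.1.1,
      by rw [h.Q_comb x.2.2.1.2, x.2.2.2]; ring⟩)
    (fun x => ⟨(-Q x.2.1 / x.1.1) • e + x.1.1 • f + x.2.1,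
      add_mem (add_mem (W.smul_mem _ he) (W.smul_mem _ hf)) x.2.2.1,
      by rw [h.Q_comb x.2.2.2, div_mul_cancel₀ _ x.1.2]; ring⟩)
  have hinj : Function.Injective ψ := by
    rintro (⟨a, w, hw⟩ | ⟨⟨b, hb⟩, w, hw⟩) (⟨a', w', hw'⟩ | ⟨⟨b', hb'⟩, w', hw'⟩) heq <;>
      replace heq := congrArg Subtype.val heq <;> simp only [ψ, Sum.elim_inl, Sum.elim_inr] at heq
    · obtain ⟨a1, a2, a3⟩ := coords h hw.1.2 a 0
      obtain ⟨b1, b2, b3⟩ := coords h hw'.1.2 a' 0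
      rw [heq, b1] at a1; rw [heq, b3] at a3
      subst a1; subst a3; rfl
    · obtain ⟨a1, a2, a3⟩ := coords h hw.1.2 a 0
      obtain ⟨b1, b2, b3⟩ := coords h hw'.2 (-Q w' / b') b'
      rw [heq, b2] at a2
      exact absurd a2 hb'
    · obtain ⟨a1, a2, a3⟩ := coords h hw'.1.2 a' 0
      obtain ⟨b1, b2, b3⟩ := coords h hw.2 (-Q w / b) b
      rw [heq, a2] at b2
      exact absurd b2.symm hb
    · obtain ⟨a1, a2, a3⟩ := coords h hw.2 (-Q w / b) b
      obtain ⟨b1, b2, b3⟩ := coords h hw'.2 (-Q w' / b') b'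
      rw [heq, b2] at a2; rw [heq, b3] at a3
      subst a2; subst a3; rfl
  have hsurj : Function.Surjective ψ := by
    rintro ⟨s, hs, hQs⟩
    have hw : wPart Q e f s ∈ W' :=
      ⟨sub_mem (sub_mem hs (W.smul_mem _ he)) (W.smul_mem _ hf), h.wPart_mem s⟩
    have hdec := decomp (Q := Q) e f s
    have hQ := hQs
    rw [hdec, h.Q_comb hw.2] at hQ
    by_cases hb : polar ⇑Q e s = 0
    · refine ⟨.inl (polar ⇑Q f s, ⟨_, hw, ?_⟩), Subtype.ext ?_⟩
      · rw [hb] at hQ; linear_combination hQ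
      · show polar ⇑Q f s • e + (0 : F) • f + wPart Q e f s = s
        rw [← hb]; exact hdec.symm
    · refine ⟨.inr (⟨_, hb⟩, ⟨_, hw⟩), Subtype.ext ?_⟩
      show (-Q (wPart Q e f s) / polar ⇑Q e s) • e + _ + _ = s
      rw [show -Q (wPart Q e f s) / polar ⇑Q e s = polar ⇑Q f s by
        field_simp; linear_combination -hQ]
      exact hdec.symm
  rw [← Nat.card_congr (Equiv.ofBijective ψ ⟨hinj, hsurj⟩), Nat.card_sum, Nat.card_prod, Nat.card_prod,
    Module.natCard_eq_pow_finrank (K := F) (V := ↥W'), Nat.card_eq_fintype_card (α := F),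
    Nat.card_eq_fintype_card (α := {b : F // b ≠ 0}), Fintype.card_subtype_compl,
    Fintype.card_subtype_eq]

theorem card_nonzero (W : Submodule F (ι → F)) :
    Nat.card {a : ↥W // a ≠ 0} = Fintype.card F ^ finrank F ↥W - 1 := by
  classical
  rw [Nat.card_eq_fintype_card, Fintype.card_subtype_compl, Fintype.card_subtype_eq,
    ← Nat.card_eq_fintype_card, Module.natCard_eq_pow_finrank (K := F) (V := ↥W),
    Nat.card_eq_fintype_card]

theorem arith_ne {q d S : ℕ} (hq : 2 ≤ q) (hS : 1 ≤ S)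
    (hd : (d = 1 ∨ d = 2) ∧ S = 1 ∨ 3 ≤ d ∧ q ≤ S) :
    (q - 1) * (q * S + (q - 1) * q ^ d - 1) ≠ (q ^ 2 - 1) * (q ^ 2 - 1) := by
  obtain ⟨k, rfl⟩ : ∃ k, q = k + 2 := ⟨q - 2, by omega⟩
  have e1 : k + 2 - 1 = k + 1 := by omega
  have e2 : (k + 2) ^ 2 - 1 = (k + 1) * (k + 3) := by
    have : (k + 2) ^ 2 = (k + 1) * (k + 3) + 1 := by ring
    omega
  rw [e1, e2, show (k + 1) * (k + 3) * ((k + 1) * (k + 3)) = (k + 1) * ((k + 1) * (k + 3) ^ 2) by ring]
  intro h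
  have h' := Nat.eq_of_mul_eq_mul_left (by omega) h
  rcases hd with ⟨hd, rfl⟩ | ⟨hd, hS'⟩
  · rcases hd with rfl | rfl
    · have : (k + 2) * 1 + (k + 1) * (k + 2) ^ 1 = (k + 1) * (k + 3) + 1 := by ring
      have h3 : (k + 1) * (k + 3) = (k + 1) * (k + 3) ^ 2 := by omega
      nlinarith [Nat.mul_le_mul_left (k + 1) (Nat.le_mul_self (k + 3))]
    · have : (k + 2) * 1 + (k + 1) * (k + 2) ^ 2 = (k + 1) * ((k + 2) ^ 2 + 1) + 1 := by ring
      have h3 : (k + 1) * ((k + 2) ^ 2 + 1) = (k + 1) * (k + 3) ^ 2 := by omega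
      nlinarith
  · have hpow : (k + 2) ^ 3 ≤ (k + 2) ^ d := Nat.pow_le_pow_right (by omega) hd
    have h3 : (k + 2) * S + (k + 1) * (k + 2) ^ d = (k + 1) * (k + 3) ^ 2 + 1 := by
      have : 1 ≤ (k + 2) * S := Nat.mul_pos (by omega) (by omega)
      omega
    have h4 : (k + 1) * (k + 3) ^ 2 + 1 < (k + 2) * (k + 2) + (k + 1) * (k + 2) ^ 3 := by
      ring_nf; nlinarith [Nat.zero_le k]
    have := Nat.mul_le_mul_left (k + 1) hpow
    have := Nat.mul_le_mul_left (k + 2) hS'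
    omega

theorem count_perp (H : Base Q) {u w u' w' : ι → F} (h : SPair Q u w) (h' : SPair Q u' w')
    (hm : ¬ Meet (ln u w) (ln u' w')) (hp : Perp Q (ln u w) (ln u' w')) :
    (Fintype.card F - 1) * Nat.card (CSet (E Q u w) (E Q u' w')) =
      (Fintype.card F ^ 2 - 1) * (Fintype.card F ^ 2 - 1) := by
  classical
  set L := ln u w
  set L' := ln u' w'
  have hsp : ∀ a ∈ L, a ≠ 0 → ∀ b ∈ L', b ≠ 0 → SPair Q a b := fun a ha ha0 b hb hb0 =>
    ⟨(h.ts ha ha).1, (h'.ts hb hb).1, hp a ha b hb, ha0, fun hmem => by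
      obtain ⟨c, rfl⟩ := Submodule.mem_span_singleton.1 hmem
      exact hm ⟨_, hb0, L.smul_mem c ha, hb⟩⟩
  have hmem : ∀ a ∈ L, a ≠ 0 → ∀ b ∈ L', b ≠ 0 → E Q a b ∈ CSet (E Q u w) (E Q u' w') := by
    intro a ha ha0 b hb hb0
    have hs := hsp a ha ha0 b hb hb0
    refine ⟨(coplanar_iff H hs h).2 ⟨fun e => ?_, ⟨a, ha0, left_mem_ln _ _, ha⟩, perp_ln_iff.2 ?_⟩,
      (coplanar_iff H hs h').2 ⟨fun e => ?_, ⟨b, hb0, right_mem_ln _ _, hb⟩, perp_ln_iff.2 ?_⟩⟩
    · exact hm ⟨b, hb0, show b ∈ ln u w from e ▸ right_mem_ln _ _, hb⟩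
    · exact ⟨⟨(h.ts ha (left_mem_ln _ _)).2, (h.ts ha (right_mem_ln _ _)).2⟩,
        hp.symm b hb u (left_mem_ln _ _), hp.symm b hb w (right_mem_ln _ _)⟩
    · exact hm ⟨a, ha0, ha, show a ∈ ln u' w' from e ▸ left_mem_ln _ _⟩
    · exact ⟨⟨hp a ha u' (left_mem_ln _ _), hp a ha w' (right_mem_ln _ _)⟩,
        (h'.ts hb (left_mem_ln _ _)).2, (h'.ts hb (right_mem_ln _ _)).2⟩
  let P := {a : ↥L // a ≠ 0} × {b : ↥L' // b ≠ 0}
  let ψ : P → CSet (E Q u w) (E Q u' w') := fun x => ⟨E Q x.1.1.1 x.2.1.1,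
    hmem _ x.1.1.2 (fun e => x.1.2 (Subtype.ext e)) _ x.2.1.2 (fun e => x.2.2 (Subtype.ext e))⟩
  have hsurj : Function.Surjective ψ := by
    rintro ⟨z, hz1, hz2⟩
    obtain ⟨u'', w'', hs, rfl⟩ := hz1.1
    obtain ⟨-, ⟨a, ha0, haM, haL⟩, -⟩ := (coplanar_iff H hs h).1 hz1
    obtain ⟨-, ⟨b, hb0, hbM, hbL⟩, -⟩ := (coplanar_iff H hs h').1 hz2
    obtain ⟨k, hk, e⟩ := hs.eich_of_line haM hbM ha0 (hsp a haL ha0 b hbL hb0).ind
    refine ⟨⟨⟨⟨a, haL⟩, fun e => ha0 (congrArg Subtype.val e)⟩,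
      ⟨⟨k • b, L'.smul_mem k hbL⟩, fun e => smul_ne_zero hk hb0 (congrArg Subtype.val e)⟩⟩, Subtype.ext ?_⟩
    exact (congrArg om e).symm
  have hfib : ∀ z, Nat.card {x : P // ψ x = z} = Fintype.card F - 1 := by
    intro z
    obtain ⟨⟨⟨⟨a, ha⟩, ha0⟩, ⟨⟨b, hb⟩, hb0⟩⟩, rfl⟩ := hsurj z
    have ha0' : a ≠ 0 := fun e => ha0 (Subtype.ext e)
    have hb0' : b ≠ 0 := fun e => hb0 (Subtype.ext e)
    let θ : {t : F // t ≠ 0} → {x : P // ψ x = ψ ⟨⟨⟨a, ha⟩, ha0⟩, ⟨⟨b, hb⟩, hb0⟩⟩} := fun t =>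
      ⟨⟨⟨⟨t.1 • a, L.smul_mem _ ha⟩, fun e => smul_ne_zero t.2 ha0' (congrArg Subtype.val e)⟩,
        ⟨⟨t.1⁻¹ • b, L'.smul_mem _ hb⟩, fun e =>
          smul_ne_zero (inv_ne_zero t.2) hb0' (congrArg Subtype.val e)⟩⟩,
        Subtype.ext (by
          show E Q (t.1 • a) (t.1⁻¹ • b) = E Q a b
          rw [E_smul_left, smul_inv_smul₀ t.2])⟩
    rw [← Nat.card_congr (Equiv.ofBijective θ ⟨?_, ?_⟩), Nat.card_eq_fintype_card,
      Fintype.card_subtype_compl, Fintype.card_subtype_eq]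
    · intro t t' e
      have : t.1 • a = t'.1 • a := congrArg (fun x => x.1.1.1.1) e
      exact Subtype.ext (smul_left_injective F ha0' this)
    · rintro ⟨⟨⟨⟨a', ha'⟩, ha'0⟩, ⟨⟨b', hb'⟩, hb'0⟩⟩, e⟩
      have hs := hsp a ha ha0' b hb hb0'
      have hs' := hsp a' ha' (fun e => ha'0 (Subtype.ext e)) b' hb' (fun e => hb'0 (Subtype.ext e))
      have he : eich Q a' b' = eich Q a b := (E_eq_iff H).1 (congrArg Subtype.val e)
      have hl := hs'.line_eq H.nd hs he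
      obtain ⟨t, t2, htt⟩ := mem_ln.1 (hl ▸ left_mem_ln a' b')
      have ht2 : t2 = 0 := by
        by_contra h2
        refine hm ⟨t2 • b, smul_ne_zero h2 hb0', ?_, L'.smul_mem _ hb⟩
        rw [show t2 • b = a' - t • a by rw [← htt]; abel]
        exact sub_mem ha' (L.smul_mem _ ha)
      rw [ht2, zero_smul, add_zero] at htt
      have ht : t ≠ 0 := fun h0 => ha'0 (Subtype.ext (show a' = 0 by rw [← htt, h0, zero_smul]))
      obtain ⟨s, s2, hss⟩ := mem_ln.1 (hl ▸ right_mem_ln a' b')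
      have hs0 : s = 0 := by
        by_contra h2
        refine hm ⟨s • a, smul_ne_zero h2 ha0', L.smul_mem _ ha, ?_⟩
        rw [show s • a = b' - s2 • b by rw [← hss]; abel]
        exact sub_mem hb' (L'.smul_mem _ hb)
      rw [hs0, zero_smul, zero_add] at hss
      rw [← htt, ← hss, eich_smul_left, smul_smul] at he
      obtain ⟨c, hc⟩ := eich_right_inj H.nd hs.qu ha0'
        (by rw [pl_smul_right, hs.p, mul_zero]) hs.p he
      have h1 := (hs.coeff (a := -c) (b := 1 - t * s2)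
        (by linear_combination (norm := module) hc)).2
      refine ⟨⟨t, ht⟩, Subtype.ext (Prod.ext (Subtype.ext (Subtype.ext htt))
        (Subtype.ext (Subtype.ext ?_)))⟩
      show t⁻¹ • b = b'
      rw [← hss]
      congr 1
      field_simp
      linear_combination h1
  have hcard : Nat.card P = Nat.card (CSet (E Q u w) (E Q u' w')) * (Fintype.card F - 1) := by
    rw [← Nat.card_congr (Equiv.sigmaFiberEquiv ψ), Nat.card_sigma, Finset.sum_congr rfl fun z _ => hfib z,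
      Finset.sum_const, Finset.card_univ, smul_eq_mul, Nat.card_eq_fintype_card]
  rw [mul_comm, ← hcard, Nat.card_prod, card_nonzero, card_nonzero, h.finrank_ln, h'.finrank_ln]

theorem count_meet (H : Hyp Q) {u w u' w' : ι → F} (h : SPair Q u w) (h' : SPair Q u' w')
    (hm : Meet (ln u w) (ln u' w')) (hp : ¬ Perp Q (ln u w) (ln u' w')) :
    (Fintype.card F - 1) * Nat.card (CSet (E Q u w) (E Q u' w')) ≠
      (Fintype.card F ^ 2 - 1) * (Fintype.card F ^ 2 - 1) := by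
  classical
  obtain ⟨p, hp0, hpL, hpL'⟩ := hm
  obtain ⟨a, ha, hla, -⟩ := h.basis_at hpL hp0
  obtain ⟨b', hb', hlb', -⟩ := h'.basis_at hpL' hp0
  have hab : polar ⇑Q a b' ≠ 0 := fun h0 => hp (by
    rw [← hla, ← hlb']
    exact perp_ln_iff.2 ⟨⟨by rw [pl_self, ha.qu, mul_zero], hb'.p⟩, by rw [pl_comm]; exact ha.p, h0⟩)
  set b := (polar ⇑Q a b')⁻¹ • b' with hbd
  have hb : SPair Q p b := hb'.smul_right (inv_ne_zero hab)
  have hab1 : HPair Q a b := ⟨ha.qw, hb.qw, by rw [hbd, pl_smul_right, inv_mul_cancel₀ hab]⟩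
  have hlb : ln p b = ln u' w' := by
    rw [← hlb']
    exact hb'.line_of_two (left_mem_ln _ _) (Submodule.smul_mem _ _ (right_mem_ln _ _)) hp0 hb.ind
  have hpab : p ∈ perp Q a b := mem_perp.2 ⟨by rw [pl_comm]; exact ha.p, by rw [pl_comm]; exact hb.p⟩
  obtain ⟨hnd1, hf1⟩ := finrank_perp_eq H.nd hab1
  obtain ⟨f0, hf0, hpf⟩ := exists_hpair_in hnd1 hpab ha.qu hp0
  obtain ⟨hnd2, hf2⟩ := ndOn_cut hnd1 hpf hpab hf0
  set W := perp Q a b ⊓ perp Q p f0 with hW
  have hWo : ∀ x ∈ W, (polar ⇑Q a x = 0 ∧ polar ⇑Q b x = 0) ∧ polar ⇑Q p x = 0 ∧ polar ⇑Q f0 x = 0 :=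
    fun x hx => ⟨mem_perp.1 hx.1, mem_perp.1 hx.2⟩
  have hnotin : ∀ x ∈ W, x ≠ 0 → x ∉ ln p a ∧ x ∉ ln p b ∧ x ∉ Submodule.span F {p} := by
    intro x hx hx0
    obtain ⟨⟨xa, xb⟩, xp, xf⟩ := hWo x hx
    have hpb : polar ⇑Q b p = 0 := by rw [pl_comm]; exact hb.p
    have hpa : polar ⇑Q a p = 0 := by rw [pl_comm]; exact ha.p
    have hfp : polar ⇑Q f0 p = 1 := by rw [pl_comm]; exact hpf.pf
    have hfa : polar ⇑Q f0 a = 0 := by rw [pl_comm]; exact (mem_perp.1 hf0).1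
    have hfb : polar ⇑Q f0 b = 0 := by rw [pl_comm]; exact (mem_perp.1 hf0).2
    refine ⟨fun hm => hx0 ?_, fun hm => hx0 ?_, fun hm => hx0 ?_⟩
    · obtain ⟨s, t, rfl⟩ := mem_ln.1 hm
      rw [pl_add_right, pl_smul_right, pl_smul_right, hfp, hfa, mul_zero, add_zero, mul_one] at xf
      rw [pl_add_right, pl_smul_right, pl_smul_right, hpb, pl_comm Q b a, hab1.pf, mul_zero, zero_add,
        mul_one] at xb
      rw [xf, xb]; simp
    · obtain ⟨s, t, rfl⟩ := mem_ln.1 hm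
      rw [pl_add_right, pl_smul_right, pl_smul_right, hfp, hfb, mul_zero, add_zero, mul_one] at xf
      rw [pl_add_right, pl_smul_right, pl_smul_right, hpa, hab1.pf, mul_zero, zero_add,
        mul_one] at xa
      rw [xf, xa]; simp
    · obtain ⟨s, rfl⟩ := Submodule.mem_span_singleton.1 hm
      rw [pl_smul_right, hfp, mul_one] at xf
      rw [xf, zero_smul]
  -- the bijection with non-zero singular vectors of `W`
  have hsp : ∀ s ∈ W, Q s = 0 → s ≠ 0 → SPair Q p s := fun s hs hQs hs0 =>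
    ⟨ha.qu, hQs, (hWo s hs).2.1, hp0, (hnotin s hs hs0).2.2⟩
  have hmemC : ∀ s ∈ W, Q s = 0 → s ≠ 0 → E Q p s ∈ CSet (E Q u w) (E Q u' w') := by
    intro s hs hQs hs0
    have hs' := hsp s hs hQs hs0
    refine ⟨(coplanar_iff H hs' h).2 ?_, (coplanar_iff H hs' h').2 ?_⟩
    · rw [← hla]
      refine ⟨fun e => (hnotin s hs hs0).1 (e ▸ right_mem_ln p s),
        ⟨p, hp0, left_mem_ln _ _, left_mem_ln _ _⟩, perp_ln_iff.2 ⟨⟨by rw [pl_self, ha.qu, mul_zero], ha.p⟩, ?_⟩⟩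
      exact ⟨by rw [pl_comm]; exact (hWo s hs).2.1, by rw [pl_comm]; exact (hWo s hs).1.1⟩
    · rw [← hlb]
      refine ⟨fun e => (hnotin s hs hs0).2.1 (e ▸ right_mem_ln p s),
        ⟨p, hp0, left_mem_ln _ _, left_mem_ln _ _⟩, perp_ln_iff.2 ⟨⟨by rw [pl_self, ha.qu, mul_zero], hb.p⟩, ?_⟩⟩
      exact ⟨by rw [pl_comm]; exact (hWo s hs).2.1, by rw [pl_comm]; exact (hWo s hs).1.2⟩
  let ψ : {s : SVec Q W // s.1 ≠ 0} → CSet (E Q u w) (E Q u' w') := fun s =>
    ⟨E Q p s.1.1, hmemC _ s.1.2.1 s.1.2.2 s.2⟩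
  have hbij : Function.Bijective ψ := by
    constructor
    · rintro ⟨⟨s, hs, hQs⟩, hs0⟩ ⟨⟨t, ht, hQt⟩, ht0⟩ e
      obtain ⟨c, hc⟩ := eich_right_inj H.nd ha.qu hp0 (hWo s hs).2.1 (hWo t ht).2.1
        ((E_eq_iff H).1 (congrArg Subtype.val e))
      refine Subtype.ext (Subtype.ext (?_ : s = t))
      by_contra hne
      exact (hnotin (t - s) (sub_mem ht hs) (sub_ne_zero.2 (Ne.symm hne))).2.2
        (Submodule.mem_span_singleton.2 ⟨c, by rw [hc]; abel⟩)
    · rintro ⟨z, hz1, hz2⟩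
      obtain ⟨u'', w'', hs, rfl⟩ := hz1.1
      obtain ⟨hne1, ⟨a1, ha10, ha1M, ha1L⟩, hp1⟩ := (coplanar_iff H hs h).1 hz1
      obtain ⟨hne2, ⟨b1, hb10, hb1M, hb1L⟩, hp2⟩ := (coplanar_iff H hs h').1 hz2
      rw [← hla] at ha1L
      rw [← hlb] at hb1L
      have hpM : p ∈ ln u'' w'' := by
        obtain ⟨s1, t1, rfl⟩ := mem_ln.1 ha1L
        obtain ⟨s2, t2, rfl⟩ := mem_ln.1 hb1L
        by_cases ht1 : t1 = 0
        · subst ht1
          rw [zero_smul, add_zero] at ha10 ha1M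
          have := Submodule.smul_mem _ s1⁻¹ ha1M
          rwa [inv_smul_smul₀ fun h0 : s1 = 0 => ha10 (by rw [h0, zero_smul])] at this
        by_cases ht2 : t2 = 0
        · subst ht2
          rw [zero_smul, add_zero] at hb10 hb1M
          have := Submodule.smul_mem _ s2⁻¹ hb1M
          rwa [inv_smul_smul₀ fun h0 : s2 = 0 => hb10 (by rw [h0, zero_smul])] at this
        exfalso
        have h0 := (hs.ts ha1M hb1M).2
        simp only [pl_add_left, pl_add_right, pl_smul_left, pl_smul_right, pl_self, ha.qu, hb.p,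
          pl_comm Q a p, ha.p, hab1.pf] at h0
        ring_nf at h0
        exact mul_ne_zero ht1 ht2 h0
      obtain ⟨s, hs', hls, e⟩ := hs.basis_at hpM hp0
      rw [← hls, ← hla] at hp1
      rw [← hls, ← hlb] at hp2
      have sa : polar ⇑Q s a = 0 := hp1 s (right_mem_ln _ _) a (right_mem_ln _ _)
      have sb : polar ⇑Q s b = 0 := hp2 s (right_mem_ln _ _) b (right_mem_ln _ _)
      set s0 := s + (-polar ⇑Q f0 s) • p with hs0d
      have hs0W : s0 ∈ W := by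
        refine ⟨mem_perp.2 ⟨?_, ?_⟩, mem_perp.2 ⟨?_, ?_⟩⟩
        · rw [hs0d, pl_add_right, pl_smul_right, pl_comm Q a s, sa, pl_comm Q a p, ha.p]; ring
        · rw [hs0d, pl_add_right, pl_smul_right, pl_comm Q b s, sb, pl_comm Q b p, hb.p]; ring
        · rw [hs0d, pl_add_right, pl_smul_right, hs'.p, pl_self, ha.qu]; ring
        · rw [hs0d, pl_add_right, pl_smul_right, pl_comm Q f0 p, hpf.pf]; ring
      have hs00 : s0 ≠ 0 := fun h0 => hs'.ind (Submodule.mem_span_singleton.2 ⟨polar ⇑Q f0 s, by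
        rw [hs0d, neg_smul, ← sub_eq_add_neg, sub_eq_zero] at h0; exact h0.symm⟩)
      have hQs0 : Q s0 = 0 := by
        rw [hs0d, Q_add, Q_smul Q (-polar ⇑Q f0 s) p, ha.qu, hs'.qw, pl_smul_right, pl_comm Q s p, hs'.p]
        ring
      refine ⟨⟨⟨s0, hs0W, hQs0⟩, hs00⟩, Subtype.ext ?_⟩
      show E Q p s0 = E Q u'' w''
      rw [E_eq_iff H, e, hs0d, eich_add_smul_self ha.qu hs'.p]
  have hC : Nat.card (CSet (E Q u w) (E Q u' w')) = Nat.card (SVec Q W) - 1 := by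
    rw [← Nat.card_congr (Equiv.ofBijective ψ hbij),
      Nat.card_congr (Equiv.subtypeEquivRight (q := fun s : SVec Q W => s ≠ ⟨0, W.zero_mem, QuadraticMap.map_zero Q⟩)
        fun s => not_congr (Subtype.ext_iff (a1 := s) (a2 := ⟨0, W.zero_mem, QuadraticMap.map_zero Q⟩)).symm),
      Nat.card_eq_fintype_card, Fintype.card_subtype_compl, Fintype.card_subtype_eq,
      Nat.card_eq_fintype_card]
  obtain ⟨e', he', f', hf', hef⟩ := exists_hpair_of_three hnd2 (by have := H.seven; omega)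
  obtain ⟨hnd3, hf3⟩ := ndOn_cut hnd2 hef he' hf'
  rw [hC, card_singular_rec hef he' hf']
  refine arith_ne Fintype.one_lt_card ?_ ?_
  · exact Nat.one_le_iff_ne_zero.2 (Nat.card_ne_zero.2 ⟨⟨⟨0, zero_mem _, QuadraticMap.map_zero Q⟩⟩, inferInstance⟩)
  set W' := W ⊓ perp Q e' f' with hW'
  by_cases hd : 3 ≤ finrank F ↥W'
  · refine .inr ⟨hd, ?_⟩
    obtain ⟨v, hv, hv0, hQv⟩ := exists_ne_zero_Q_eq hnd3 hd 0
    rw [← Nat.card_eq_fintype_card (α := F)]
    exact Nat.card_le_card_of_injective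
      (fun t : F => (⟨t • v, W'.smul_mem t hv, by rw [Q_smul, hQv, mul_zero]⟩ : SVec Q W'))
      fun t t' e => smul_left_injective F hv0 (congrArg Subtype.val e)
  refine .inl ⟨by have := H.seven; omega, ?_⟩
  suffices haniso : ∀ v ∈ W', Q v = 0 → v = 0 by
    haveI : Subsingleton (SVec Q W') :=
      ⟨fun x y => Subtype.ext ((haniso _ x.2.1 x.2.2).trans (haniso _ y.2.1 y.2.2).symm)⟩
    haveI : Nonempty (SVec Q W') := ⟨⟨0, zero_mem _, QuadraticMap.map_zero Q⟩⟩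
    exact Nat.card_of_subsingleton (Classical.arbitrary _)
  intro v hv hQv
  by_contra hv0
  by_cases h1 : finrank F ↥W' = 1
  · obtain ⟨y, hy, hvy⟩ := hnd3 v hv hv0
    obtain ⟨c, hc⟩ := exists_smul_eq_of_finrank_eq_one h1
      (x := ⟨v, hv⟩) (fun h0 => hv0 (congrArg Subtype.val h0)) ⟨y, hy⟩
    have hc' : c • v = y := congrArg Subtype.val hc
    exact hvy (by rw [← hc', pl_smul_right, pl_self, hQv]; ring)
  have h8 : Fintype.card ι = 8 := by have := H.seven; omega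
  have hsv : SPair Q e' v := ⟨hef.qe, hQv, (mem_perp.1 hv.2).1, hef.ne_zero, fun hm => by
    obtain ⟨c, hc⟩ := Submodule.mem_span_singleton.1 hm
    have := (mem_perp.1 hv.2).2
    rw [← hc, pl_smul_right, pl_comm, hef.pf, mul_one] at this
    exact hv0 (by rw [← hc, this, zero_smul])⟩
  have hle : ln e' v ≤ W := by
    rw [Submodule.span_le, Set.insert_subset_iff, Set.singleton_subset_iff]; exact ⟨he', hv.1⟩
  have hinf : ln p a ⊓ ln e' v = ⊥ := (Submodule.eq_bot_iff _).2 fun x hx => by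
    by_contra hx0
    exact (hnotin x (hle hx.2) hx0).1 hx.1
  have h4 := H.eight h8 (ln p a ⊔ ln e' v) fun x hx => by
    obtain ⟨x1, hx1, x2, hx2, rfl⟩ := Submodule.mem_sup.1 hx
    obtain ⟨⟨k1, k2⟩, k3, k4⟩ := hWo x2 (hle hx2)
    obtain ⟨s, t, rfl⟩ := mem_ln.1 hx1
    rw [Q_add, (ha.ts hx1 hx1).1, (hsv.ts hx2 hx2).1, pl_add_left, pl_smul_left, pl_smul_left, k1, k3]
    ring
  have h5 := Submodule.finrank_sup_add_finrank_inf_eq (ln p a) (ln e' v)
  rw [hinf, finrank_bot, ha.finrank_ln, hsv.finrank_ln] at h5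
  omega

theorem meets_iff (H : Hyp Q) {u w u' w' : ι → F} (h : SPair Q u w) (h' : SPair Q u' w') :
    Meets (E Q u w) (E Q u' w') ↔ Meet (ln u w) (ln u' w') := by
  constructor
  · rintro (hs | hc | ⟨-, -, hcom, hs, hcp, hcount⟩)
    · rw [← (same_iff H h h').1 hs]
      exact ⟨u, h.nu, left_mem_ln _ _, left_mem_ln _ _⟩
    · exact ((coplanar_iff H h h').1 hc).2.1
    · by_contra hm
      exact hcount (count_perp H h h' hm (((commute_iff H h h').1 hcom).resolve_left hm))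
  · intro hm
    by_cases hl : ln u w = ln u' w'
    · exact .inl ((same_iff H h h').2 hl)
    by_cases hp : Perp Q (ln u w) (ln u' w')
    · exact .inr (.inl ((coplanar_iff H h h').2 ⟨hl, hm, hp⟩))
    · exact .inr (.inr ⟨⟨u, w, h, rfl⟩, ⟨u', w', h', rfl⟩, (commute_iff H h h').2 (.inl hm),
        fun hs => hl ((same_iff H h h').1 hs), fun hc => hp ((coplanar_iff H h h').1 hc).2.2,
        count_meet H h h' hm hp⟩)

end Cfsg.Agent.AutPOmega
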