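import Cfsg.Agent.Lib.AutPSL.Count

/-!
# Groups with a cyclic quotient

* `zmodHom` ; `nonempty_prod_cyclic` ; `nonempty_two_mul` ; `cyclic_two_mul`
* `exists_lift_commuting_dihedral` : odd cyclic quotient over a dihedral kernel of order 8
* `exists_frob` : the generator `c ↦ c^p` of the automorphism group of a finite field
-/

set_option autoImplicit false
set_option linter.unusedSectionVars false

namespace Cfsg.Agent.AutPOmega

variable {O C : Type*} [Group O] [Group C]

/-- `i ↦ x^i` from `ZMod n`. -/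
noncomputable def zmodHom (n : ℕ) (x : O) (hx : x ^ n = 1) : Multiplicative (ZMod n) →* O :=
  AddMonoidHom.toMultiplicativeLeft
    (ZMod.lift n (A := Additive O) ⟨zmultiplesHom (Additive O) (Additive.ofMul x), show zmultiplesHom (Additive O) (Additive.ofMul x) (n : ℤ) = 0 by
      rw [zmultiplesHom_apply, natCast_zsmul, ← ofMul_pow, hx]; rfl⟩)

theorem zmodHom_apply (n : ℕ) [NeZero n] (x : O) (hx : x ^ n = 1) (i : ZMod n) :
    zmodHom n x hx (Multiplicative.ofAdd i) = x ^ i.val := by
  have key : ∀ (g : {f : ℤ →+ Additive O // f n = 0}) (k : ℤ),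
      ZMod.lift n g (k : ZMod n) = g.1 k := fun g k => ZMod.lift_coe _ _ k
  have e : i = ((i.val : ℤ) : ZMod n) := by simp
  have h := congrArg Additive.toMul (key ⟨zmultiplesHom (Additive O) (Additive.ofMul x),
    show zmultiplesHom (Additive O) (Additive.ofMul x) (n : ℤ) = 0 by
      rw [zmultiplesHom_apply, natCast_zsmul, ← ofMul_pow, hx]; rfl⟩ (i.val : ℤ))
  rw [← e] at h
  refine h.trans ?_
  show Additive.toMul ((i.val : ℤ) • Additive.ofMul x) = _
  rw [natCast_zsmul]; rfl

variable [Finite O] (π : O →* C) (f : ℕ) (x : O)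

theorem pow_eq_one_of_dvd (hord : orderOf (π x) = f) {i : ℕ} (h : π x ^ i = 1) : f ∣ i :=
  hord ▸ orderOf_dvd_of_pow_eq_one h

theorem card_eq (hsurj : Function.Surjective π) (hC : Nat.card C = f) :
    Nat.card O = Nat.card π.ker * f := by
  rw [Subgroup.card_eq_card_quotient_mul_card_subgroup π.ker,
    Nat.card_congr (QuotientGroup.quotientKerEquivOfSurjective _ hsurj).toEquiv, hC, mul_comm]

theorem surj_of_orderOf (hC : Nat.card C = f) [Finite C] (hord : orderOf (π x) = f) :
    Function.Surjective π := fun c => by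
  have htop : Subgroup.zpowers (π x) = ⊤ :=
    Subgroup.eq_top_of_card_eq _ (by rw [Nat.card_zpowers, hord, hC])
  obtain ⟨i, hi⟩ := Subgroup.mem_zpowers_iff.1 (htop ▸ Subgroup.mem_top c)
  exact ⟨x ^ i, by rw [map_zpow, hi]⟩

/-- A commuting lift of order `f` splits off a direct factor. -/
theorem nonempty_prod_cyclic [Finite C] (hf : 0 < f) (hC : Nat.card C = f) (hord : orderOf (π x) = f)
    (hxf : x ^ f = 1) (hcomm : ∀ n ∈ π.ker, Commute n x) :
    Nonempty (O ≃* π.ker × Multiplicative (ZMod f)) := by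
  haveI : NeZero f := ⟨by omega⟩
  let φ : Multiplicative (ZMod f) →* O := zmodHom f x hxf
  let Ψ : π.ker × Multiplicative (ZMod f) →* O := MonoidHom.noncommCoprod π.ker.subtype φ fun n i => by
    obtain ⟨i, rfl⟩ := Multiplicative.ofAdd.surjective i
    rw [zmodHom_apply]
    exact (hcomm n n.2).pow_right _
  have hinj : Function.Injective Ψ := by
    rw [injective_iff_map_eq_one]
    rintro ⟨⟨n, hn⟩, i⟩ h
    obtain ⟨i, rfl⟩ := Multiplicative.ofAdd.surjective i
    have h' : n * x ^ i.val = 1 := by rw [← zmodHom_apply f x hxf]; exact h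
    have h2 := congrArg π h'
    rw [map_mul, hn, one_mul, map_pow, map_one] at h2
    have hi : i.val = 0 := by
      rcases Nat.eq_zero_or_pos i.val with h0 | h0
      · exact h0
      · exact absurd (Nat.le_of_dvd h0 (pow_eq_one_of_dvd π f x hord h2)) (Nat.not_le.2 (ZMod.val_lt i))
    rw [hi, pow_zero, mul_one] at h'
    refine Prod.ext (Subtype.ext h') ?_
    rw [(ZMod.val_eq_zero i).1 hi]; rfl
  refine ⟨(MulEquiv.ofBijective Ψ ((Nat.bijective_iff_injective_and_card Ψ).2 ⟨hinj, ?_⟩)).symm⟩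
  rw [Nat.card_prod, card_eq π f (surj_of_orderOf π f x hC hord) hC]
  simp

/-- Kernel of order two containing `x^f ≠ 1`: cyclic of order `2f`. -/
theorem cyclic_two_mul [Finite C] (hC : Nat.card C = f) (hord : orderOf (π x) = f)
    (hk : Nat.card π.ker = 2) (hxf : x ^ f ≠ 1) : IsCyclic O ∧ Nat.card O = 2 * f := by
  have hcard : Nat.card O = 2 * f := by rw [card_eq π f (surj_of_orderOf π f x hC hord) hC, hk]
  refine ⟨isCyclic_of_orderOf_eq_card x ?_, hcard⟩
  rw [hcard]
  obtain ⟨d, hd⟩ : f ∣ orderOf x := hord ▸ orderOf_map_dvd π x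
  have hdvd : orderOf x ∣ 2 * f := hcard ▸ orderOf_dvd_natCard x
  have hf : 0 < f := hord ▸ orderOf_pos _
  rw [hd, mul_comm 2, Nat.mul_dvd_mul_iff_left hf] at hdvd
  rcases (Nat.dvd_prime Nat.prime_two).1 hdvd with rfl | rfl
  · exact absurd (by rw [show f = orderOf x by rw [hd, mul_one]]; exact pow_orderOf_eq_one x) hxf
  · rw [hd, mul_comm]

/-- Central Klein kernel: `2 × 2f` if `x^f ≠ 1`, or if `f` is odd. -/
theorem nonempty_two_mul [Finite C] (hC : Nat.card C = f) (hord : orderOf (π x) = f)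
    (hk : Nat.card π.ker = 4) (hexp : ∀ n ∈ π.ker, n * n = 1) (hcomm : ∀ n ∈ π.ker, Commute n x)
    (h : x ^ f ≠ 1 ∨ Odd f) : Nonempty (O ≃* Multiplicative (ZMod 2 × ZMod (2 * f))) := by
  have hf : 0 < f := hord ▸ orderOf_pos _
  haveI : NeZero (2 * f) := ⟨by omega⟩
  -- a lift `y` with `y ^ f ≠ 1`
  obtain ⟨y, hy, hyf, hyc⟩ : ∃ y, π y = π x ∧ y ^ f ≠ 1 ∧ ∀ n ∈ π.ker, Commute n y := by
    by_cases hx : x ^ f = 1
    · obtain ⟨z, hz⟩ : ∃ z : π.ker, z ≠ 1 := by
        haveI : Nontrivial π.ker := Finite.one_lt_card_iff_nontrivial.1 (by rw [hk]; norm_num)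
        exact exists_ne 1
      refine ⟨z.1 * x, by rw [map_mul, show π z.1 = 1 from z.2, one_mul], ?_, fun n hn => ?_⟩
      · rw [(hcomm z z.2).mul_pow, hx, mul_one]
        obtain ⟨j, rfl⟩ := h.resolve_left (not_not.2 hx)
        rw [pow_succ, pow_mul, sq, hexp z z.2, one_pow, one_mul]
        exact fun e => hz (Subtype.ext e)
      · refine Commute.mul_right ?_ (hcomm n hn)
        show n * z.1 = z.1 * n
        rw [mul_eq_one_iff_eq_inv.1 (hexp _ (mul_mem hn z.2)), _root_.mul_inv_rev,
          ← mul_eq_one_iff_eq_inv.1 (hexp z.1 z.2), ← mul_eq_one_iff_eq_inv.1 (hexp n hn)]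
    · exact ⟨x, rfl, hx, hcomm⟩
  have hyk : y ^ f ∈ π.ker := by rw [MonoidHom.mem_ker, map_pow, hy, ← hord, pow_orderOf_eq_one]
  have hy2 : y ^ (2 * f) = 1 := by rw [mul_comm, pow_mul, sq, hexp _ hyk]
  obtain ⟨n, hn, hn1, hnz⟩ : ∃ n ∈ π.ker, n ≠ 1 ∧ n ≠ y ^ f := by
    by_contra! hall
    have hsub : (π.ker : Set O) ⊆ {1, y ^ f} := fun n hn => by
      by_cases h1 : n = 1
      · exact .inl h1
      · exact .inr (hall n hn h1)
    have := Set.ncard_le_ncard hsub
    rw [← Nat.card_coe_set_eq, show Nat.card (π.ker : Set O) = 4 from hk, Set.ncard_pair (Ne.symm hyf)] at this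
    omega
  have hn2 : n ^ 2 = 1 := by rw [sq, hexp n hn]
  let Ψ : Multiplicative (ZMod 2) × Multiplicative (ZMod (2 * f)) →* O :=
    MonoidHom.noncommCoprod (zmodHom 2 n hn2) (zmodHom (2 * f) y hy2) fun i j => by
      obtain ⟨i, rfl⟩ := Multiplicative.ofAdd.surjective i
      obtain ⟨j, rfl⟩ := Multiplicative.ofAdd.surjective j
      rw [zmodHom_apply, zmodHom_apply]
      exact ((hyc n hn).pow_right _).pow_left _
  have hinj : Function.Injective Ψ := by
    rw [injective_iff_map_eq_one]
    rintro ⟨i, j⟩ e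
    obtain ⟨i, rfl⟩ := Multiplicative.ofAdd.surjective i
    obtain ⟨j, rfl⟩ := Multiplicative.ofAdd.surjective j
    have e' : n ^ i.val * y ^ j.val = 1 := by
      rw [← zmodHom_apply 2 n hn2, ← zmodHom_apply (2 * f) y hy2]; exact e
    have e2 := congrArg π e'
    rw [map_mul, map_pow, hn, one_pow, one_mul, map_pow, map_one, hy] at e2
    obtain ⟨d, hd⟩ := pow_eq_one_of_dvd π f x hord e2
    have hjlt := ZMod.val_lt j
    have hilt := ZMod.val_lt i
    have hd2 : d < 2 := by
      rw [hd, mul_comm 2 f] at hjlt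
      exact Nat.lt_of_mul_lt_mul_left hjlt
    rw [hd, pow_mul] at e'
    have hij : i.val = 0 ∧ d = 0 := by
      interval_cases d <;> interval_cases hiv : i.val
      · exact ⟨rfl, rfl⟩
      · rw [pow_one, pow_zero, mul_one] at e'; exact absurd e' hn1
      · rw [pow_zero, pow_one, one_mul] at e'; exact absurd e' hyf
      · rw [pow_one, pow_one] at e'
        refine absurd ?_ hnz
        rw [eq_inv_of_mul_eq_one_left e', inv_eq_of_mul_eq_one_right (hexp _ hyk)]
    rw [hij.2, mul_zero] at hd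
    refine Prod.ext ?_ ?_
    · rw [(ZMod.val_eq_zero i).1 hij.1]; rfl
    · rw [(ZMod.val_eq_zero j).1 hd]; rfl
  have hbij := (Nat.bijective_iff_injective_and_card Ψ).2 ⟨hinj, by
    rw [Nat.card_prod, card_eq π f (surj_of_orderOf π f x hC hord) hC, hk]
    simp; ring⟩
  exact ⟨(MulEquiv.ofBijective Ψ hbij).symm.trans
    { toFun := fun p => Multiplicative.ofAdd (p.1.toAdd, p.2.toAdd)
      invFun := fun p => (Multiplicative.ofAdd p.toAdd.1, Multiplicative.ofAdd p.toAdd.2)
      left_inv := fun p => rfl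
      right_inv := fun p => rfl
      map_mul' := fun p q => rfl }⟩

/-- An automorphism of odd period of the dihedral group of order 8 is trivial. -/
theorem dihedral_aut_eq_one (θ : MulAut (DihedralGroup 4)) {k : ℕ} (hk : Odd k) (hθ : θ ^ k = 1) :
    θ = 1 := by
  have hr : θ (.r 1) = .r 1 ∨ θ (.r 1) = .r 3 := by
    have h2 : (.r 1 : DihedralGroup 4) * .r 1 ≠ 1 := by decide
    rcases h : θ (.r 1) with i | i
    · revert h
      fin_cases i <;> intro h
      · exact absurd (θ.injective (h.trans (map_one θ).symm)) (by decide)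
      · exact .inl rfl
      · exfalso
        refine h2 (θ.injective ?_)
        rw [map_mul, h, map_one]; decide
      · exact .inr rfl
    · exfalso
      refine h2 (θ.injective ?_)
      rw [map_mul, h, map_one, DihedralGroup.sr_mul_sr, sub_self]; rfl
  have hs : ∃ i, θ (.sr 0) = .sr i := by
    rcases h : θ (.sr 0) with i | i
    · exfalso
      obtain ⟨j, hj⟩ : ∃ j : ZMod 4, (.r i : DihedralGroup 4) = θ (.r j) := by
        rcases hr with h1 | h1
        · exact ⟨i, by
            rw [show (.r i : DihedralGroup 4) = (.r 1) ^ i.val by simp, map_pow, h1]⟩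
        · refine ⟨-i, ?_⟩
          rw [show (.r (-i) : DihedralGroup 4) = (.r 1) ^ (-i).val by simp, map_pow, h1,
            DihedralGroup.r_pow, ZMod.natCast_zmod_val]
          clear h
          revert i; decide
      rw [hj] at h
      exact absurd (θ.injective h) (by simp)
    · exact ⟨i, rfl⟩
  obtain ⟨i, hi⟩ := hs
  -- `θ ^ n` sends `r` to `r^(ε^n)`
  have hr1 : θ (.r 1) = .r 1 := by
    rcases hr with h | h
    · exact h
    exfalso
    have hn : ∀ n : ℕ, (θ ^ n) (.r 1) = .r ((3 : ZMod 4) ^ n) := by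
      intro n
      induction n with
      | zero => simp
      | succ n ih =>
        rw [pow_succ', MulAut.mul_apply, ih,
          show (.r ((3 : ZMod 4) ^ n) : DihedralGroup 4) = (.r 1) ^ ((3 : ZMod 4) ^ n).val by simp,
          map_pow, h, DihedralGroup.r_pow, ZMod.natCast_zmod_val, ← pow_succ']
    have := hn k
    rw [hθ, MulAut.one_apply] at this
    obtain ⟨j, rfl⟩ := hk
    rw [pow_succ, pow_mul, show (3 : ZMod 4) ^ 2 = 1 from rfl, one_pow, one_mul] at this
    exact absurd this (by decide)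
  have hrot : ∀ j : ZMod 4, θ (.r j) = .r j := fun j => by
    rw [show (.r j : DihedralGroup 4) = (.r 1) ^ j.val by simp, map_pow, hr1]
  have hn : ∀ n : ℕ, (θ ^ n) (.sr 0) = .sr ((n : ZMod 4) * i) := by
    intro n
    induction n with
    | zero => simp
    | succ n ih =>
      rw [pow_succ', MulAut.mul_apply, ih,
        show (.sr ((n : ZMod 4) * i) : DihedralGroup 4) = .sr 0 * .r ((n : ZMod 4) * i) by simp,
        map_mul, hi, hrot, DihedralGroup.sr_mul_r]
      congr 1; push_cast; ring
  have := hn k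
  rw [hθ, MulAut.one_apply] at this
  injection this with hki
  have hi0 : i = 0 := by
    obtain ⟨j, rfl⟩ := hk
    push_cast at hki
    generalize (j : ZMod 4) = j' at hki
    clear hn hi
    revert j' i; decide
  refine MulEquiv.ext fun g => ?_
  rcases g with j | j
  · rw [hrot, MulAut.one_apply]
  · rw [show (.sr j : DihedralGroup 4) = .sr 0 * .r j by simp, map_mul, hi, hrot, hi0]
    simp

/-- Over a dihedral kernel of order 8 an odd cyclic quotient splits off. -/
theorem nonempty_dihedral_prod [Finite C] (hC : Nat.card C = f) (hord : orderOf (π x) = f) (hf : Odd f)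
    (e : π.ker ≃* DihedralGroup 4) : Nonempty (O ≃* DihedralGroup 4 × Multiplicative (ZMod f)) := by
  have hk : Nat.card π.ker = 8 := by rw [Nat.card_congr e.toEquiv, DihedralGroup.nat_card]
  have hcard : Nat.card O = 8 * f := by rw [card_eq π f (surj_of_orderOf π f x hC hord) hC, hk]
  set y := x ^ 8
  have hord' : orderOf (π y) = f := by
    rw [map_pow, orderOf_pow' _ (by norm_num), hord,
      Nat.Coprime.gcd_eq_one ((Nat.coprime_two_right.2 hf).pow_right 3), Nat.div_one]
  have hyf : y ^ f = 1 := by rw [← pow_mul, ← hcard, pow_card_eq_one']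
  have hcomm : ∀ n ∈ π.ker, Commute n y := by
    let θ : MulAut π.ker := MulAut.conjNormal y
    have hθ : θ ^ f = 1 := by rw [← map_pow, hyf, map_one]
    have h1 : MulAut.congr e θ = 1 :=
      dihedral_aut_eq_one _ hf (by rw [← map_pow, hθ, map_one])
    have h2 : θ = 1 := (MulAut.congr e).injective (h1.trans (map_one _).symm)
    intro n hn
    have h3 := congrArg Subtype.val (DFunLike.congr_fun h2 ⟨n, hn⟩)
    rw [MulAut.conjNormal_apply] at h3
    exact (mul_inv_eq_iff_eq_mul.1 h3).symm
  obtain ⟨e'⟩ := nonempty_prod_cyclic π f y (Nat.pos_of_ne_zero fun h => by simp [h] at hf) hC hord'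
    hyf hcomm
  exact ⟨e'.trans (e.prodCongr (MulEquiv.refl _))⟩

section Frob

variable {F : Type*} [Field F] [Fintype F]

theorem exists_frob (p f : ℕ) [hp : Fact p.Prime] (hf : 1 ≤ f) (hF : Fintype.card F = p ^ f) :
    ∃ σ : F ≃+* F, (∀ c, σ c = c ^ p) ∧ orderOf σ = f ∧ Nat.card (F ≃+* F) = f := by
  haveI : CharP F p := by
    obtain ⟨c, hc⟩ := CharP.exists F
    haveI := hc
    obtain ⟨k, hc', hk⟩ := FiniteField.card F c
    rw [hF] at hk
    have hd : p ∣ c ^ (k : ℕ) := hk ▸ dvd_pow_self p (by omega)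
    rwa [(Nat.prime_dvd_prime_iff_eq hp.out hc').mp (hp.out.dvd_of_dvd_pow hd)]
  haveI : ExpChar F p := ExpChar.prime hp.out
  have hcard := (AutPSL.fieldAut_facts p f hf hF).2
  haveI : Finite (F ≃+* F) := Nat.finite_of_card_ne_zero (by omega)
  refine ⟨frobeniusEquiv F p, fun c => frobeniusEquiv_def F p c, ?_, hcard⟩
  have hit : ∀ (i : ℕ) (c : F), (frobeniusEquiv F p ^ i) c = c ^ p ^ i := by
    intro i
    induction i with
    | zero => intro c; simp
    | succ i ih =>
      intro c
      rw [pow_succ', RingAut.mul_apply, ih, frobeniusEquiv_def, ← pow_mul, ← pow_succ]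
  set k := orderOf (frobeniusEquiv F p)
  have hk : 0 < k := orderOf_pos _
  refine le_antisymm (hcard ▸ Nat.le_of_dvd Nat.card_pos (orderOf_dvd_natCard _)) ?_
  have hroot : ∀ c : F, c ^ p ^ k = c := fun c => by rw [← hit, pow_orderOf_eq_one]; rfl
  classical
  have h1lt : 1 < p ^ k := Nat.one_lt_pow hk.ne' hp.out.one_lt
  have h1 := Polynomial.card_roots' (Polynomial.X ^ p ^ k - Polynomial.X : Polynomial F)
  rw [FiniteField.X_pow_card_sub_X_natDegree_eq F h1lt] at h1
  have hne : (Polynomial.X ^ p ^ k - Polynomial.X : Polynomial F) ≠ 0 :=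
    FiniteField.X_pow_card_sub_X_ne_zero F h1lt
  have h2 : (Finset.univ : Finset F).val ≤ (Polynomial.X ^ p ^ k - Polynomial.X : Polynomial F).roots := by
    rw [Multiset.le_iff_subset Finset.univ.nodup]
    intro c _
    rw [Polynomial.mem_roots hne]
    simp [hroot c]
  have h3 := (Multiset.card_le_card h2).trans h1
  rw [Finset.card_val, Finset.card_univ, hF] at h3
  exact (Nat.pow_le_pow_iff_right hp.out.one_lt).mp h3

end Frob

end Cfsg.Agent.AutPOmega
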