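import Cfsg.Agent.Lib.AutPOmega.Field
import Cfsg.Agent.Lib.AutPOmega.Instances
import Cfsg.Agent.Lib.AutPOmega.Split
import Cfsg.Agent.Lib.Orth.Order

/-!
# `Out PΩ⁻` in characteristic two

* `frobMinus`, `frob_pow` : the semilinear map `(x, z) ↦ (x², B z²)` and its iterates
* `trace_eq_one` : the trace of `b/a²` is one for an anisotropic form
* `out_minus_even` : cyclic of order `2f`
-/

set_option autoImplicit false
set_option linter.unusedSectionVars false

namespace Cfsg.Agent.AutPOmega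

open Cfsg Matrix Module Cfsg.Agent.Orth
open QuadraticMap (polar)

variable {F : Type*} [Field F] [Fintype F] {j : ℕ}

local notation "IX" => (Fin j ⊕ Fin j) ⊕ Fin 2

theorem aniso_a_ne {a b : F} (h2 : (2 : F) = 0) (hab : Aniso a b) : a ≠ 0 := fun ha =>
  hab.disc_ne_zero (by rw [ha]; linear_combination -2 * b * h2)

/-- `T_i = Σ_{l<i} β^(2^l)`, recursively. -/
def trSum (β : F) : ℕ → F
  | 0 => 0
  | i + 1 => trSum β i ^ 2 + β

theorem trSum_eq (h2 : (2 : F) = 0) (β : F) : ∀ i, trSum β i = ∑ l ∈ Finset.range i, β ^ 2 ^ l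
  | 0 => by simp [trSum]
  | i + 1 => by
    haveI : CharP F 2 := CharTwo.of_one_ne_zero_of_two_eq_zero one_ne_zero h2
    rw [trSum, trSum_eq h2 β i, Finset.sum_range_succ', CharTwo.sum_sq]
    congr 1
    · exact Finset.sum_congr rfl fun l _ => by rw [← pow_mul, ← pow_succ]
    · simp

theorem trace_eq_one {f : ℕ} (hf : 1 ≤ f) (hF : Fintype.card F = 2 ^ f) (h2 : (2 : F) = 0) {a b : F}
    (hab : Aniso a b) : trSum (b / a ^ 2) f = 1 := by
  classical
  haveI : CharP F 2 := CharTwo.of_one_ne_zero_of_two_eq_zero one_ne_zero h2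
  set β := b / a ^ 2
  have hpow : ∀ c : F, c ^ 2 ^ f = c := fun c => by rw [← hF, FiniteField.pow_card]
  have hidem : ∀ c : F, trSum c f * (trSum c f - 1) = 0 := fun c => by
    have h1 : trSum c f ^ 2 + c = trSum c f + c ^ 2 ^ f := by
      rw [show trSum c f ^ 2 + c = trSum c (f + 1) from rfl, trSum_eq h2, trSum_eq h2, Finset.sum_range_succ]
    rw [hpow] at h1
    linear_combination h1
  rcases mul_eq_zero.1 (hidem β) with h0 | h0
  swap
  · exact sub_eq_zero.1 h0
  exfalso
  -- the kernel of the trace is the image of `t ↦ t² + t`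
  let P : Polynomial F := ∑ l ∈ Finset.range f, Polynomial.X ^ 2 ^ l
  have hP0 : P ≠ 0 := fun h => by
    have := congrArg (fun q : Polynomial F => q.coeff 1) h
    simp only [P, Polynomial.finset_sum_coeff, Polynomial.coeff_X_pow, Polynomial.coeff_zero] at this
    rw [Finset.sum_eq_single 0 (fun l _ hl => if_neg (fun e => hl (by
      have := Nat.one_lt_two_pow hl; omega))) (by intro h'; simp at h'; omega)] at this
    simp at this
  have hdeg : P.natDegree ≤ 2 ^ (f - 1) := Polynomial.natDegree_sum_le_of_forall_le _ _ fun l hl => by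
    rw [Polynomial.natDegree_X_pow]
    exact Nat.pow_le_pow_right (by norm_num) (by have := Finset.mem_range.1 hl; omega)
  have heval : ∀ c : F, P.eval c = trSum c f := fun c => by
    simp [P, trSum_eq h2, Polynomial.eval_finsetSum]
  let A : F →+ F :=
    { toFun := fun t => t ^ 2 + t
      map_zero' := by ring
      map_add' := fun s t => by linear_combination s * t * h2 }
  have himg : ∀ t : F, trSum (t ^ 2 + t) f = 0 := by
    intro t
    have : ∀ i, trSum (t ^ 2 + t) i = t ^ 2 ^ i + t := by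
      intro i
      induction i with
      | zero => simp [trSum]; linear_combination -t * h2
      | succ i ih =>
        rw [trSum, ih]
        linear_combination (t ^ 2 ^ i * t + t ^ 2) * h2
    rw [this, hpow]; linear_combination t * h2
  have hker : Nat.card A.ker = 2 := by
    rw [Nat.card_eq_two_iff]
    refine ⟨0, ⟨1, show (1 : F) ^ 2 + 1 = 0 by linear_combination h2⟩, fun h => ?_, ?_⟩
    · exact zero_ne_one (congrArg Subtype.val h)
    · refine Set.eq_univ_of_forall fun t => ?_
      have ht : (t : F) ^ 2 + t = 0 := t.2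
      have ht' : (t : F) * (t + 1) = 0 := by linear_combination ht
      rcases mul_eq_zero.1 ht' with h | h
      · exact Or.inl (Subtype.ext h)
      · exact Or.inr (Subtype.ext (show (t : F) = 1 by linear_combination h - h2))
  have hcard : Nat.card A.range = 2 ^ (f - 1) := by
    have h1 := AddSubgroup.index_mul_card A.ker
    rw [AddSubgroup.index_ker, hker, Nat.card_eq_fintype_card (α := F), hF,
      show 2 ^ f = 2 ^ (f - 1) * 2 by rw [← pow_succ]; congr 1; omega] at h1
    exact Nat.eq_of_mul_eq_mul_right (by norm_num) h1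
  have hroots : P.roots.toFinset.card ≤ 2 ^ (f - 1) :=
    (Multiset.toFinset_card_le _).trans ((Polynomial.card_roots' P).trans hdeg)
  have hsub : Finset.univ.filter (fun c => c ∈ A.range) ⊆ P.roots.toFinset := by
    intro c hc
    obtain ⟨t, rfl⟩ := (Finset.mem_filter.1 hc).2
    rw [Multiset.mem_toFinset, Polynomial.mem_roots hP0, Polynomial.IsRoot, heval]
    exact himg t
  have hβ : β ∈ A.range := by
    have heq := Finset.eq_of_subset_of_card_le hsub (hroots.trans (le_of_eq (by
      rw [← hcard, Nat.card_eq_fintype_card, Fintype.card_subtype])))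
    have hm : β ∈ P.roots.toFinset := by
      rw [Multiset.mem_toFinset, Polynomial.mem_roots hP0, Polynomial.IsRoot, heval, h0]
    rw [← heq, Finset.mem_filter] at hm
    exact hm.2
  obtain ⟨t, ht⟩ := hβ
  have ht' : t ^ 2 + t = b / a ^ 2 := ht
  have ha := aniso_a_ne h2 hab
  have := (hab (a * t) 1 (by field_simp at ht'; linear_combination ht' + b * h2)).2
  exact one_ne_zero this

/-- The linear part of the semilinear Frobenius. -/
noncomputable def frobMat (j : ℕ) (a b : F) :
    Matrix ((Fin j ⊕ Fin j) ⊕ Fin 2) ((Fin j ⊕ Fin j) ⊕ Fin 2) F :=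
  Matrix.fromBlocks 1 0 0 !![1, b; 0, a]

theorem det_frobMat (a b : F) : (frobMat j a b).det = a := by
  rw [frobMat, Matrix.det_fromBlocks_zero₂₁, Matrix.det_one, one_mul, Matrix.det_fin_two_of]; ring

theorem frobMat_mulVec (a b : F) (w : IX → F) :
    (∀ i, (frobMat j a b *ᵥ w) (.inl i) = w (.inl i)) ∧
      (frobMat j a b *ᵥ w) (.inr 0) = w (.inr 0) + b * w (.inr 1) ∧
      (frobMat j a b *ᵥ w) (.inr 1) = a * w (.inr 1) := by
  refine ⟨fun i => ?_, ?_, ?_⟩ <;>
    simp [frobMat, Matrix.fromBlocks_mulVec, Matrix.mulVec, dotProduct, Fin.sum_univ_two, Matrix.one_apply]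

set_option maxHeartbeats 1600000 in
theorem out_minus_even {f : ℕ} (hf : 1 ≤ f) (hF : Fintype.card F = 2 ^ f) (hj : 3 ≤ j) {a b : F}
    (hab : Aniso a b) :
    IsCyclic (Out (POmega F (quadFormMinus j F a b))) ∧
      Nat.card (Out (POmega F (quadFormMinus j F a b))) = 2 * f := by
  haveI : Fact (Nat.Prime 2) := ⟨Nat.prime_two⟩
  obtain ⟨σ, hσp, hord, hC⟩ := exists_frob 2 f hf hF
  haveI : Finite (F ≃+* F) := Nat.finite_of_card_ne_zero (by omega)
  have h2 : (2 : F) = 0 := by
    have h1 : ((2 ^ f : ℕ) : F) = 0 := hF ▸ Nat.cast_card_eq_zero F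
    push_cast at h1
    exact (pow_eq_zero_iff (by omega)).1 h1
  haveI : CharP F 2 := CharTwo.of_one_ne_zero_of_two_eq_zero one_ne_zero h2
  set Q := quadMinus j F a b
  set H := hypMinus hj hab
  haveI : Finite (MulAut (POmega F ⇑Q)) :=
    Finite.of_injective (fun a : MulAut (POmega F ⇑Q) => (a : POmega F ⇑Q → POmega F ⇑Q)) DFunLike.coe_injective
  have ha : a ≠ 0 := aniso_a_ne h2 hab
  let g : GL IX F := Matrix.GeneralLinearGroup.mkOfDetNeZero (frobMat j a b) (by rw [det_frobMat]; exact ha)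
  let S : (IX → F) → (IX → F) := fun v => frobMat j a b *ᵥ (σ ∘ v)
  have hQS : ∀ v, Q (S v) = σ (Q v) := by
    intro v
    obtain ⟨e1, e2, e3⟩ := frobMat_mulVec (j := j) a b (σ ∘ v)
    show quadFormMinus j F a b (S v) = σ (quadFormMinus j F a b v)
    simp only [quadFormMinus, S, e1, e2, e3, Function.comp_apply, map_add, map_sum, map_mul, map_pow]
    simp only [hσp]
    linear_combination (b * (v (Sum.inr 0)) ^ 2 * (v (Sum.inr 1)) ^ 2
      + a * a * b * (v (Sum.inr 1)) ^ 4) * h2
  have hs : IsSemisimilarityPair ⇑Q g σ := ⟨1, fun v => by rw [Units.val_one, one_mul]; exact hQS v⟩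
  -- iterates
  have hiter : ∀ i : ℕ, ∃ (h : GL IX F) (hh : IsSemisimilarityPair ⇑Q h (σ ^ i)),
      semiAut Q hh = semiAut Q hs ^ i ∧
      ∀ v, (h : Matrix IX IX F) *ᵥ ((σ ^ i : F ≃+* F) ∘ v) = S^[i] v := by
    intro i
    induction i with
    | zero => exact ⟨1, semisim_one, semiAut_one.trans (pow_zero _).symm, fun v => by simp⟩
    | succ i ih =>
      obtain ⟨h, hh, he, hv⟩ := ih
      have hm : IsSemisimilarityPair ⇑Q (g * FieldAut.galGL σ h) (σ ^ (i + 1)) := by
        rw [pow_succ']; exact OrthOuter.semisim_mul hs hh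
      refine ⟨g * FieldAut.galGL σ h, hm, ?_, fun v => ?_⟩
      · rw [pow_succ' (semiAut Q hs), ← he, semiAut_mul]
        exact semiAut_congr _ _ rfl (pow_succ' σ i)
      · rw [Function.iterate_succ_apply', ← hv,
          show ((σ ^ (i + 1) : F ≃+* F) : F → F) ∘ v = σ ∘ ((σ ^ i : F ≃+* F) ∘ v) by
            funext l; rw [pow_succ']; rfl,
          Units.val_mul, ← Matrix.mulVec_mulVec, FieldAut.galGL_mulVec]
        rfl
  have hform : ∀ (i : ℕ) (v : IX → F),
      (∀ l, (S^[i] v) (.inl l) = v (.inl l) ^ 2 ^ i) ∧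
      a * (S^[i] v) (.inr 1) = (a * v (.inr 1)) ^ 2 ^ i ∧
      (S^[i] v) (.inr 0) = v (.inr 0) ^ 2 ^ i + trSum (b / a ^ 2) i * (a * v (.inr 1)) ^ 2 ^ i := by
    intro i
    induction i with
    | zero => intro v; simp [trSum]
    | succ i ih =>
      intro v
      obtain ⟨i1, i2, i3⟩ := ih v
      rw [Function.iterate_succ_apply']
      obtain ⟨e1, e2, e3⟩ := frobMat_mulVec (j := j) a b (σ ∘ S^[i] v)
      refine ⟨fun l => ?_, ?_, ?_⟩
      · show (frobMat j a b *ᵥ (σ ∘ S^[i] v)) (.inl l) = _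
        rw [e1, Function.comp_apply, hσp, i1, ← pow_mul, ← pow_succ]
      · show a * (frobMat j a b *ᵥ (σ ∘ S^[i] v)) (.inr 1) = _
        rw [e3, Function.comp_apply, hσp, show (2 : ℕ) ^ (i + 1) = 2 ^ i * 2 from pow_succ 2 i, pow_mul, ← i2]
        ring
      · show (frobMat j a b *ᵥ (σ ∘ S^[i] v)) (.inr 0) = _
        rw [e2, Function.comp_apply, Function.comp_apply, hσp, hσp, i3, trSum,
          show (2 : ℕ) ^ (i + 1) = 2 ^ i * 2 from pow_succ 2 i, pow_mul, pow_mul, ← i2]
        have hd : b / a ^ 2 * (a * S^[i] v (Sum.inr 1)) ^ 2 = b * S^[i] v (Sum.inr 1) ^ 2 := by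
          field_simp
        linear_combination ((v (Sum.inr 0)) ^ 2 ^ i * trSum (b / a ^ 2) i * a * (S^[i] v (Sum.inr 1))) * h2 - hd
  have hpow : ∀ c : F, c ^ 2 ^ f = c := fun c => by rw [← hF, FiniteField.pow_card]
  set v0 : IX → F := Pi.single (.inr 0) 1
  have hQv0 : Q v0 = 1 := by
    show quadFormMinus j F a b v0 = 1
    simp [quadFormMinus, v0, Pi.single_apply]
  set r := refl Q v0 with hr
  have hSf : ∀ v, S^[f] v = ap r v := by
    intro v
    obtain ⟨i1, i2, i3⟩ := hform f v
    rw [trace_eq_one hf hF h2 hab, hpow, hpow, one_mul] at i3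
    rw [hpow] at i2
    have hpol : polar ⇑Q v0 v = a * v (.inr 1) := by
      show polar (quadFormMinus j F a b) v0 v = _
      rw [polar_quadMinus]
      simp [v0, Pi.single_apply, h2]
    rw [refl_ap, hQv0, inv_one, one_mul, hpol]
    funext l
    rcases l with l | l
    · rw [i1, hpow]; simp [v0]
    · fin_cases l
      · show (S^[f] v) (.inr 0) = _
        rw [i3]; simp [v0]; linear_combination (a * v (.inr 1)) * h2
      · show (S^[f] v) (.inr 1) = _
        rw [mul_left_cancel₀ ha i2]; simp [v0]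
  have hσf : σ ^ f = 1 := hord ▸ pow_orderOf_eq_one σ
  obtain ⟨h, hh, he, hv⟩ := hiter f
  have hh1 : IsSemisimilarityPair ⇑Q h (1 : F ≃+* F) := hσf ▸ hh
  have hsim : (⟨h, semi_sim hh1⟩ : OrthOuter.Sim Q) = OrthOuter.toSim Q r := by
    refine OrthOuter.ext_sap fun v => ?_
    rw [OrthOuter.sap_toSim, ← hSf, ← hv, hσf]
    rfl
  have hxf : semiAut Q hs ^ f = OrthOuter.conjAut Q (OrthOuter.toSim Q r) := by
    rw [← he, ← hsim, ← semiAut_one_eq hh1]
    exact semiAut_congr _ _ rfl hσf
  have hG : Good Q := Good.of_card H.nd (.inr (by have := H.seven; omega))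
  -- the kernel has order at most two
  let f2 : IsoGrp Q →* Out (POmega F ⇑Q) :=
    (QuotientGroup.mk' (Inn (POmega F ⇑Q))).comp ((OrthOuter.conjAut Q).comp (OrthOuter.toSim Q))
  have hrange : f2.range = (outField H).ker := by
    ext y
    rw [mem_outField_ker_iff H]
    constructor
    · rintro ⟨o, rfl⟩; exact ⟨_, rfl⟩
    · rintro ⟨s, rfl⟩
      obtain ⟨c, hc⟩ := s.2
      obtain ⟨t, ht⟩ := FiniteField.isSquare_of_char_two (ringChar.eq F 2) (c : F)
      have ht0 : t ≠ 0 := fun h0 => c.ne_zero (by rw [ht, h0, mul_zero])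
      set u := Units.mk0 t ht0
      obtain ⟨o, ho⟩ := (OrthOuter.mem_range_toSim_iff ⟨v0, by rw [hQv0]; exact one_ne_zero⟩
        ((OrthOuter.scal Q u)⁻¹ * s)).2 (by
          rw [map_mul, map_inv, OrthOuter.mult_scal, OrthOuter.mult_eq _ hc]
          exact inv_mul_eq_one.2 (Units.ext ht.symm))
      refine ⟨o, congrArg QuotientGroup.mk (?_ : OrthOuter.conjAut Q (OrthOuter.toSim Q o) = _)⟩
      obtain ⟨hu, eu⟩ := conjAut_eq_semiAut (OrthOuter.scal Q u)
      have : OrthOuter.conjAut Q (OrthOuter.scal Q u) = 1 := by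
        rw [eu]
        refine (FieldAut.conjAut_eq_one_iff (FieldAut.omRigid H.nd (by have := H.seven; omega))
          (FieldAut.keep_conj_sim (OrthOuter.scal Q u).2)).2 (OrthOuter.scal_mem_scalars u) |> Eq.trans ?_
        refine congrArg (FieldAut.indAut FieldAut.omMat_injective) (Subtype.ext ?_)
        show OrthOuter.psi _ (1 : F ≃+* F) = _
        rw [OrthOuter.psi, map_one, mul_one]
      rw [ho, map_mul, map_inv, this, inv_one, one_mul]
  have hker : Omega F ⇑Q ≤ f2.ker := fun o ho => by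
    rw [MonoidHom.mem_ker]
    refine (QuotientGroup.eq_one_iff _).2 ?_
    rw [OrthOuter.inn_eq]
    exact ⟨_, ⟨o, ho, rfl⟩, rfl⟩
  have hle : Nat.card (outField H).ker ≤ 2 := by
    rw [← hrange, ← Subgroup.index_ker]
    refine Nat.le_of_dvd (by norm_num) ?_
    have := Subgroup.index_dvd_of_le hker
    rwa [omega_index_two hG (by have := H.seven; omega) h2] at this
  have hne : (QuotientGroup.mk (semiAut Q hs) : Out (POmega F ⇑Q)) ^ f ≠ 1 := by
    rw [← QuotientGroup.mk_pow, hxf, Ne, QuotientGroup.eq_one_iff, OrthOuter.inn_eq]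
    rintro ⟨_, ⟨o, ho, rfl⟩, he'⟩
    obtain ⟨hs1, e1⟩ := conjAut_eq_semiAut (OrthOuter.toSim Q o⁻¹ * OrthOuter.toSim Q r)
    rw [map_mul, ← he', ← map_mul, ← map_mul, inv_mul_cancel, map_one, map_one] at e1
    obtain ⟨-, c, hc⟩ := semi_eq_one H hs1 e1.symm
    have hap : ∀ v, ap (o⁻¹ * r) v = (c : F) • v := fun v => by
      show ((OrthOuter.toSim Q o⁻¹ * OrthOuter.toSim Q r : OrthOuter.Sim Q) : GL IX F).1 *ᵥ v = _
      rw [← hc]
      show (Matrix.scalar IX (c : F)) *ᵥ v = _
      ext i; simp [Matrix.mulVec_diagonal]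
    have hc1 : (c : F) = 1 := by
      have h5 := Q_ap (o⁻¹ * r) v0
      rw [hap, Q_smul, hQv0, mul_one] at h5
      have : ((c : F) - 1) * ((c : F) - 1) = 0 := by linear_combination h5 + (1 - (c : F)) * h2
      exact sub_eq_zero.1 (mul_self_eq_zero.1 this)
    have hro : r ∈ Omega F ⇑Q := by
      have : o⁻¹ * r = 1 := ext_ap fun v => by rw [hap, hc1, one_smul, ap_one]
      rwa [← inv_mul_eq_one.1 this]
    have h3 := ((mem_omega_iff hG r).1 hro).1
    rw [dick_refl H.nd (by rw [hQv0]; exact one_ne_zero)] at h3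
    norm_num at h3
  have hk : Nat.card (outField H).ker = 2 := by
    refine le_antisymm hle ?_
    by_contra hlt
    have h1 : Nat.card (outField H).ker = 1 := by have := Nat.card_pos (α := (outField H).ker); omega
    haveI := (Nat.card_eq_one_iff_unique.1 h1).1
    have hm : (QuotientGroup.mk (semiAut Q hs) : Out (POmega F ⇑Q)) ^ f ∈ (outField H).ker := by
      rw [MonoidHom.mem_ker, map_pow, outField_semi, hσf]
    exact hne (congrArg Subtype.val (Subsingleton.elim (⟨_, hm⟩ : (outField H).ker) 1))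
  exact cyclic_two_mul (outField H) f (QuotientGroup.mk (semiAut Q hs)) hC
    (by rw [outField_semi, hord]) hk hne

end Cfsg.Agent.AutPOmega
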