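import Cfsg.Agent.Lib.AutPOmega.Field
import Cfsg.Agent.Lib.AutPOmega.Instances
import Cfsg.Agent.Lib.AutPOmega.Split
import Cfsg.Agent.Lib.OrthOuter.Models

/-!
# `Out PΩ⁻` in odd characteristic

* `semi_det_sq` : `det² · disc = c^n · σ(disc)`
* `commute_of_soZ_le` : the kernel of the field component is central when `-1 ∉ Ω`
* `pow_ne_one_of_disc` : a Frobenius class has `f`-th power outside `Inn` for non-square discriminant, `f` even
* `out_minus_odd`, `card_out_minus_odd`
-/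

set_option autoImplicit false
set_option linter.unusedSectionVars false

namespace Cfsg.Agent.AutPOmega

open Cfsg Matrix Module Cfsg.Agent.Orth
open QuadraticMap (polar)

section General

variable {ι : Type} [Fintype ι] [DecidableEq ι] {F : Type*} [Field F] [Fintype F]
variable {Q : QuadraticForm F (ι → F)} {k : ℕ}

theorem semi_det_sq {g : GL ι F} {σ : F ≃+* F} {c : F}
    (hQ : ∀ v, Q ((g : Matrix ι ι F) *ᵥ (σ ∘ v)) = c * σ (Q v)) :
    (g : Matrix ι ι F).det ^ 2 * (gram ⇑Q).det = c ^ Fintype.card ι * σ (gram ⇑Q).det := by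
  set M := (g : Matrix ι ι F)
  set G := gram ⇑Q with hG
  have hGg : Mᵀ * G * M = c • G.map σ := by
    ext i j
    have hij := semi_polar hQ (Pi.single i 1) (Pi.single j 1)
    have hs : ∀ i, σ ∘ (Pi.single i 1 : ι → F) = Pi.single i 1 := fun i => by
      funext l; simp [Pi.single_apply, apply_ite σ]
    rw [hs, hs, Matrix.mulVec_single_one, Matrix.mulVec_single_one, ← polarVec_dotProduct] at hij
    simp only [Matrix.smul_apply, Matrix.map_apply, smul_eq_mul, hG, Orth.gram, Matrix.of_apply]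
    rw [← hij, dotProduct, Matrix.mul_apply]
    refine Finset.sum_congr rfl fun b _ => ?_
    congr 1
    rw [polarVec, Matrix.mul_apply]
    show _ = polar ⇑Q (M.col i) (Pi.single b 1)
    conv_rhs => rw [pl_comm, ← polarVec_dotProduct]
    rw [dotProduct]
    refine Finset.sum_congr rfl fun a _ => ?_
    rw [Matrix.transpose_apply, Matrix.of_apply, polarVec, pl_comm Q (Pi.single b 1), Matrix.col_apply,
      mul_comm]
  have hdet := congrArg Matrix.det hGg
  rw [Matrix.det_mul, Matrix.det_mul, Matrix.det_transpose, Matrix.det_smul,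
    show (G.map σ).det = σ G.det from (RingEquiv.map_det σ G).symm] at hdet
  rw [← hdet]; ring

theorem mk_conj_eq_iff (h : OrthOuter.Ctx Q k) (a b : OrthOuter.Sim Q) :
    (QuotientGroup.mk (OrthOuter.conjAut Q a) : Out (POmega F ⇑Q)) =
      QuotientGroup.mk (OrthOuter.conjAut Q b) ↔ a⁻¹ * b ∈ OrthOuter.omZ Q := by
  rw [QuotientGroup.eq, ← map_inv, ← map_mul, ← OrthOuter.map_omZ h]
  constructor
  · rintro ⟨y, hy, e⟩
    have : y⁻¹ * (a⁻¹ * b) ∈ (OrthOuter.conjAut Q).ker := by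
      rw [MonoidHom.mem_ker, map_mul, map_inv, e, inv_mul_cancel]
    have h2 := mul_mem hy (OrthOuter.ker_le_omZ h this)
    rwa [mul_inv_cancel_left] at h2
  · exact fun hm => ⟨_, hm, rfl⟩

theorem commute_of_soZ_le (H : Hyp Q) (h : OrthOuter.Ctx Q k) (hD : OrthOuter.Diag Q k)
    (hB : negOne Q ∉ Omega F ⇑Q) {n : Out (POmega F ⇑Q)} (hn : n ∈ (outField H).ker)
    (y : Out (POmega F ⇑Q)) : Commute n y := by
  obtain ⟨x, rfl⟩ := (mem_outField_ker_iff H n).1 hn
  obtain ⟨α, rfl⟩ := QuotientGroup.mk_surjective y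
  obtain ⟨g, σ, hs, rfl⟩ := exists_semi_eq H α
  obtain ⟨c, hc⟩ := id hs
  set hne := h.exists_ne
  set μ := OrthOuter.mult hne x
  let h' : GL ι F := g * FieldAut.galGL σ (x : GL ι F) * g⁻¹
  have hh' : h' * g = g * FieldAut.galGL σ (x : GL ι F) := inv_mul_cancel_right _ _
  have hmult : ∀ v, Q ((h' : Matrix ι ι F) *ᵥ v) = σ (μ : F) * Q v := by
    intro v
    obtain ⟨w, hw⟩ : ∃ w : ι → F, σ ∘ w = ((g⁻¹ : GL ι F) : Matrix ι ι F) *ᵥ v :=
      ⟨σ.symm ∘ (((g⁻¹ : GL ι F) : Matrix ι ι F) *ᵥ v), funext fun j => by simp⟩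
    have hv : v = (g : Matrix ι ι F) *ᵥ (σ ∘ w) := by
      rw [hw, Matrix.mulVec_mulVec, ← Units.val_mul, mul_inv_cancel, Units.val_one, Matrix.one_mulVec]
    have h2 : Q ((g : Matrix ι ι F) *ᵥ (σ ∘ (OrthOuter.sap x w))) = (c : F) * σ (Q (OrthOuter.sap x w)) := hc _
    have h3 : Q ((g : Matrix ι ι F) *ᵥ (σ ∘ w)) = (c : F) * σ (Q w) := hc _
    rw [hv, Matrix.mulVec_mulVec, ← Units.val_mul, hh', Units.val_mul, ← Matrix.mulVec_mulVec,
      FieldAut.galGL_mulVec, ← OrthOuter.sap_apply, h2, OrthOuter.Q_sap hne, map_mul, h3]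
    ring
  let μ' : Fˣ := Units.map σ.toMonoidHom μ
  let x' : OrthOuter.Sim Q := ⟨h', μ', hmult⟩
  have hmx : OrthOuter.mult hne x' = μ' := OrthOuter.mult_eq hne hmult
  have hdx : OrthOuter.sdet Q x' = Units.map σ.toMonoidHom (OrthOuter.sdet Q x) := by
    refine Units.ext ?_
    show ((h' : GL ι F) : Matrix ι ι F).det = σ ((x : GL ι F) : Matrix ι ι F).det
    rw [Units.val_mul, Units.val_mul, Matrix.det_units_conj, FieldAut.galGL_apply_coe]
    exact (RingEquiv.map_det σ _).symm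
  have hmem : x⁻¹ * x' ∈ OrthOuter.omZ Q := by
    refine OrthOuter.soZ_le_omZ h hB ((OrthOuter.mem_soZ_iff h _).2 ⟨?_, ?_⟩)
    · have e : OrthOuter.sgn hne k x' = Units.map σ.toMonoidHom (OrthOuter.sgn hne k x) := by
        rw [OrthOuter.sgn_apply, OrthOuter.sgn_apply, hmx, hdx, map_mul, map_inv, map_pow]
      have e2 : OrthOuter.sgn hne k x' = OrthOuter.sgn hne k x := by
        rw [e]
        rcases OrthOuter.sgn_eq_or h hD x with h1 | h1 <;> rw [h1] <;> ext <;> simp
      rw [map_mul, map_inv, e2, inv_mul_cancel]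
    · have e2 : OrthOuter.chi F μ' = OrthOuter.chi F μ := by
        refine Units.ext ?_
        classical
        rw [OrthOuter.chi_coe, OrthOuter.chi_coe]
        exact OrthOuter.quadraticChar_map σ μ.ne_zero
      rw [map_mul, map_inv, hmx, map_mul, map_inv, e2]
      exact inv_mul_cancel (OrthOuter.chi F μ)
  obtain ⟨hsx, ex⟩ := conjAut_eq_semiAut x
  obtain ⟨hsx', ex'⟩ := conjAut_eq_semiAut x'
  have key : semiAut Q hs * OrthOuter.conjAut Q x = OrthOuter.conjAut Q x' * semiAut Q hs := by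
    rw [ex, ex', semiAut_mul, semiAut_mul]
    refine semiAut_congr _ _ ?_ (by rw [mul_one, one_mul])
    rw [show FieldAut.galGL (1 : F ≃+* F) = (1 : MulAut (GL ι F)) from map_one _, MulAut.one_apply]
    exact hh'.symm
  show (QuotientGroup.mk (OrthOuter.conjAut Q x) : Out (POmega F ⇑Q)) * QuotientGroup.mk (semiAut Q hs) =
    QuotientGroup.mk (semiAut Q hs) * QuotientGroup.mk (OrthOuter.conjAut Q x)
  have e1 := congrArg (QuotientGroup.mk (s := Inn (POmega F ⇑Q))) key
  rw [QuotientGroup.mk_mul, QuotientGroup.mk_mul, ← (mk_conj_eq_iff h x x').2 hmem] at e1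
  exact e1.symm

theorem semi_pow {g : GL ι F} {σ : F ≃+* F} {c : F} (hs : IsSemisimilarityPair ⇑Q g σ)
    (hQ : ∀ v, Q ((g : Matrix ι ι F) *ᵥ (σ ∘ v)) = c * σ (Q v)) {p : ℕ} (hp : ∀ x, σ x = x ^ p)
    (k : ℕ) {u : F} (hu : (g : Matrix ι ι F).det = c ^ k * u) (i : ℕ) :
    ∃ (h : GL ι F) (hh : IsSemisimilarityPair ⇑Q h (σ ^ i)) (d : F),
      (∀ v, Q ((h : Matrix ι ι F) *ᵥ ((σ ^ i : F ≃+* F) ∘ v)) = d * (σ ^ i : F ≃+* F) (Q v)) ∧
      semiAut Q hh = semiAut Q hs ^ i ∧
      (h : Matrix ι ι F).det = d ^ k * u ^ (∑ l ∈ Finset.range i, p ^ l) := by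
  induction i with
  | zero =>
    refine ⟨1, semisim_one, 1, fun v => by simp, semiAut_one.trans (pow_zero _).symm, by simp⟩
  | succ i ih =>
    obtain ⟨h, hh, d, hd, he, hdet⟩ := ih
    have hm : IsSemisimilarityPair ⇑Q (g * FieldAut.galGL σ h) (σ ^ (i + 1)) := by
      rw [pow_succ']; exact OrthOuter.semisim_mul hs hh
    refine ⟨g * FieldAut.galGL σ h, hm, c * σ d, fun v => ?_, ?_, ?_⟩
    · rw [show ((σ ^ (i + 1) : F ≃+* F) : F → F) ∘ v = σ ∘ ((σ ^ i : F ≃+* F) ∘ v) by
          funext j; rw [pow_succ']; rfl,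
        Units.val_mul, ← Matrix.mulVec_mulVec, FieldAut.galGL_mulVec, hQ, hd, map_mul, pow_succ',
        RingAut.mul_apply]
      ring
    · rw [pow_succ' (semiAut Q hs), ← he, semiAut_mul]
      exact semiAut_congr _ _ rfl (pow_succ' σ i)
    · rw [Units.val_mul, Matrix.det_mul, FieldAut.galGL_apply_coe,
        show ((h : Matrix ι ι F).map σ).det = σ (h : Matrix ι ι F).det from (RingEquiv.map_det σ _).symm,
        hdet, hu, map_mul, map_pow, map_pow, Finset.sum_range_succ',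
        show σ u = u ^ p from hp u, ← pow_mul, Finset.mul_sum]
      simp only [pow_succ', pow_zero, pow_add, pow_one]
      rw [mul_pow]
      ring

theorem pow_ne_one_of_disc (H : Hyp Q) (h : OrthOuter.Ctx Q k) {p f : ℕ}
    (hF : Fintype.card F = p ^ f) (hpodd : Odd p) (hf : Even f)
    (hdisc : ¬ IsSquare (gram ⇑Q).det) {g : GL ι F} {σ : F ≃+* F}
    (hp : ∀ x, σ x = x ^ p) (hord : σ ^ f = 1) (hs : IsSemisimilarityPair ⇑Q g σ) :
    (QuotientGroup.mk (semiAut Q hs) : Out (POmega F ⇑Q)) ^ f ≠ 1 := by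
  intro e
  obtain ⟨c', hQ'⟩ := id hs
  set c := (c' : F)
  have hQ : ∀ v, Q ((g : Matrix ι ι F) *ᵥ (σ ∘ v)) = c * σ (Q v) := hQ'
  have hc : c ≠ 0 := c'.ne_zero
  set u := (g : Matrix ι ι F).det / c ^ k
  set D := (gram ⇑Q).det with hD
  have hD0 : D ≠ 0 := fun h0 => hdisc (h0 ▸ ⟨0, by simp⟩)
  have hu : (g : Matrix ι ι F).det = c ^ k * u := by
    rw [mul_div_cancel₀]; exact pow_ne_zero _ hc
  have hu2 : u ^ 2 = D ^ (p - 1) := by
    have h1 := semi_det_sq hQ
    rw [hu, h.card, hp, ← hD] at h1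
    have hp1 : p = p - 1 + 1 := by rcases hpodd with ⟨t, rfl⟩; omega
    rw [hp1, pow_succ D, mul_pow, ← pow_mul, mul_comm k 2, mul_assoc] at h1
    have h2 := mul_left_cancel₀ (pow_ne_zero _ hc) h1
    exact mul_right_cancel₀ hD0 h2
  obtain ⟨h1, hh, d, hd, he, hdet⟩ := semi_pow hs hQ hp k hu f
  -- `p + … + p^(f-1)` sums
  set S := ∑ l ∈ Finset.range f, p ^ l with hS
  have hgeo : (p - 1) * S + 1 = p ^ f := by
    have := geom_sum_mul_add (p - 1) f
    rw [show p - 1 + 1 = p by rcases hpodd with ⟨t, rfl⟩; omega, mul_comm] at this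
    exact this
  have hSev : ∃ S', S = 2 * S' := by
    obtain ⟨f', rfl⟩ := hf
    have : ∀ t, ∃ S', ∑ l ∈ Finset.range (t + t), p ^ l = 2 * S' := by
      intro t
      induction t with
      | zero => exact ⟨0, by simp⟩
      | succ t ih =>
        obtain ⟨S', hS'⟩ := ih
        obtain ⟨a, ha⟩ := hpodd.pow (n := t + t)
        obtain ⟨b, hb⟩ := hpodd.pow (n := t + t + 1)
        exact ⟨S' + a + b + 1, by
          rw [show t + 1 + (t + 1) = t + t + 1 + 1 by omega, Finset.sum_range_succ,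
            Finset.sum_range_succ, hS', ha, hb]; ring⟩
    exact this f'
  obtain ⟨S', hS'⟩ := hSev
  have hchar : u ^ S = -1 := by
    have hq2 : ringChar F ≠ 2 := fun h2 => h.two (by
      have := ringChar.charP F
      have := CharP.cast_eq_zero F (ringChar F)
      rw [h2] at this; exact_mod_cast this)
    have hhalf : Fintype.card F / 2 = (p - 1) * S' := by
      rw [hF, ← hgeo, hS', ← mul_assoc, mul_comm (p - 1) 2, mul_assoc]; omega
    rw [hS', pow_mul, hu2, ← pow_mul, ← hhalf]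
    exact (FiniteField.pow_dichotomy hq2 hD0).resolve_left
      fun h3 => hdisc ((FiniteField.isSquare_iff hq2 hD0).2 h3)
  have hh1 : IsSemisimilarityPair ⇑Q h1 (1 : F ≃+* F) := hord ▸ hh
  let x : OrthOuter.Sim Q := ⟨h1, semi_sim hh1⟩
  have hx : OrthOuter.conjAut Q x = semiAut Q hs ^ f := by
    rw [← he, ← semiAut_one_eq hh1]; exact semiAut_congr _ _ rfl hord.symm
  have hin : x ∈ OrthOuter.omZ Q := by
    have h3 := (mk_conj_eq_iff h 1 x).1 (by rw [map_one, hx, QuotientGroup.mk_pow, e]; rfl)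
    rwa [inv_one, one_mul] at h3
  have hsgn : OrthOuter.sgn h.exists_ne k x = 1 :=
    ((OrthOuter.mem_soZ_iff h x).1 (OrthOuter.omZ_le_soZ h hin)).1
  obtain ⟨v, hv⟩ := h.exists_ne
  have hmul : (OrthOuter.mult h.exists_ne x : F) = d := by
    refine mul_right_cancel₀ hv ?_
    rw [← OrthOuter.Q_sap h.exists_ne x v]
    have h4 := hd v
    rw [hord] at h4
    exact h4
  have h5 := congrArg Units.val hsgn
  rw [OrthOuter.sgn_apply, Units.val_mul, Units.val_inv_eq_inv_val, Units.val_pow_eq_pow_val, hmul,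
    OrthOuter.sdet_coe, show ((x : GL ι F) : Matrix ι ι F).det = d ^ k * (-1) by rw [← hchar]; exact hdet,
    mul_comm (d ^ k), mul_assoc, mul_inv_cancel₀ (pow_ne_zero _ (by
      rw [← hmul]; exact Units.ne_zero _)), mul_one, Units.val_one] at h5
  exact h.two (by linear_combination -h5)

end General

variable {F : Type*} [Field F] [Fintype F]

theorem quadFormMinus_map (m : ℕ) (a b : F) (σ : F ≃+* F) (v : (Fin m ⊕ Fin m) ⊕ Fin 2 → F) :
    quadFormMinus m F (σ a) (σ b) (σ ∘ v) = σ (quadFormMinus m F a b v) := by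
  simp [quadFormMinus, map_sum]

theorem exists_semisim_minus (m : ℕ) {a b : F} (hab : Aniso a b) (σ : F ≃+* F) :
    ∃ g : GL ((Fin m ⊕ Fin m) ⊕ Fin 2) F, IsSemisimilarityPair ⇑(quadMinus m F a b) g σ := by
  have hab' : ∀ x y : F, x ^ 2 + σ a * x * y + σ b * y ^ 2 = 0 → x = 0 ∧ y = 0 := by
    intro x y hxy
    have h := congrArg σ.symm hxy
    simp only [map_add, map_mul, map_pow, RingEquiv.symm_apply_apply, map_zero] at h
    obtain ⟨h1, h2⟩ := hab _ _ h
    exact ⟨by simpa using congrArg σ h1, by simpa using congrArg σ h2⟩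
  obtain ⟨e, he⟩ := Forms.qfMinus_equiv hab hab' m
  let g : GL ((Fin m ⊕ Fin m) ⊕ Fin 2) F :=
    ⟨LinearMap.toMatrix' e.toLinearMap, LinearMap.toMatrix' e.symm.toLinearMap,
      by rw [← LinearMap.toMatrix'_comp]; simp, by rw [← LinearMap.toMatrix'_comp]; simp⟩
  refine ⟨g, 1, fun v => ?_⟩
  have hg : (g : Matrix _ _ F) *ᵥ (σ ∘ v) = e (σ ∘ v) := LinearMap.toMatrix'_mulVec _ _
  show quadFormMinus m F a b ((g : Matrix _ _ F) *ᵥ (σ ∘ v)) = _
  rw [hg, ← Forms.qfMinus_apply, he, Forms.qfMinus_apply, quadFormMinus_map, Units.val_one, one_mul]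
  rfl

theorem out_minus_odd {p f j : ℕ} [Fact p.Prime] (hf : 1 ≤ f) (hF : Fintype.card F = p ^ f)
    (hp : p ≠ 2) (hj : 3 ≤ j) {a b : F} (hab : Aniso a b) :
    if p ^ f % 4 = 3 ∧ Even j then
      Nonempty (Out (POmega F (quadFormMinus j F a b)) ≃* DihedralGroup 4 × Multiplicative (ZMod f))
    else Nonempty (Out (POmega F (quadFormMinus j F a b)) ≃* Multiplicative (ZMod 2 × ZMod (2 * f))) := by
  have hpodd : Odd p := (Fact.out : p.Prime).odd_of_ne_two hp
  have hodd : Odd (Fintype.card F) := hF ▸ hpodd.pow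
  set Q := quadMinus j F a b
  set H := hypMinus hj hab
  have hctx : OrthOuter.Ctx Q (j + 1) := OrthOuter.ctxMinus hodd (by omega) hab
  have hD : OrthOuter.Diag Q (j + 1) := OrthOuter.diagMinus hodd (by omega) hab
  have hiff := OrthOuter.negOne_minus_iff hodd (m := j) (by omega) hab
  rw [hF] at hiff
  obtain ⟨σ, hσp, hord, hC⟩ := exists_frob p f hf hF
  haveI : Finite (F ≃+* F) := Nat.finite_of_card_ne_zero (by omega)
  haveI : Finite (MulAut (POmega F ⇑Q)) :=
    Finite.of_injective (fun a : MulAut (POmega F ⇑Q) => (a : POmega F ⇑Q → POmega F ⇑Q)) DFunLike.coe_injective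
  obtain ⟨g, hs⟩ := exists_semisim_minus j hab σ
  set x : Out (POmega F ⇑Q) := QuotientGroup.mk (semiAut Q hs)
  have hord' : orderOf (outField H x) = f := by rw [show outField H x = σ from outField_semi H hs, hord]
  split_ifs with hc
  · have hA : negOne Q ∈ Omega F ⇑Q := hiff.2 ⟨hc.2, hc.1⟩
    obtain ⟨e⟩ := nonempty_ker_equiv H (OrthOuter.pgo_inn_dihedral hctx hD hA)
    refine nonempty_dihedral_prod (outField H) f x hC hord' ?_ e
    by_contra hev
    obtain ⟨t, ht⟩ := Nat.not_odd_iff_even.1 hev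
    have h1 := hc.1
    rw [ht, ← two_mul, pow_mul, Nat.pow_mod] at h1
    obtain ⟨s, rfl⟩ := hpodd
    have : (2 * s + 1) ^ 2 % 4 = 1 := by
      rw [show (2 * s + 1) ^ 2 = 4 * (s * s + s) + 1 by ring]; omega
    rw [this, one_pow] at h1
    norm_num at h1
  · have hB : negOne Q ∉ Omega F ⇑Q := fun h => hc ⟨(hiff.1 h).2, (hiff.1 h).1⟩
    obtain ⟨e⟩ := nonempty_ker_equiv H (OrthOuter.pgo_inn_klein hctx hD hB)
    have hk : Nat.card (outField H).ker = 4 := by rw [Nat.card_congr e.toEquiv]; simp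
    have hexp : ∀ n ∈ (outField H).ker, n * n = 1 := fun n hn => by
      have h2 : (⟨n, hn⟩ : (outField H).ker) * ⟨n, hn⟩ = 1 := e.injective (by
        rw [map_mul, map_one]
        generalize e ⟨n, hn⟩ = z
        revert z; decide)
      exact congrArg Subtype.val h2
    refine nonempty_two_mul (outField H) f x hC hord' hk hexp
      (fun n hn => commute_of_soZ_le H hctx hD hB hn x) ?_
    rcases Nat.even_or_odd f with hev | hov
    · refine .inl (pow_ne_one_of_disc H hctx hF hpodd hev ?_ hσp (hord ▸ pow_orderOf_eq_one σ) hs)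
      classical
      have hq : Fintype.card F % 4 ≠ 3 := by
        rw [hF]
        obtain ⟨t, rfl⟩ := hev
        obtain ⟨s, rfl⟩ := hpodd
        rw [← two_mul, pow_mul, show (2 * s + 1) ^ 2 = 4 * (s * s + s) + 1 by ring, Nat.pow_mod,
          Nat.mul_add_mod, Nat.one_mod, one_pow]
        norm_num
      rw [← quadraticChar_neg_one_iff_not_isSquare, coe_quadMinus, det_gram_quadMinus, map_mul, map_pow,
        OrthOuter.chi_neg_one hodd, if_neg hq, one_pow, one_mul, OrthOuter.chi_disc hodd hab]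
    · exact .inr hov

theorem card_out_minus_odd {p f j : ℕ} [Fact p.Prime] (hf : 1 ≤ f) (hF : Fintype.card F = p ^ f)
    (hp : p ≠ 2) (hj : 3 ≤ j) {a b : F} (hab : Aniso a b) :
    Nat.card (Out (POmega F (quadFormMinus j F a b))) =
      (if p ^ f % 4 = 3 ∧ Even j then 8 else 4) * f := by
  haveI : NeZero f := ⟨by omega⟩
  haveI : NeZero (2 * f) := ⟨by omega⟩
  have h := out_minus_odd hf hF hp hj hab
  split_ifs with hc
  · rw [if_pos hc] at h
    obtain ⟨e⟩ := h
    rw [Nat.card_congr e.toEquiv, Nat.card_prod, DihedralGroup.nat_card]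
    simp
  · rw [if_neg hc] at h
    obtain ⟨e⟩ := h
    rw [Nat.card_congr e.toEquiv]
    simp
    ring

end Cfsg.Agent.AutPOmega
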