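import Cfsg.Agent.Lib.AutPOmega.Field
import Cfsg.Agent.Lib.AutPOmega.Instances
import Cfsg.Agent.Lib.AutPOmega.Split
import Cfsg.Agent.Lib.FieldAut.OrthOdd

/-!
# `Out Ω_{2m+1}(q) = 2 × f`

* `nonempty_out_odd`, `card_mulAut_odd`
-/

set_option autoImplicit false
set_option linter.unusedSectionVars false

namespace Cfsg.Agent.AutPOmega

open Cfsg Matrix Module Cfsg.Agent.Orth
open QuadraticMap (polar)

variable {F : Type*} [Field F] [Fintype F] {m : ℕ}

theorem semisim_gal_odd (σ : F ≃+* F) :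
    IsSemisimilarityPair ⇑(quadOdd m F) (1 : GL (Unit ⊕ (Fin m ⊕ Fin m)) F) σ :=
  ⟨1, fun v => by
    rw [Units.val_one, Units.val_one, Matrix.one_mulVec, one_mul]
    exact FieldAut.coeffFixed_odd σ v⟩

theorem card_ker_odd (hodd : Odd (Fintype.card F)) (hm : 3 ≤ m) :
    Nat.card (outField (hypOdd hodd hm)).ker = 2 := by
  set H := hypOdd hodd hm
  set Q := quadOdd m F
  let f1 : OrthOuter.Sim Q →* Out (POmega F ⇑Q) :=
    (QuotientGroup.mk' (Inn (POmega F ⇑Q))).comp (OrthOuter.conjAut Q)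
  have hrange : f1.range = (outField H).ker := by
    ext y
    rw [mem_outField_ker_iff H]
    exact ⟨fun ⟨x, hx⟩ => ⟨x, hx.symm⟩, fun ⟨x, hx⟩ => ⟨x, hx.symm⟩⟩
  have hr := FieldAut.omRigid_odd (m := m) hodd (by omega : 2 ≤ m)
  have hS : ∀ g ∈ Geo.quadSimilarityGroup (F := F) (quadFormOdd m F),
      MulAut.conj g ∈ FieldAut.keep (FieldAut.omMat (quadFormOdd m F)) := fun _ => FieldAut.keep_conj_sim
  let sI : OrthOuter.Sim Q →* ℤˣ := FieldAut.spinInv (m := m) hodd
  have hker : f1.ker = sI.ker := by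
    ext x
    rw [MonoidHom.mem_ker, MonoidHom.mem_ker]
    refine Iff.trans ?_ (FieldAut.spinInv_ker (hodd := hodd) hr hS x).symm
    show (QuotientGroup.mk (OrthOuter.conjAut Q x) : Out (POmega F ⇑Q)) = 1 ↔ _
    rw [QuotientGroup.eq_one_iff]
    obtain ⟨hs, e⟩ := conjAut_eq_semiAut x
    rw [e]
    have e2 : semiAut Q hs = FieldAut.conjAut hr.inj _ hS x := by
      refine Eq.trans ?_ (FieldAut.conjAut_apply hr.inj _ hS x).symm
      refine congrArg (FieldAut.indAut FieldAut.omMat_injective) (Subtype.ext ?_)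
      show OrthOuter.psi _ (1 : F ≃+* F) = _
      rw [OrthOuter.psi, map_one, mul_one]
    rw [e2]
    rfl
  have hsurj : Function.Surjective sI := by
    intro u
    obtain ⟨g, hg⟩ := Orth.signHom_surjective (FieldAut.quadOdd_good (m := m) hodd)
      (show 2 ≤ Fintype.card (Unit ⊕ (Fin m ⊕ Fin m)) by simp; omega) (two_ne_zero_of_odd hodd) (1, u)
    have h1 := congrArg (fun z : ℤˣ × ℤˣ => ((z.1 : ℤ), (z.2 : ℤ))) hg
    simp only [Orth.signHom, MonoidHom.prod_apply, MonoidHom.coe_toHomUnits, dickHom_apply, spinHom_apply,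
      Units.val_one, Prod.mk.injEq] at h1
    refine ⟨⟨_, FieldAut.iso_le_sim g.2⟩, Units.ext ?_⟩
    exact (congrArg spin (FieldAut.scalPart_eq hodd ⟨_, FieldAut.iso_le_sim g.2⟩ (a := 1) g
      ((mem_special_iff g).1
      ((mem_special_iff_dick (FieldAut.quadOdd_good hodd) (two_ne_zero_of_odd hodd) g).2 h1.1))
      (by rw [map_one, one_mul])).2).trans h1.2
  rw [← hrange, ← Subgroup.index_ker, hker, Subgroup.index_ker, MonoidHom.range_eq_top.2 hsurj,
    Subgroup.card_top, Nat.card_eq_fintype_card, Fintype.card_units_int]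

theorem nonempty_out_odd {p f : ℕ} [Fact p.Prime] (hf : 1 ≤ f) (hF : Fintype.card F = p ^ f)
    (hodd : Odd (Fintype.card F)) (hm : 3 ≤ m) :
    Nonempty (Out (POmega F (quadFormOdd m F)) ≃* Multiplicative (ZMod 2 × ZMod f)) := by
  set H := hypOdd hodd hm
  set Q := quadOdd m F
  obtain ⟨σ, -, hord, hC⟩ := exists_frob p f hf hF
  haveI : Finite (F ≃+* F) := Nat.finite_of_card_ne_zero (by omega)
  let φ : (F ≃+* F) →* MulAut (POmega F ⇑Q) :=
    MonoidHom.mk' (fun τ => semiAut Q (semisim_gal_odd (m := m) τ)) fun a b => by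
      rw [semiAut_mul]
      exact semiAut_congr _ _ (by rw [map_one, one_mul]) rfl
  set x : Out (POmega F ⇑Q) := QuotientGroup.mk (φ σ)
  have hord' : orderOf (outField H x) = f := by
    rw [show outField H x = σ from outField_semi H (semisim_gal_odd σ), hord]
  have hxf : x ^ f = 1 := by
    rw [← QuotientGroup.mk_pow, ← map_pow, ← hord, pow_orderOf_eq_one, map_one]
    rfl
  have hk : Nat.card (outField H).ker = 2 := card_ker_odd hodd hm
  haveI : Finite (MulAut (POmega F ⇑Q)) :=
    Finite.of_injective (fun a : MulAut (POmega F ⇑Q) => (a : POmega F ⇑Q → POmega F ⇑Q)) DFunLike.coe_injective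
  have hcomm : ∀ n ∈ (outField H).ker, Commute n x := by
    intro n hn
    have hm' : x * n * x⁻¹ ∈ (outField H).ker := (outField H).normal_ker.conj_mem n hn x
    by_cases h1 : n = 1
    · rw [h1]; exact Commute.one_left _
    obtain ⟨a, b, -, huniv⟩ := Nat.card_eq_two_iff.1 hk
    have key : ∀ z : (outField H).ker, z ≠ 1 → z = ⟨n, hn⟩ := fun z hz => by
      have h2 : ∀ w : (outField H).ker, w = a ∨ w = b := fun w => by
        have : w ∈ ({a, b} : Set _) := huniv ▸ Set.mem_univ w
        simpa using this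
      rcases h2 z with rfl | rfl <;> rcases h2 ⟨n, hn⟩ with h3 | h3 <;> rcases h2 1 with h4 | h4 <;>
        first
          | exact h3.symm
          | exact absurd h4.symm hz
          | exact absurd (Subtype.ext_iff.1 (h3.trans h4.symm)) h1
    have h2 := key ⟨_, hm'⟩ (fun e => h1 (by simpa using congrArg Subtype.val e))
    have h3 : x * n * x⁻¹ = n := congrArg Subtype.val h2
    exact (mul_inv_eq_iff_eq_mul.1 h3).symm
  obtain ⟨e⟩ := nonempty_prod_cyclic (outField H) f x (by omega) hC hord' hxf hcomm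
  haveI : Fact (Nat.Prime 2) := ⟨Nat.prime_two⟩
  obtain ⟨e2⟩ : Nonempty ((outField H).ker ≃* Multiplicative (ZMod 2)) :=
    ⟨mulEquivOfPrimeCardEq (p := 2) hk (by simp)⟩
  exact ⟨(e.trans (e2.prodCongr (MulEquiv.refl _))).trans
    { toFun := fun p => Multiplicative.ofAdd (p.1.toAdd, p.2.toAdd)
      invFun := fun p => (Multiplicative.ofAdd p.toAdd.1, Multiplicative.ofAdd p.toAdd.2)
      left_inv := fun p => rfl
      right_inv := fun p => rfl
      map_mul' := fun p q => rfl }⟩

theorem card_mulAut_odd {p f : ℕ} [Fact p.Prime] (hf : 1 ≤ f) (hF : Fintype.card F = p ^ f)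
    (hodd : Odd (Fintype.card F)) (hm : 3 ≤ m) :
    Nat.card (MulAut (POmega F (quadFormOdd m F))) =
      2 * f * Nat.card (POmega F (quadFormOdd m F)) := by
  haveI : NeZero f := ⟨by omega⟩
  obtain ⟨e⟩ := nonempty_out_odd hf hF hodd hm
  have h1 := card_mulAut (hypOdd hodd hm)
  have h2 : Nat.card (Out (POmega F (quadFormOdd m F))) = 2 * f := by
    rw [Nat.card_congr e.toEquiv]
    simp
  rw [← h2]
  exact h1

end Cfsg.Agent.AutPOmega
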