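import Cfsg.Agent.Lib.AutPOmega.PlusSim
import Cfsg.Agent.Lib.AutPOmega.Instances
import Cfsg.Agent.Lib.AutPOmega.Split
import Cfsg.Agent.Lib.OrthOuter.Models

/-!
# `Out PΩ⁺_{2m}(q)`, `m ≥ 5`

* `out_plus_two` : `2 × f`
* `out_plus_odd` : `2² × f` or `D₈ × f`
* `card_out_plus`
-/

set_option autoImplicit false
set_option linter.unusedSectionVars false

namespace Cfsg.Agent.AutPOmega

open Cfsg Matrix Module Cfsg.Agent.Orth
open QuadraticMap (polar)

variable {F : Type*} [Field F] [Fintype F] {m : ℕ}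

/-- Outer classes of diagonal similarities. -/
noncomputable def dgP (m : ℕ) (F : Type*) [Field F] [Fintype F] :
    Fˣ × (Fin m → Fˣ) →* Out (POmega F ⇑(quadPlus m F)) := (oc (quadPlus m F)).comp (pd m F)

theorem dgP_congr (hm : 4 ≤ m) {p q : Fˣ × (Fin m → Fˣ)} (t : Fˣ) (h1 : q.1 = p.1 * (t * t))
    (h2 : IsSquare (∏ i, t⁻¹ * ((p.2 i)⁻¹ * q.2 i))) : dgP m F p = dgP m F q := by
  rw [← inv_mul_eq_one, ← map_inv, ← map_mul]
  exact oc_pd_eq_one hm t (by simp [h1, mul_comm]) h2

/-- The outer class of the exchange of one pair. -/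
noncomputable def swOut (i : Fin m) : Out (POmega F ⇑(quadPlus m F)) :=
  oc (quadPlus m F) (OrthOuter.toSim _ (swapAt i))

theorem swOut_sq (i : Fin m) : swOut (F := F) i * swOut i = 1 := by
  rw [swOut, ← map_mul, ← map_mul, swapAt_mul_self, map_one, map_one]

theorem swOut_dgP (i : Fin m) (p : Fˣ × (Fin m → Fˣ)) :
    swOut i * dgP m F p = dgP m F (p.1, Function.update p.2 i (p.1 * (p.2 i)⁻¹)) * swOut i := by
  rw [swOut, dgP, MonoidHom.comp_apply, MonoidHom.comp_apply, ← map_mul, ← map_mul, swap_pd]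

/-- The field class of `σ`. -/
noncomputable def galP (m : ℕ) (F : Type*) [Field F] [Fintype F] :
    (F ≃+* F) →* Out (POmega F ⇑(quadPlus m F)) := (QuotientGroup.mk' _).comp (galHom m F)

theorem galP_swOut (σ : F ≃+* F) (i : Fin m) : Commute (galP m F σ) (swOut i) := by
  show QuotientGroup.mk (galHom m F σ) * QuotientGroup.mk (OrthOuter.conjAut _ _) =
    (QuotientGroup.mk (OrthOuter.conjAut _ _) : Out (POmega F ⇑(quadPlus m F))) * QuotientGroup.mk _
  rw [← QuotientGroup.mk_mul, ← QuotientGroup.mk_mul]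
  exact congrArg _ (gal_swap σ i)

theorem galP_dgP (σ : F ≃+* F) (p : Fˣ × (Fin m → Fˣ)) :
    galP m F σ * dgP m F p =
      dgP m F (Units.map σ.toMonoidHom p.1, fun i => Units.map σ.toMonoidHom (p.2 i)) * galP m F σ := by
  show QuotientGroup.mk (galHom m F σ) * QuotientGroup.mk (OrthOuter.conjAut _ (pd m F _)) =
    (QuotientGroup.mk (OrthOuter.conjAut _ (pd m F _)) : Out (POmega F ⇑(quadPlus m F))) * QuotientGroup.mk _
  rw [← QuotientGroup.mk_mul, ← QuotientGroup.mk_mul, gal_pd]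

theorem outField_galP (H : Hyp (quadPlus m F)) (σ : F ≃+* F) : outField H (galP m F σ) = σ :=
  outField_semi H (semisim_gal_plus σ)

theorem outField_oc (H : Hyp (quadPlus m F)) (x : OrthOuter.Sim (quadPlus m F)) :
    outField H (oc _ x) = 1 :=
  MonoidHom.mem_ker.1 ((mem_outField_ker_iff H _).2 ⟨x, rfl⟩)

theorem ker_commute (hm : 4 ≤ m) (H : Hyp (quadPlus m F)) (i₀ : Fin m) {ν : Fˣ}
    (hν : (2 : F) = 0 ∨ ¬ IsSquare ν) {y : Out (POmega F ⇑(quadPlus m F))}
    (h1 : Commute (dgP m F (ν, 1)) y) (h2 : Commute (dgP m F (1, Pi.mulSingle i₀ ν)) y)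
    (h3 : Commute (swOut i₀) y) (n : Out (POmega F ⇑(quadPlus m F))) (hn : n ∈ (outField H).ker) :
    Commute n y := by
  obtain ⟨x, rfl⟩ := (mem_outField_ker_iff H n).1 hn
  obtain ⟨j, k, l, e⟩ := exists_oc_eq hm i₀ hν x
  show Commute (oc (quadPlus m F) x) y
  rw [e]
  refine Commute.mul_left ?_ (h3.pow_left l)
  show Commute (dgP m F _) y
  rw [show ((ν ^ j, Pi.mulSingle i₀ (ν ^ k)) : Fˣ × (Fin m → Fˣ)) =
      (ν, 1) ^ j * (1, Pi.mulSingle i₀ ν) ^ k by
    rw [Prod.pow_mk, Prod.pow_mk, ← Pi.mulSingle_pow, Prod.mk_mul_mk, one_pow, one_pow, mul_one, one_mul],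
    map_mul, map_pow, map_pow]
  exact (h1.pow_left j).mul_left (h2.pow_left k)

set_option maxHeartbeats 4000000 in
theorem exists_central_frob (hm : 4 ≤ m) (H : Hyp (quadPlus m F)) {p f : ℕ} [Fact p.Prime]
    (hF : Fintype.card F = p ^ f) (hodd : Odd p) {σ : F ≃+* F} (hσ : ∀ c, σ c = c ^ p)
    (hord : σ ^ f = 1) :
    ∃ x : Out (POmega F ⇑(quadPlus m F)), outField H x = σ ∧ x ^ f = 1 ∧
      ∀ n ∈ (outField H).ker, Commute n x := by
  classical
  set i₀ : Fin m := ⟨0, by omega⟩
  have h2 : ringChar F ≠ 2 := fun h => by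
    have := FiniteField.even_card_of_char_two h
    rw [hF] at this
    exact Nat.not_even_iff_odd.2 hodd.pow (Nat.even_iff.2 this)
  obtain ⟨r, hr⟩ := FiniteField.exists_nonsquare h2
  set ν : Fˣ := Units.mk0 r (fun h0 => hr (h0 ▸ ⟨0, by simp⟩))
  have hν : ¬ IsSquare ν := fun ⟨c, hc⟩ => hr ⟨c, by rw [← Units.val_mul, ← hc]; rfl⟩
  obtain ⟨k, hk⟩ := hodd
  set φ := galP m F σ
  set r0 := swOut (F := F) i₀
  set δ := dgP m F (ν, 1)
  set s := dgP m F (1, Pi.mulSingle i₀ ν)
  have hmap : Units.map σ.toMonoidHom ν = ν ^ p := Units.ext (by simp [hσ])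
  have hφs : Commute φ s := by
    show φ * s = s * φ
    rw [galP_dgP, map_one, show (fun i => Units.map σ.toMonoidHom ((Pi.mulSingle i₀ ν : Fin m → Fˣ) i)) =
      Pi.mulSingle i₀ (ν ^ p) from funext fun i => by
        rw [← hmap]; exact Pi.apply_mulSingle (fun _ => Units.map σ.toMonoidHom) (fun _ => map_one _) _ _ i]
    congr 1
    refine dgP_congr hm 1 (by simp) ⟨(ν ^ k)⁻¹, ?_⟩
    simp only [inv_one, one_mul]
    rw [Finset.prod_mul_distrib, Finset.prod_inv_distrib, Fintype.prod_pi_mulSingle',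
      Fintype.prod_pi_mulSingle', hk]
    group
  set u := ν ^ k
  have hu : u * u = ν ^ (p - 1) := by rw [← pow_add, hk]; congr 1; omega
  have hφr : Commute φ r0 := galP_swOut σ i₀
  have hxr : r0 * s = s * r0 := by
    rw [swOut_dgP]
    congr 1
    refine dgP_congr hm 1 (by simp) ⟨ν, ?_⟩
    simp only [inv_one, one_mul]
    rw [Finset.prod_mul_distrib, Finset.prod_inv_distrib, Finset.prod_update_of_mem (Finset.mem_univ _),
      Finset.prod_eq_one (s := Finset.univ \ {i₀}) (fun i hi => by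
        simp only [Finset.mem_sdiff, Finset.mem_singleton] at hi
        rw [Pi.mulSingle_eq_of_ne hi.2]), Fintype.prod_pi_mulSingle', Pi.mulSingle_eq_same]
    simp [mul_comm]
  by_cases hsq : IsSquare (u ^ m)
  · refine ⟨φ, outField_galP H σ, by rw [← map_pow, hord, map_one], fun n hn =>
      ker_commute hm H i₀ (.inr hν) ?_ hφs.symm hφr.symm n hn⟩
    refine Commute.symm ?_
    show φ * δ = δ * φ
    rw [galP_dgP, hmap, show (fun i => Units.map σ.toMonoidHom ((1 : Fin m → Fˣ) i)) = 1 from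
      funext fun i => map_one _]
    congr 1
    refine dgP_congr hm u⁻¹ ?_ ?_
    · rw [← mul_inv, hu, eq_mul_inv_iff_mul_eq, hk, Nat.add_sub_cancel, pow_succ']
    · simpa [Finset.prod_const] using hsq
  have hφδ : φ * δ = δ * s * φ := by
    rw [galP_dgP, hmap, ← map_mul, show (fun i => Units.map σ.toMonoidHom ((1 : Fin m → Fˣ) i)) = 1 from
      funext fun i => map_one _]
    congr 1
    refine dgP_congr hm u⁻¹ ?_ ?_
    · simp only [Prod.mk_mul_mk, mul_one]
      rw [← mul_inv, hu, eq_mul_inv_iff_mul_eq, hk, Nat.add_sub_cancel, pow_succ']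
    · simp only [Prod.mk_mul_mk, one_mul, Pi.one_apply, inv_inv, inv_one]
      rw [Finset.prod_mul_distrib, Finset.prod_const, Fintype.prod_pi_mulSingle', Finset.card_univ,
        Fintype.card_fin]
      have cast : ∀ u : Fˣ, IsSquare (u : F) → IsSquare u := fun u ⟨r, hr⟩ =>
        ⟨Units.mk0 r (fun h0 => u.ne_zero (by rw [hr, h0, mul_zero])), Units.ext hr⟩
      refine cast _ ((quadraticChar_one_iff_isSquare (Units.ne_zero _)).1 ?_)
      rw [Units.val_mul, map_mul, quadraticChar_neg_one_iff_not_isSquare.2 fun hc => hsq (cast _ hc),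
        quadraticChar_neg_one_iff_not_isSquare.2 fun hc => hν (cast _ hc)]
      norm_num
  have hmk : Odd m ∧ Odd k := by
    by_contra hc
    refine hsq ?_
    rcases not_and_or.1 hc with h | h
    · obtain ⟨j, hj⟩ := Nat.not_odd_iff_even.1 h; exact ⟨u ^ j, by rw [← pow_add, ← hj]⟩
    · obtain ⟨j, hj⟩ := Nat.not_odd_iff_even.1 h
      exact ⟨(ν ^ j) ^ m, by rw [← mul_pow, ← pow_add, ← hj]⟩
  rcases Nat.even_or_odd f with hev | hfo
  · -- twist by the exchange
    refine ⟨φ * r0, by rw [map_mul, outField_galP, show outField H r0 = 1 from outField_oc H _, mul_one], ?_, fun n hn =>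
      ker_commute hm H i₀ (.inr hν) ?_ ?_ ?_ n hn⟩
    · rw [hφr.mul_pow, ← map_pow, hord, map_one, one_mul]
      obtain ⟨t, rfl⟩ := hev
      rw [← two_mul, pow_mul, sq, swOut_sq, one_pow]
    · refine Commute.symm ?_
      have hrδ : r0 * δ = δ * s * r0 := by
        rw [swOut_dgP, ← map_mul]
        congr 2
        refine Prod.ext (by simp) (funext fun i => ?_)
        by_cases hi : i = i₀
        · subst hi; simp
        · simp [hi]
      have hss : s * s = 1 := by
        rw [← map_mul]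
        refine oc_pd_eq_one hm 1 (by simp) ⟨ν, ?_⟩
        simp only [inv_one, one_mul, Prod.mk_mul_mk, Pi.mul_apply]
        rw [Finset.prod_mul_distrib, Fintype.prod_pi_mulSingle']
      show φ * r0 * δ = δ * (φ * r0)
      rw [mul_assoc, hrδ, ← mul_assoc, ← mul_assoc, hφδ, mul_assoc (δ * s) φ s, hφs.eq, ← mul_assoc,
        mul_assoc δ s s, hss, mul_one, mul_assoc]
    · exact (hφs.mul_left (show Commute r0 s from hxr)).symm
    · exact (hφr.mul_left (Commute.refl r0)).symm
  · -- the spinor class is trivial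
    have hs1 : s = 1 := by
      have hneg : ¬ IsSquare (-1 : F) := by
        rw [FiniteField.isSquare_neg_one_iff, not_not, hF]
        obtain ⟨t, ht⟩ := hfo
        obtain ⟨j, hj⟩ := hmk.2
        rw [ht, pow_succ, pow_mul, Nat.mul_mod, Nat.pow_mod, hk, hj,
          show (2 * (2 * j + 1) + 1) ^ 2 = 4 * (4 * j * j + 6 * j + 2) + 1 by ring, Nat.mul_add_mod]
        simp
        omega
      refine oc_pd_eq_one hm (-1) (by simp) ?_
      rw [Finset.prod_mul_distrib, Finset.prod_const, Fintype.prod_pi_mulSingle', Finset.card_univ,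
        Fintype.card_fin, inv_neg_one, hmk.1.neg_one_pow]
      have cast : ∀ u : Fˣ, IsSquare (u : F) → IsSquare u := fun u ⟨r, hr⟩ =>
        ⟨Units.mk0 r (fun h0 => u.ne_zero (by rw [hr, h0, mul_zero])), Units.ext hr⟩
      refine cast _ ((quadraticChar_one_iff_isSquare (Units.ne_zero _)).1 ?_)
      rw [Units.val_mul, map_mul, Units.val_neg, Units.val_one,
        quadraticChar_neg_one_iff_not_isSquare.2 hneg,
        quadraticChar_neg_one_iff_not_isSquare.2 fun hc => hν (cast _ hc)]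
      norm_num
    refine ⟨φ, outField_galP H σ, by rw [← map_pow, hord, map_one], fun n hn =>
      ker_commute hm H i₀ (.inr hν) ?_ hφs.symm hφr.symm n hn⟩
    refine Commute.symm ?_
    show φ * δ = δ * φ
    rw [hφδ, hs1, mul_one]

theorem out_plus_odd {p f : ℕ} [Fact p.Prime] (hf : 1 ≤ f) (hF : Fintype.card F = p ^ f) (hp : p ≠ 2)
    (hm : 5 ≤ m) :
    if p ^ f % 4 = 3 ∧ Odd m then
      Nonempty (Out (POmega F (quadFormPlus m F)) ≃* Multiplicative (ZMod 2 × ZMod 2 × ZMod f))
    else Nonempty (Out (POmega F (quadFormPlus m F)) ≃* DihedralGroup 4 × Multiplicative (ZMod f)) := by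
  have hpodd : Odd p := (Fact.out : p.Prime).odd_of_ne_two hp
  have hodd : Odd (Fintype.card F) := hF ▸ hpodd.pow
  have H : Hyp (quadPlus m F) := hypPlus hm
  have hctx := OrthOuter.ctxPlus hodd (m := m) (by omega)
  have hD := OrthOuter.diagPlus hodd (m := m) (by omega)
  have hiff := OrthOuter.negOne_plus_iff hodd (m := m) (by omega)
  rw [hF] at hiff
  obtain ⟨σ, hσ, hord, hC⟩ := exists_frob p f hf hF
  haveI : Finite (F ≃+* F) := Nat.finite_of_card_ne_zero (by omega)
  haveI : Finite (MulAut (POmega F ⇑(quadPlus m F))) :=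
    Finite.of_injective (fun a : MulAut (POmega F ⇑(quadPlus m F)) => (a : POmega F ⇑(quadPlus m F) → _))
      DFunLike.coe_injective
  obtain ⟨x, hx, hxf, hxc⟩ :=
    exists_central_frob (by omega) H hF hpodd hσ (hord ▸ pow_orderOf_eq_one σ)
  obtain ⟨e⟩ := nonempty_prod_cyclic (outField H) f x (by omega) hC (by rw [hx, hord]) hxf hxc
  split_ifs with hc
  · obtain ⟨e2⟩ := nonempty_ker_equiv H (OrthOuter.pgo_inn_klein hctx hD fun h => hiff.1 h ⟨hc.2, hc.1⟩)
    exact ⟨(e.trans (e2.prodCongr (MulEquiv.refl _))).trans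
      { toFun := fun p => Multiplicative.ofAdd (p.1.toAdd.1, p.1.toAdd.2, p.2.toAdd)
        invFun := fun p =>
          (Multiplicative.ofAdd (p.toAdd.1, p.toAdd.2.1), Multiplicative.ofAdd p.toAdd.2.2)
        left_inv := fun p => rfl
        right_inv := fun p => rfl
        map_mul' := fun p q => rfl }⟩
  · obtain ⟨e2⟩ := nonempty_ker_equiv H (OrthOuter.pgo_inn_dihedral hctx hD
      (hiff.2 fun h => hc ⟨h.2, h.1⟩))
    exact ⟨e.trans (e2.prodCongr (MulEquiv.refl _))⟩

set_option maxHeartbeats 1000000 in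
theorem out_plus_two {f : ℕ} (hf : 1 ≤ f) (hF : Fintype.card F = 2 ^ f) (hm : 5 ≤ m) :
    Nonempty (Out (POmega F (quadFormPlus m F)) ≃* Multiplicative (ZMod 2 × ZMod f)) := by
  haveI : Fact (Nat.Prime 2) := ⟨Nat.prime_two⟩
  obtain ⟨σ, hσ, hord, hC⟩ := exists_frob 2 f hf hF
  haveI : Finite (F ≃+* F) := Nat.finite_of_card_ne_zero (by omega)
  haveI : Finite (MulAut (POmega F ⇑(quadPlus m F))) :=
    Finite.of_injective (fun a : MulAut (POmega F ⇑(quadPlus m F)) => (a : POmega F ⇑(quadPlus m F) → _))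
      DFunLike.coe_injective
  have h2 : (2 : F) = 0 := by
    have h1 : ((2 ^ f : ℕ) : F) = 0 := hF ▸ Nat.cast_card_eq_zero F
    push_cast at h1
    exact (pow_eq_zero_iff (by omega)).1 h1
  have H : Hyp (quadPlus m F) := hypPlus hm
  set i₀ : Fin m := ⟨0, by omega⟩
  have hone : dgP m F ((1, 1) : Fˣ × (Fin m → Fˣ)) = 1 := map_one _
  have hone' : dgP m F (1, Pi.mulSingle i₀ 1) = 1 := by rw [Pi.mulSingle_one]; exact hone
  set x := galP m F σ
  have hcomm : ∀ n ∈ (outField H).ker, Commute n x := ker_commute (by omega) H i₀ (ν := 1) (.inl h2)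
    (hone ▸ Commute.one_left x) (hone' ▸ Commute.one_left x) (galP_swOut σ i₀).symm
  have hker : ∀ n ∈ (outField H).ker, n = 1 ∨ n = swOut i₀ := by
    intro n hn
    obtain ⟨y, rfl⟩ := (mem_outField_ker_iff H n).1 hn
    obtain ⟨j, k, l, e⟩ := exists_oc_eq (show 4 ≤ m by omega) i₀ (ν := 1) (.inl h2) y
    have h1 : oc (quadPlus m F) y = swOut i₀ ^ l := by
      rw [e, one_pow, one_pow, show oc (quadPlus m F) (pd m F (1, Pi.mulSingle i₀ 1)) = 1 from hone',
        one_mul]
      rfl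
    rw [← oc_apply, h1]
    rcases Nat.even_or_odd' l with ⟨t, rfl | rfl⟩
    · left; rw [pow_mul, sq, swOut_sq, one_pow]
    · right; rw [pow_succ, pow_mul, sq, swOut_sq, one_pow, one_mul]
  have hr1 : swOut (F := F) i₀ ≠ 1 := by
    intro h
    obtain ⟨t, o, ho, e⟩ := exists_of_oc_eq_one H.toBase h
    have hne := OrthOuter.exists_Q_ne H.nd (by have := H.seven; omega)
    have hmt := congrArg (OrthOuter.mult hne) e
    rw [map_mul, OrthOuter.mult_scal, OrthOuter.mult_eq hne (g := OrthOuter.toSim _ o) (c := 1)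
      (fun v => by simp [Q_ap]), OrthOuter.mult_eq hne (g := OrthOuter.toSim _ (swapAt i₀)) (c := 1)
      (fun v => by simp [Q_ap]), one_mul] at hmt
    have ht : t = 1 := Units.ext (by
      have h3 : (t : F) * t = 1 := by rw [← Units.val_mul, ← hmt, Units.val_one]
      have h4 : ((t : F) - 1) * ((t : F) - 1) = 0 := by linear_combination h3 + (1 - (t : F)) * h2
      rw [Units.val_one]
      exact sub_eq_zero.1 (mul_self_eq_zero.1 h4))
    rw [ht, map_one, mul_one] at e
    rw [← OrthOuter.toSim_injective e] at ho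
    have h3 := ((mem_omega_iff (goodPlus (show 4 ≤ m by omega)) _).1 ho).1
    rw [dick_swapAt (show 4 ≤ m by omega)] at h3
    norm_num at h3
  have hk : Nat.card (outField H).ker = 2 := by
    rw [Nat.card_eq_two_iff]
    refine ⟨1, ⟨swOut i₀, MonoidHom.mem_ker.2 (outField_oc H _)⟩,
      fun h => hr1 (congrArg Subtype.val h).symm, ?_⟩
    refine Set.eq_univ_of_forall fun n => ?_
    rcases hker n.1 n.2 with h | h
    · exact .inl (Subtype.ext h)
    · exact .inr (Subtype.ext h)
  obtain ⟨e⟩ := nonempty_prod_cyclic (outField H) f x (by omega) hC (by rw [outField_galP, hord])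
    (by rw [← map_pow, ← hord, pow_orderOf_eq_one, map_one]) hcomm
  obtain ⟨e2⟩ : Nonempty ((outField H).ker ≃* Multiplicative (ZMod 2)) :=
    ⟨mulEquivOfPrimeCardEq (p := 2) hk (by simp)⟩
  exact ⟨(e.trans (e2.prodCongr (MulEquiv.refl _))).trans
    { toFun := fun p => Multiplicative.ofAdd (p.1.toAdd, p.2.toAdd)
      invFun := fun p => (Multiplicative.ofAdd p.toAdd.1, Multiplicative.ofAdd p.toAdd.2)
      left_inv := fun p => rfl
      right_inv := fun p => rfl
      map_mul' := fun p q => rfl }⟩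

theorem card_out_plus {p f : ℕ} [Fact p.Prime] (hf : 1 ≤ f) (hF : Fintype.card F = p ^ f) (hm : 5 ≤ m) :
    Nat.card (Out (POmega F (quadFormPlus m F))) =
      (if p = 2 then 2 else (if p ^ f % 4 = 3 ∧ Odd m then 4 else 8)) * f := by
  haveI : NeZero f := ⟨by omega⟩
  by_cases hp : p = 2
  · subst hp
    obtain ⟨e⟩ := out_plus_two hf hF hm
    rw [if_pos rfl, Nat.card_congr e.toEquiv]
    simp
  have h := out_plus_odd hf hF hp hm
  rw [if_neg hp]
  split_ifs with hc
  · rw [if_pos hc] at h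
    obtain ⟨e⟩ := h
    rw [Nat.card_congr e.toEquiv]
    simp
    ring
  · rw [if_neg hc] at h
    obtain ⟨e⟩ := h
    rw [Nat.card_congr e.toEquiv, Nat.card_prod, DihedralGroup.nat_card]
    simp

end Cfsg.Agent.AutPOmega
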