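import Cfsg.Agent.Lib.AutPOmega.Main

/-!
# Pairs of meeting lines, `n ≥ 7` with triality allowed

Meeting is taken geometrically; an automorphism respecting it permutes the stars and so is induced by a
semisimilarity.

* `MB x y` : the lines of two root elements meet; `mb_iff`
* `meet_orbit` : `PΩ(Q)` is transitive on meeting non-orthogonal pairs of lines
* `Pres γ` : `γ` preserves `MB`; `pt_of_pres`, `pres_of_pt`, `exists_semi_eq_of_pres`
* `Lin β` : `β` is linear on every root group; `lin_inner`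
* `exists_scaling` : inner automorphisms realise all scalars on a root group
-/

set_option autoImplicit false
set_option linter.unusedSectionVars false

namespace Cfsg.Agent.AutPOmega

open Cfsg Matrix Module Cfsg.Agent.Orth
open QuadraticMap (polar)

variable {ι : Type} [Fintype ι] [DecidableEq ι] {F : Type*} [Field F] [Fintype F]
variable {Q : QuadraticForm F (ι → F)}

theorem SPair.map {u w : ι → F} (h : SPair Q u w) (g : IsoGrp Q) : SPair Q (ap g u) (ap g w) :=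
  ⟨by rw [Q_ap, h.qu], by rw [Q_ap, h.qw], by rw [polar_ap, h.p], ap_ne_zero g h.nu, fun hm => h.ind (by
    obtain ⟨c, hc⟩ := Submodule.mem_span_singleton.1 hm
    exact Submodule.mem_span_singleton.2 ⟨c, ap_inj g (by rw [map_smul, hc])⟩)⟩

theorem map_ln (g : IsoGrp Q) (u w : ι → F) : (ln u w).map (ap g) = ln (ap g u) (ap g w) := by
  rw [ln, ln, Submodule.map_span, Set.image_pair]

theorem conj_E (H : Base Q) {h : IsoGrp Q} (hh : h ∈ Omega F ⇑Q) (u w : ι → F) :
    MulAut.conj (om h) (E Q u w) = E Q (ap h u) (ap h w) := by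
  rw [MulAut.conj_apply, om_conj H hh]

variable (Q) in
/-- The lines of two root elements meet. -/
def MB (x y : POmega F ⇑Q) : Prop :=
  ∃ u a b, SPair Q u a ∧ SPair Q u b ∧ x = E Q u a ∧ y = E Q u b

theorem mb_iff (H : Base Q) {u w u' w' : ι → F} (h : SPair Q u w) (h' : SPair Q u' w') :
    MB Q (E Q u w) (E Q u' w') ↔ Meet (ln u w) (ln u' w') := by
  constructor
  · rintro ⟨p, a, b, ha, hb, ea, eb⟩
    refine ⟨p, ha.nu, ?_, ?_⟩
    · rw [h.line_eq H.nd ha ((E_eq_iff H).1 ea)]; exact left_mem_ln _ _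
    · rw [h'.line_eq H.nd hb ((E_eq_iff H).1 eb)]; exact left_mem_ln _ _
  · rintro ⟨p, hp0, h1, h2⟩
    obtain ⟨a, ha, -, e1⟩ := h.basis_at h1 hp0
    obtain ⟨b, hb, -, e2⟩ := h'.basis_at h2 hp0
    exact ⟨p, a, b, ha, hb, congrArg om e1, congrArg om e2⟩

theorem MB.root {x y : POmega F ⇑Q} (h : MB Q x y) : IsRoot x ∧ IsRoot y := by
  obtain ⟨u, a, b, ha, hb, rfl, rfl⟩ := h
  exact ⟨⟨u, a, ha, rfl⟩, ⟨u, b, hb, rfl⟩⟩

theorem MB.commute (H : Base Q) {x y : POmega F ⇑Q} (h : MB Q x y) : Commute x y := by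
  obtain ⟨u, a, b, ha, hb, rfl, rfl⟩ := h
  exact (commute_iff H ha hb).2 (.inl ⟨u, ha.nu, left_mem_ln _ _, left_mem_ln _ _⟩)

theorem MB.conj (H : Base Q) {x y : POmega F ⇑Q} (h : MB Q x y) (z : POmega F ⇑Q) :
    MB Q (MulAut.conj z x) (MulAut.conj z y) := by
  obtain ⟨u, a, b, ha, hb, rfl, rfl⟩ := h
  obtain ⟨g, hg, rfl⟩ := exists_om z
  exact ⟨_, _, _, ha.map g, hb.map g, conj_E H hg u a, conj_E H hg u b⟩

theorem MB.sameL (H : Base Q) {x y x' y' : POmega F ⇑Q} (h : MB Q x y) (hx : SameL x x')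
    (hy : SameL y y') : MB Q x' y' := by
  obtain ⟨u, a, b, ha, hb, rfl, rfl⟩ := h
  obtain ⟨u1, w1, h1, rfl⟩ := hx.2.1
  obtain ⟨u2, w2, h2, rfl⟩ := hy.2.1
  refine (mb_iff H h1 h2).2 ⟨u, ha.nu, ?_, ?_⟩
  · rw [← (same_iff H ha h1).1 hx]; exact left_mem_ln _ _
  · rw [← (same_iff H hb h2).1 hy]; exact left_mem_ln _ _

theorem SameL.symm {x y : POmega F ⇑Q} (h : SameL x y) : SameL y x :=
  ⟨h.2.1, h.1, fun z hz => (h.2.2 z hz).symm⟩

theorem SameL.trans {x y z : POmega F ⇑Q} (h : SameL x y) (h' : SameL y z) : SameL x z :=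
  ⟨h.1, h'.2.1, fun w hw => (h.2.2 w hw).trans (h'.2.2 w hw)⟩

/-- Meeting pairs that are neither equal nor coplanar meet without being orthogonal. -/
theorem MB.exists_polar (H : Base Q) {x y : POmega F ⇑Q} (h : MB Q x y) (hs : ¬ SameL x y)
    (hc : ¬ Coplanar x y) :
    ∃ u a b, SPair Q u a ∧ SPair Q u b ∧ polar ⇑Q a b ≠ 0 ∧ x = E Q u a ∧ y = E Q u b := by
  obtain ⟨u, a, b, ha, hb, rfl, rfl⟩ := h
  refine ⟨u, a, b, ha, hb, fun h0 => hc ((coplanar_iff H ha hb).2 ⟨fun hl => hs ((same_iff H ha hb).2 hl),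
    ⟨u, ha.nu, left_mem_ln _ _, left_mem_ln _ _⟩, perp_ln_iff.2 ⟨⟨?_, hb.p⟩, ?_, h0⟩⟩), rfl, rfl⟩
  · rw [pl_self, ha.qu, mul_zero]
  · rw [pl_comm]; exact ha.p

theorem triple_coeff {u a b : ι → F} (ha : SPair Q u a) (hb : SPair Q u b) (hab : polar ⇑Q a b = 1)
    {s t r : F} (e : s • u + t • a + r • b = 0) : s = 0 ∧ t = 0 ∧ r = 0 := by
  have h1 := congrArg (polar ⇑Q a) e
  have h2 := congrArg (polar ⇑Q b) e
  simp only [pl_add_right, pl_smul_right, pl_self, ha.qw, hb.qw, pl_comm Q a u, ha.p, pl_comm Q b u,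
    hb.p, hab, pl_comm Q b a, pl_zero_right, mul_zero, zero_add, add_zero, mul_one] at h1 h2
  subst h1 h2
  rw [zero_smul, zero_smul, add_zero, add_zero, smul_eq_zero] at e
  exact ⟨e.resolve_right ha.nu, rfl, rfl⟩

/-- An isometry between two configurations of meeting lines. -/
theorem exists_triple_isometry (H : Base Q) {u a b u' a' b' : ι → F} (ha : SPair Q u a)
    (hb : SPair Q u b) (hab : polar ⇑Q a b = 1) (ha' : SPair Q u' a') (hb' : SPair Q u' b')
    (hab' : polar ⇑Q a' b' = 1) :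
    ∃ g : IsoGrp Q, ap g u = u' ∧ ap g a = a' ∧ ap g b = b' := by
  have hinj : ∀ {u a b : ι → F}, SPair Q u a → SPair Q u b → polar ⇑Q a b = 1 →
      Function.Injective (Fintype.linearCombination F ![u, a, b]) := fun {u a b} ha hb hab => by
    rw [← LinearMap.ker_eq_bot, LinearMap.ker_eq_bot']
    intro c hc
    simp [Fintype.linearCombination_apply, Fin.sum_univ_three] at hc
    obtain ⟨h0, h1, h2⟩ := triple_coeff ha hb hab hc
    funext i; fin_cases i <;> assumption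
  have hval : ∀ {u a b : ι → F}, SPair Q u a → SPair Q u b → polar ⇑Q a b = 1 → ∀ c : Fin 3 → F,
      Q (c 0 • u + c 1 • a + c 2 • b) = c 1 * c 2 := fun {u a b} ha hb hab c => by
    simp only [Q_add, Q_smul, pl_add_left, pl_smul_left, pl_smul_right, ha.qu, ha.qw, hb.qw, ha.p,
      hb.p, hab]
    ring
  let e1 := LinearEquiv.ofInjective _ (hinj ha hb hab)
  let e2 := LinearEquiv.ofInjective _ (hinj ha' hb' hab')
  have val : ∀ {u a b : ι → F} (ha : SPair Q u a) (hb : SPair Q u b) (hab : polar ⇑Q a b = 1)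
      (c : Fin 3 → F), ((LinearEquiv.ofInjective _ (hinj ha hb hab) c : _) : ι → F)
        = c 0 • u + c 1 • a + c 2 • b := fun {u a b} ha hb hab c => by
    simp [LinearEquiv.ofInjective_apply, Fintype.linearCombination_apply, Fin.sum_univ_three]
  obtain ⟨g, hg, -⟩ := OrthAct.exists_iso_map H.nd (e1.symm.trans e2) (fun x => by
    obtain ⟨c, rfl⟩ := e1.surjective x
    rw [LinearEquiv.trans_apply, LinearEquiv.symm_apply_apply, val ha' hb' hab', val ha hb hab,
      hval ha hb hab, hval ha' hb' hab'])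
  have key : ∀ c, ap g ((e1 c : _) : ι → F) = ((e2 c : _) : ι → F) := fun c => by
    rw [hg, LinearEquiv.trans_apply, LinearEquiv.symm_apply_apply]
  refine ⟨g, ?_, ?_, ?_⟩
  · have := key ![1, 0, 0]; simpa [e1, e2, val ha hb hab, val ha' hb' hab'] using this
  · have := key ![0, 1, 0]; simpa [e1, e2, val ha hb hab, val ha' hb' hab'] using this
  · have := key ![0, 0, 1]; simpa [e1, e2, val ha hb hab, val ha' hb' hab'] using this

/-- Correcting an isometry into `Ω` by reflections fixing `u`, `a` and `b`. -/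
theorem exists_omega_triple (H : Base Q) {u a b u' a' b' : ι → F} (ha : SPair Q u a)
    (hb : SPair Q u b) (hab : polar ⇑Q a b = 1) (ha' : SPair Q u' a') (hb' : SPair Q u' b')
    (hab' : polar ⇑Q a' b' = 1) :
    ∃ g : IsoGrp Q, g ∈ Omega F ⇑Q ∧ ap g u = u' ∧ ap g a = a' ∧ ap g b = b' := by
  classical
  have hG : Good Q := Good.of_card H.nd (.inr (by have := H.seven; omega))
  obtain ⟨g, g1, g2, g3⟩ := exists_triple_isometry H ha hb hab ha' hb' hab'
  have hp : HPair Q a b := ⟨ha.qw, hb.qw, hab⟩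
  have hu : u ∈ perp Q a b :=
    mem_perp.2 ⟨by rw [pl_comm]; exact ha.p, by rw [pl_comm]; exact hb.p⟩
  obtain ⟨hnd1, hf1⟩ := finrank_perp_eq H.nd hp
  obtain ⟨f0, hf0, hpu⟩ := exists_hpair_in hnd1 hu ha.qu ha.nu
  obtain ⟨hnd2, hf2⟩ := ndOn_cut hnd1 hpu hu hf0
  obtain ⟨e', he', f', hf', hef⟩ := exists_hpair_of_three hnd2 (by have := H.seven; omega)
  have horth : ∀ c : F, ∀ x ∈ ({u, a, b} : Set (ι → F)), polar ⇑Q (e' + c • f') x = 0 := by
    intro c x hx
    obtain ⟨ea, eb⟩ := mem_perp.1 he'.1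
    obtain ⟨fa, fb⟩ := mem_perp.1 hf'.1
    have eu := (mem_perp.1 he'.2).1
    have fu := (mem_perp.1 hf'.2).1
    rw [pl_comm, pl_add_right, pl_smul_right]
    rcases hx with rfl | rfl | rfl
    · rw [eu, fu]; ring
    · rw [ea, fa]; ring
    · rw [eb, fb]; ring
  have hQ : ∀ c : F, Q (e' + c • f') = c := fun c => OrthAct.Q_plane hef c
  obtain ⟨c, hc, hcs⟩ := OrthAct.exists_char_eq hG g
  -- a corrector fixing the three vectors, with the signs of `g`
  obtain ⟨h, hfix, hd, hs⟩ : ∃ h : IsoGrp Q, (∀ x ∈ ({u, a, b} : Set (ι → F)), ap h x = x) ∧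
      dick h = dick g ∧ spin h = spin g := by
    have hv : Q (e' + c • f') ≠ 0 := by rw [hQ]; exact hc
    have hsv : spin (refl Q (e' + c • f')) = spin g := by rw [spin_refl hG.nd hv, hQ, hcs]
    rcases dick_eq_or g with hd | hd
    · have hv1 : Q (e' + (1 : F) • f') ≠ 0 := by rw [hQ]; exact one_ne_zero
      refine ⟨refl Q (e' + (1 : F) • f') * refl Q (e' + c • f'), fun x hx => ?_, ?_, ?_⟩
      · rw [ap_mul, refl_ap_of_orth Q (horth _ x hx), refl_ap_of_orth Q (horth _ x hx)]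
      · rw [dick_mul hG, dick_refl hG.nd hv1, dick_refl hG.nd hv, hd]; norm_num
      · rw [spin_mul hG, spin_refl hG.nd hv1, hsv, hQ, map_one, one_mul]
    · exact ⟨refl Q (e' + c • f'), fun x hx => refl_ap_of_orth Q (horth _ x hx),
        by rw [dick_refl hG.nd hv, hd], hsv⟩
  refine ⟨g * h, (mem_omega_iff hG _).2 ⟨?_, ?_⟩, ?_, ?_, ?_⟩
  · rw [dick_mul hG, hd]; rcases dick_eq_or g with h' | h' <;> rw [h'] <;> norm_num
  · rw [spin_mul hG, hs]; rcases spin_eq_or hG g with h' | h' <;> rw [h'] <;> norm_num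
  · rw [ap_mul, hfix u (by simp), g1]
  · rw [ap_mul, hfix a (by simp), g2]
  · rw [ap_mul, hfix b (by simp), g3]

/-- `PΩ(Q)` is transitive on meeting non-orthogonal pairs of lines. -/
theorem meet_orbit (H : Base Q) {u a b u' a' b' : ι → F} (ha : SPair Q u a) (hb : SPair Q u b)
    (hab : polar ⇑Q a b ≠ 0) (ha' : SPair Q u' a') (hb' : SPair Q u' b')
    (hab' : polar ⇑Q a' b' ≠ 0) :
    ∃ z, SameL (MulAut.conj z (E Q u a)) (E Q u' a') ∧
      SameL (MulAut.conj z (E Q u b)) (E Q u' b') := by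
  have hk : ∀ {u a b : ι → F}, SPair Q u b → polar ⇑Q a b ≠ 0 →
      SPair Q u ((polar ⇑Q a b)⁻¹ • b) ∧ polar ⇑Q a ((polar ⇑Q a b)⁻¹ • b) = 1 ∧
      ln u ((polar ⇑Q a b)⁻¹ • b) = ln u b := fun {u a b} hb hab => by
    have hs := hb.smul_right (inv_ne_zero hab)
    exact ⟨hs, by rw [pl_smul_right, inv_mul_cancel₀ hab],
      hb.line_of_two (left_mem_ln _ _) (Submodule.smul_mem _ _ (right_mem_ln _ _)) hb.nu hs.ind⟩
  obtain ⟨hb1, hab1, hl⟩ := hk hb hab
  obtain ⟨hb1', hab1', hl'⟩ := hk hb' hab'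
  obtain ⟨g, hg, g1, g2, g3⟩ := exists_omega_triple H ha hb1 hab1 ha' hb1' hab1'
  refine ⟨om g, ?_, ?_⟩
  · rw [conj_E H hg, g1, g2]
    exact (same_iff H ha' ha').2 rfl
  · rw [conj_E H hg]
    refine (same_iff H (hb.map g) hb').2 ?_
    rw [← map_ln, ← hl, map_ln, g1, g3, hl']

variable (Q) in
/-- `γ` preserves meeting of lines. -/
def Pres (γ : MulAut (POmega F ⇑Q)) : Prop := ∀ x y, MB Q x y → MB Q (γ x) (γ y)

theorem Pres.iff {γ : MulAut (POmega F ⇑Q)} (h : Pres Q γ) {x y : POmega F ⇑Q} :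
    MB Q (γ x) (γ y) ↔ MB Q x y := by
  refine ⟨fun hm => ?_, h x y⟩
  let f : {p : POmega F ⇑Q × POmega F ⇑Q // MB Q p.1 p.2} →
      {p : POmega F ⇑Q × POmega F ⇑Q // MB Q p.1 p.2} :=
    fun p => ⟨(γ p.1.1, γ p.1.2), h _ _ p.2⟩
  have hf : Function.Injective f := fun p p' e => by
    have e' := congrArg Subtype.val e
    exact Subtype.ext (Prod.ext (γ.injective (congrArg Prod.fst e'))
      (γ.injective (congrArg Prod.snd e')))
  obtain ⟨⟨⟨a, b⟩, hab⟩, e⟩ := (Finite.injective_iff_surjective.1 hf) ⟨(γ x, γ y), hm⟩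
  have e' := congrArg Subtype.val e
  rw [← γ.injective (congrArg Prod.fst e'), ← γ.injective (congrArg Prod.snd e')]
  exact hab

theorem pres_of_nc (H : Base Q) (γ : MulAut (POmega F ⇑Q))
    (h : ∀ x y, MB Q x y → ¬ SameL x y → ¬ Coplanar x y → MB Q (γ x) (γ y)) : Pres Q γ := by
  intro x y hm
  obtain ⟨u1, w1, h1, e1⟩ := IsRoot.map H γ hm.root.1
  obtain ⟨u2, w2, h2, e2⟩ := IsRoot.map H γ hm.root.2
  by_cases hs : SameL x y
  · rw [← sameL_map_iff H γ, e1, e2, same_iff H h1 h2] at hs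
    rw [e1, e2, mb_iff H h1 h2, ← hs]
    exact ⟨u1, h1.nu, left_mem_ln _ _, left_mem_ln _ _⟩
  by_cases hc : Coplanar x y
  · rw [← coplanar_map_iff H γ, e1, e2, coplanar_iff H h1 h2] at hc
    rw [e1, e2, mb_iff H h1 h2]
    exact hc.2.1
  exact h x y hm hs hc

theorem star_iff_mb (H : Base Q) {u a b : ι → F} (ha : SPair Q u a) (hb : SPair Q u b)
    (hab : polar ⇑Q a b ≠ 0) (z : POmega F ⇑Q) :
    z ∈ Star Q u ↔ IsRoot z ∧ MB Q z (E Q u a) ∧ MB Q z (E Q u b) := by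
  constructor
  · intro hz
    obtain ⟨u'', w'', hs, rfl⟩ := hz.1
    have hu : u ∈ ln u'' w'' := (star_iff H ha.qu ha.nu hs).1 hz
    exact ⟨hz.1, (mb_iff H hs ha).2 ⟨u, ha.nu, hu, left_mem_ln _ _⟩,
      (mb_iff H hs hb).2 ⟨u, ha.nu, hu, left_mem_ln _ _⟩⟩
  · rintro ⟨⟨u'', w'', hs, rfl⟩, h1, h2⟩
    exact (star_iff H ha.qu ha.nu hs).2
      (mem_of_meet_both ha hb hab hs ((mb_iff H hs ha).1 h1) ((mb_iff H hs hb).1 h2))

/-- A standard meeting pair at a singular point. -/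
theorem exists_meet_pair (H : Base Q) {u : ι → F} (hu : Q u = 0) (hu0 : u ≠ 0) :
    ∃ a b, SPair Q u a ∧ SPair Q u b ∧ polar ⇑Q a b ≠ 0 := by
  obtain ⟨f, h⟩ := exists_hpair_left H.nd hu hu0
  obtain ⟨e2, f2, h2, he2, hf2, -, -⟩ := exists_two_hpairs H h
  exact ⟨e2, f2, spair_perp h he2 h2.ne_zero h2.qe, spair_perp h hf2 h2.swap.ne_zero h2.qf,
    by rw [h2.pf]; exact one_ne_zero⟩

theorem pt_of_pres (H : Base Q) {α : MulAut (POmega F ⇑Q)} (hα : Pres Q α) {u : ι → F}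
    (hu : Q u = 0) (hu0 : u ≠ 0) : Pt Q α u := by
  obtain ⟨a, b, ha, hb, hab⟩ := exists_meet_pair H hu hu0
  obtain ⟨u', a', b', ha', hb', hab', ea, eb⟩ := MB.exists_polar H
    (hα _ _ ⟨u, a, b, ha, hb, rfl, rfl⟩)
    (fun hs => hab (by
      have hl := (same_iff H ha hb).1 ((sameL_map_iff H α).1 hs)
      exact (ha.ts (right_mem_ln _ _) (show b ∈ ln u a from hl ▸ right_mem_ln _ _)).2))
    (fun hc => hab (((coplanar_iff H ha hb).1 ((coplanar_map_iff H α).1 hc)).2.2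
      _ (right_mem_ln _ _) _ (right_mem_ln _ _)))
  refine ⟨u', ha'.qu, ha'.nu, fun z => ?_⟩
  rw [star_iff_mb H ha' hb' hab', star_iff_mb H ha hb hab, ← ea, ← eb, isRoot_map_iff H α,
    hα.iff, hα.iff]

theorem pres_of_pt (H : Base Q) {γ : MulAut (POmega F ⇑Q)} {e : ι → F} (he : Q e = 0) (he0 : e ≠ 0)
    (h : Pt Q γ e) : Pres Q γ := by
  obtain ⟨a, b, ha, hb, hab⟩ := exists_meet_pair H he he0
  obtain ⟨e', he', he'0, hst⟩ := h
  have h0 : MB Q (γ (E Q e a)) (γ (E Q e b)) := by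
    obtain ⟨u1, w1, h1, e1⟩ := IsRoot.map H γ (x := E Q e a) ⟨e, a, ha, rfl⟩
    obtain ⟨u2, w2, h2, e2⟩ := IsRoot.map H γ (x := E Q e b) ⟨e, b, hb, rfl⟩
    have k1 := (hst _).2 ((star_iff H he he0 ha).2 (left_mem_ln _ _))
    have k2 := (hst _).2 ((star_iff H he he0 hb).2 (left_mem_ln _ _))
    rw [e1, star_iff H he' he'0 h1] at k1
    rw [e2, star_iff H he' he'0 h2] at k2
    rw [e1, e2, mb_iff H h1 h2]
    exact ⟨e', he'0, k1, k2⟩
  refine pres_of_nc H γ fun x y hm hs hc => ?_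
  obtain ⟨u, c, d, hc', hd', hcd, rfl, rfl⟩ := hm.exists_polar H hs hc
  obtain ⟨z, z1, z2⟩ := meet_orbit H ha hb hab hc' hd' hcd
  have e : ∀ x, γ (MulAut.conj z x) = MulAut.conj (γ z) (γ x) := fun x => by
    simp [MulAut.conj_apply]
  refine MB.sameL H (h0.conj H (γ z)) ?_ ?_ <;> rw [← e]
  · exact (sameL_map_iff H γ).2 z1
  · exact (sameL_map_iff H γ).2 z2

/-- An automorphism respecting meeting of lines is induced by a semisimilarity. -/
theorem exists_semi_eq_of_pres (H : Base Q) {α : MulAut (POmega F ⇑Q)} (hα : Pres Q α) :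
    ∃ (g : GL ι F) (σ : F ≃+* F) (hs : IsSemisimilarityPair ⇑Q g σ), α = semiAut Q hs :=
  exists_semi_eq_of H
    (fun _ _ he he0 hpt _ hu hu0 => pt_of_pres H (pres_of_pt H he he0 hpt) hu hu0)
    α fun _ hu hu0 => pt_of_pres H hα hu hu0

/-! ### linearity on root groups -/

variable (Q) in
/-- `β` is linear on every root group. -/
def Lin (β : MulAut (POmega F ⇑Q)) : Prop :=
  ∀ u w u' w', SPair Q u w → SPair Q u' w' → β (E Q u w) = E Q u' w' →
    ∀ t : F, β (E Q u (t • w)) = E Q u' (t • w')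

theorem eich_smul_congr {u w u' w' : ι → F} (h : SPair Q u w) (h' : SPair Q u' w')
    (e : eich Q u w = eich Q u' w') (t : F) : eich Q u (t • w) = eich Q u' (t • w') := by
  rcases eq_or_ne t 0 with rfl | ht
  · rw [zero_smul, zero_smul, eich_zero, eich_zero]
  refine ext_ap fun x => ?_
  have e1 := eich_line_ap (h.smul_right ht) x
  have e2 := eich_line_ap (h'.smul_right ht) x
  have f1 := eich_line_ap h x
  have f2 := eich_line_ap h' x
  rw [e] at f1
  have key : polar ⇑Q u x • w - polar ⇑Q w x • u = polar ⇑Q u' x • w' - polar ⇑Q w' x • u' :=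
    f1.symm.trans f2
  rw [pl_smul_left] at e1 e2
  rw [sub_eq_iff_eq_add] at e1 e2
  rw [e1, e2]
  linear_combination (norm := module) t • key

theorem lin_of_formula (H : Base Q) {β : MulAut (POmega F ⇑Q)} {L : (ι → F) →ₗ[F] (ι → F)} {d : F}
    (hS : ∀ u w, SPair Q u w → SPair Q (L u) (d • L w))
    (hE : ∀ u w, Q u = 0 → polar ⇑Q u w = 0 → β (E Q u w) = E Q (L u) (d • L w)) : Lin Q β := by
  intro u w u' w' h h' e t
  rw [hE u w h.qu h.p, E_eq_iff H] at e
  rw [hE u _ h.qu (by rw [pl_smul_right, h.p, mul_zero]), E_eq_iff H, map_smul, smul_comm d t]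
  exact eich_smul_congr (hS u w h) h' e t

theorem lin_inner (H : Base Q) (z : POmega F ⇑Q) : Lin Q (MulAut.conj z) := by
  obtain ⟨g, hg, rfl⟩ := exists_om z
  refine lin_of_formula H (L := ap g) (d := 1) (fun u w h => by rw [one_smul]; exact h.map g)
    fun u w _ _ => by rw [one_smul]; exact conj_E H hg u w

theorem exists_smul_of_sameL (H : Base Q) {u w : ι → F} (h : SPair Q u w) {x : POmega F ⇑Q}
    (hx : SameL x (E Q u w)) : ∃ t : F, t ≠ 0 ∧ x = E Q u (t • w) := by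
  obtain ⟨a, b, hab, rfl⟩ := hx.1
  have hl := (same_iff H hab h).1 hx
  obtain ⟨t, ht, e⟩ := hab.eich_of_line (hl ▸ left_mem_ln u w) (hl ▸ right_mem_ln u w) h.nu h.ind
  exact ⟨t, ht, congrArg om e⟩

theorem sameL_smul (H : Base Q) {u w : ι → F} (h : SPair Q u w) {t : F} (ht : t ≠ 0) :
    SameL (E Q u (t • w)) (E Q u w) :=
  (same_iff H (h.smul_right ht) h).2 (h.line_of_two (left_mem_ln _ _)
    (Submodule.smul_mem _ _ (right_mem_ln _ _)) h.nu (h.smul_right ht).ind)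

/-- Commutation of a linear `β` with a linear `β'` on a root group fixed by both. -/
theorem Lin.comm_on (H : Base Q) {β β' : MulAut (POmega F ⇑Q)} (hβ : Lin Q β) (hβ' : Lin Q β')
    {x : POmega F ⇑Q} (h1 : SameL (β x) x) (h2 : SameL (β' x) x) : β (β' x) = β' (β x) := by
  obtain ⟨u, w, h, rfl⟩ := h1.2.1
  obtain ⟨s, hs, es⟩ := exists_smul_of_sameL H h h1
  obtain ⟨t, ht, et⟩ := exists_smul_of_sameL H h h2
  rw [et, es, hβ u w u _ h (h.smul_right hs) es t, hβ' u w u _ h (h.smul_right ht) et s, smul_comm]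

/-- Inner automorphisms realise every non-zero scalar on a root group. -/
theorem exists_scaling (H : Base Q) {e f w : ι → F} (h : HPair Q e f) (hw : w ∈ perp Q e f)
    (hw0 : w ≠ 0) (hQw : Q w = 0) {t : F} (ht : t ≠ 0) :
    ∃ z, MulAut.conj z (E Q e w) = E Q e (t • w) := by
  classical
  have hG : Good Q := Good.of_card H.nd (.inr (by have := H.seven; omega))
  obtain ⟨hnd, hd⟩ := finrank_perp_eq H.nd h
  obtain ⟨f2, hf2, h2⟩ := exists_hpair_in hnd hw hQw hw0
  obtain ⟨hnd2, hd2⟩ := ndOn_cut hnd h2 hw hf2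
  obtain ⟨e3, he3, f3, hf3, h3⟩ := exists_hpair_of_three hnd2 (by have := H.seven; omega)
  have hplane : ∀ {p q x : ι → F}, polar ⇑Q p x = 0 → polar ⇑Q q x = 0 → ∀ c : F,
      polar ⇑Q (p + c • q) x = 0 := fun {p q x} h1 h2 c => by
    rw [pl_add_left, pl_smul_left, h1, h2]; ring
  have hfix : ∀ {p q : ι → F} (c : F) (x : ι → F), polar ⇑Q p x = 0 → polar ⇑Q q x = 0 →
      ap (OrthAct.torusStab Q p q c) x = x := fun {p q} c x h1 h2 => by
    rw [OrthAct.torusStab, ap_mul, refl_ap_of_orth Q (hplane h1 h2 c),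
      refl_ap_of_orth Q (by simpa using hplane h1 h2 1)]
  have hscale : ap (OrthAct.torusStab Q e f t) e = t • e := by
    have h1 : Q (e + f) = 1 := by simpa using OrthAct.Q_plane h 1
    rw [OrthAct.torusStab, ap_mul, refl_ap, refl_ap, OrthAct.Q_plane h, h1, inv_one, one_mul]
    simp only [pl_add_left, pl_smul_left, pl_sub_right, pl_smul_right, pl_add_right, pl_self, h.qe,
      h.qf, pl_comm Q f e, h.pf, mul_zero, mul_one, zero_add, add_zero]
    rw [inv_mul_cancel₀ ht]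
    module
  set g := OrthAct.torusStab Q e3 f3 t * OrthAct.torusStab Q e f t
  have hg : g ∈ Omega F ⇑Q := (mem_omega_iff hG _).2 ⟨by
      rw [dick_mul hG, OrthAct.dick_torusStab hG h3 ht, OrthAct.dick_torusStab hG h ht, one_mul], by
      rw [spin_mul hG, OrthAct.spin_torusStab hG h3 ht, OrthAct.spin_torusStab hG h ht, ← sq,
        quadraticChar_sq_one ht]⟩
  refine ⟨om g, ?_⟩
  have k1 : ap g e = t • e := by
    rw [ap_mul, hscale, map_smul, hfix t e
      (by rw [pl_comm]; exact (mem_perp.1 he3.1).1) (by rw [pl_comm]; exact (mem_perp.1 hf3.1).1)]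
  have k2 : ap g w = w := by
    rw [ap_mul, hfix t w (mem_perp.1 hw).1 (mem_perp.1 hw).2,
      hfix t w (by rw [pl_comm]; exact (mem_perp.1 he3.2).1)
        (by rw [pl_comm]; exact (mem_perp.1 hf3.2).1)]
  rw [conj_E H hg, k1, k2, E_smul_left]

end Cfsg.Agent.AutPOmega
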