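import Cfsg.Agent.Lib.AutPOmega.Field
import Cfsg.Agent.Lib.Orth.Models

/-!
# Similarities of the plus form modulo inner automorphisms

* `oc` : `Sim → Out`
* `pd (μ, a)` : the diagonal similarity `x_i ↦ a_i`, `y_i ↦ μ/a_i`; `oc_pd_eq_one`
* `swapAt i` : exchange of `x_i` and `y_i`; `swap_pd`
* `exists_oc_eq` : every class is `oc (pd (ν^j, ν^k at i₀)) · (oc swap)^l`
* `gal_pd`, `gal_swap` : field automorphisms
-/

set_option autoImplicit false
set_option linter.unusedSectionVars false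

namespace Cfsg.Agent.AutPOmega

open Cfsg Matrix Module Cfsg.Agent.Orth
open QuadraticMap (polar)

section General

variable {ι : Type} [Fintype ι] [DecidableEq ι] {F : Type*} [Field F] [Fintype F]
variable {Q : QuadraticForm F (ι → F)}

variable (Q) in
/-- The outer class of a similarity. -/
noncomputable def oc : OrthOuter.Sim Q →* Out (POmega F ⇑Q) :=
  (QuotientGroup.mk' (Inn (POmega F ⇑Q))).comp (OrthOuter.conjAut Q)

theorem oc_apply (x : OrthOuter.Sim Q) : oc Q x = QuotientGroup.mk (OrthOuter.conjAut Q x) := rfl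

theorem conjAut_scal (t : Fˣ) : OrthOuter.conjAut Q (OrthOuter.scal Q t) = 1 := by
  refine MulEquiv.ext fun x => ?_
  obtain ⟨s, rfl⟩ := QuotientGroup.mk_surjective x
  rw [OrthOuter.conjAut_mk, MulAut.one_apply]
  refine congrArg _ (Subtype.ext (OrthOuter.toSim_injective ?_))
  rw [OrthOuter.charRestrict_coe, OrthOuter.toSim_isoConj, ← OrthOuter.scal_comm, mul_inv_cancel_right]

theorem oc_scal (t : Fˣ) : oc Q (OrthOuter.scal Q t) = 1 := by
  rw [oc_apply, conjAut_scal]; rfl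

theorem oc_omega {o : IsoGrp Q} (ho : o ∈ Omega F ⇑Q) : oc Q (OrthOuter.toSim Q o) = 1 := by
  rw [oc_apply, QuotientGroup.eq_one_iff, OrthOuter.inn_eq]
  exact ⟨_, ⟨o, ho, rfl⟩, rfl⟩

theorem exists_of_oc_eq_one (H : Base Q) {x : OrthOuter.Sim Q} (h : oc Q x = 1) :
    ∃ (t : Fˣ) (o : IsoGrp Q), o ∈ Omega F ⇑Q ∧ x = OrthOuter.toSim Q o * OrthOuter.scal Q t := by
  rw [oc_apply, QuotientGroup.eq_one_iff, OrthOuter.inn_eq] at h
  obtain ⟨_, ⟨o, ho, rfl⟩, he⟩ := h
  obtain ⟨hs, e⟩ := conjAut_eq_semiAut ((OrthOuter.toSim Q o)⁻¹ * x)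
  rw [map_mul, map_inv, he, inv_mul_cancel] at e
  obtain ⟨-, t, ht⟩ := semi_eq_one H hs e.symm
  refine ⟨t, o, ho, ?_⟩
  rw [← mul_inv_cancel_left (OrthOuter.toSim Q o) x]
  exact congrArg _ (Subtype.ext ht.symm)

end General

variable {F : Type*} [Field F] [Fintype F] {m : ℕ}

theorem basePlus (hm : 4 ≤ m) : Base (quadPlus m F) := ⟨quadPlus_nondeg m, by simp; omega⟩

theorem goodPlus (hm : 4 ≤ m) : Good (quadPlus m F) :=
  Good.of_card (quadPlus_nondeg m) (.inr (by simp; omega))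

/-- The entries of a diagonal similarity. -/
def pdVal (p : Fˣ × (Fin m → Fˣ)) : Fin m ⊕ Fin m → Fˣ := Sum.elim p.2 fun i => p.1 * (p.2 i)⁻¹

theorem pdVal_mul (p q : Fˣ × (Fin m → Fˣ)) (j : Fin m ⊕ Fin m) :
    pdVal (p * q) j = pdVal p j * pdVal q j := by
  rcases j with j | j
  · rfl
  · simp only [pdVal, Sum.elim_inr, Prod.fst_mul, Prod.snd_mul, Pi.mul_apply, _root_.mul_inv_rev]
    rw [mul_comm (q.2 j)⁻¹, mul_mul_mul_comm]

/-- The diagonal similarity `x_i ↦ a_i`, `y_i ↦ μ / a_i`. -/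
noncomputable def pd (m : ℕ) (F : Type*) [Field F] [Fintype F] :
    Fˣ × (Fin m → Fˣ) →* OrthOuter.Sim (quadPlus m F) where
  toFun p :=
    ⟨⟨Matrix.diagonal fun j => (pdVal p j : F), Matrix.diagonal fun j => ((pdVal p j)⁻¹ : Fˣ),
      by rw [Matrix.diagonal_mul_diagonal]; simp,
      by rw [Matrix.diagonal_mul_diagonal]; simp⟩, p.1, fun v => by
      show quadFormPlus m F _ = (p.1 : F) * quadFormPlus m F v
      simp only [quadFormPlus, Matrix.mulVec_diagonal, Finset.mul_sum]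
      refine Finset.sum_congr rfl fun i _ => ?_
      have h : (pdVal p (.inl i) : F) * (pdVal p (.inr i) : F) = (p.1 : F) := by
        rw [← Units.val_mul]; congr 1; simp [pdVal, mul_left_comm]
      linear_combination v (.inl i) * v (.inr i) * h⟩
  map_one' := by
    refine Subtype.ext (Units.ext ?_)
    show Matrix.diagonal _ = (1 : Matrix _ _ F)
    rw [← Matrix.diagonal_one]
    congr 1
    funext j
    rcases j with j | j <;> simp [pdVal]
  map_mul' p q := by
    refine Subtype.ext (Units.ext ?_)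
    show Matrix.diagonal _ = Matrix.diagonal _ * Matrix.diagonal _
    rw [Matrix.diagonal_mul_diagonal]
    congr 1
    funext j
    rw [pdVal_mul, Units.val_mul]

theorem sap_pd (p : Fˣ × (Fin m → Fˣ)) (x : Fin m ⊕ Fin m → F) :
    OrthOuter.sap (pd m F p) x = fun j => (pdVal p j : F) * x j :=
  funext fun j => Matrix.mulVec_diagonal _ _ j

theorem mult_pd (hne : ∃ v, quadPlus m F v ≠ 0) (p : Fˣ × (Fin m → Fˣ)) :
    OrthOuter.mult hne (pd m F p) = p.1 :=
  OrthOuter.mult_eq hne fun v => by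
    rw [sap_pd, coe_quadPlus]
    simp only [quadFormPlus, Finset.mul_sum]
    refine Finset.sum_congr rfl fun i _ => ?_
    have h : (pdVal p (.inl i) : F) * (pdVal p (.inr i) : F) = (p.1 : F) := by
      rw [← Units.val_mul]; congr 1; simp [pdVal, mul_left_comm]
    linear_combination v (.inl i) * v (.inr i) * h

/-- The vector `x_i - u y_i`. -/
def tv (i : Fin m) (u : F) : Fin m ⊕ Fin m → F := Pi.single (.inl i) 1 - Pi.single (.inr i) u

theorem Q_tv (i : Fin m) (u : F) : quadPlus m F (tv i u) = -u := by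
  show quadFormPlus m F _ = _
  simp [quadFormPlus, tv, Pi.single_apply]

theorem polar_tv (i : Fin m) (u : F) (x : Fin m ⊕ Fin m → F) :
    polar ⇑(quadPlus m F) (tv i u) x = x (.inr i) - u * x (.inl i) := by
  rw [coe_quadPlus, polar_quadPlus]
  simp [tv, Pi.single_apply, Finset.sum_add_distrib, mul_comm u, sub_eq_add_neg]

/-- The exchange of `x_i` and `y_i`. -/
noncomputable def swapAt (i : Fin m) : IsoGrp (quadPlus m F) := refl (quadPlus m F) (tv i 1)

theorem swapAt_ap (i : Fin m) (x : Fin m ⊕ Fin m → F) :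
    ap (swapAt i) x = x ∘ Equiv.swap (Sum.inl i) (Sum.inr i) := by
  rw [swapAt, refl_ap, Q_tv, polar_tv]
  funext j
  simp only [Function.comp_apply, Pi.sub_apply, Pi.smul_apply, smul_eq_mul, one_mul, inv_neg, inv_one]
  rcases j with j | j <;> by_cases h : j = i
  · subst h; simp [tv]
  · rw [Equiv.swap_apply_of_ne_of_ne (by simpa using h) (by simp)]; simp [tv, h]
  · subst h; simp [tv]
  · rw [Equiv.swap_apply_of_ne_of_ne (by simp) (by simpa using h)]; simp [tv, h]

theorem swapAt_mul_self (i : Fin m) : swapAt (F := F) i * swapAt i = 1 := refl_mul_self _ _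

theorem swap_pd (i : Fin m) (p : Fˣ × (Fin m → Fˣ)) :
    OrthOuter.toSim _ (swapAt i) * pd m F p =
      pd m F (p.1, Function.update p.2 i (p.1 * (p.2 i)⁻¹)) * OrthOuter.toSim _ (swapAt i) := by
  refine OrthOuter.ext_sap fun x => ?_
  rw [OrthOuter.sap_mul, OrthOuter.sap_mul, OrthOuter.sap_toSim, OrthOuter.sap_toSim, sap_pd, sap_pd,
    swapAt_ap, swapAt_ap]
  funext j
  simp only [Function.comp_apply]
  rcases j with j | j <;> by_cases h : j = i
  · subst h; simp [pdVal]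
  · rw [Equiv.swap_apply_of_ne_of_ne (by simpa using h) (by simp)]; simp [pdVal, h]
  · subst h; simp [pdVal]
  · rw [Equiv.swap_apply_of_ne_of_ne (by simp) (by simpa using h)]; simp [pdVal, h]

/-- A diagonal isometry. -/
noncomputable def pdIso (m : ℕ) (F : Type*) [Field F] [Fintype F] :
    (Fin m → Fˣ) →* IsoGrp (quadPlus m F) where
  toFun a := ⟨(pd m F (1, a) : GL (Fin m ⊕ Fin m) F), fun v _ => by
    show quadFormPlus m F (OrthOuter.sap (pd m F (1, a)) v) = quadFormPlus m F v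
    rw [sap_pd]
    simp only [quadFormPlus]
    refine Finset.sum_congr rfl fun i _ => ?_
    simp only [pdVal, Sum.elim_inl, Sum.elim_inr, one_mul, Units.val_inv_eq_inv_val]
    field_simp⟩
  map_one' := Subtype.ext (by
    show (pd m F 1 : GL (Fin m ⊕ Fin m) F) = _
    rw [map_one]; rfl)
  map_mul' a b := Subtype.ext (by
    show (pd m F (1, a * b) : GL (Fin m ⊕ Fin m) F) = _
    rw [show ((1 : Fˣ), a * b) = (1, a) * (1, b) by simp, map_mul]
    rfl)

theorem toSim_pdIso (a : Fin m → Fˣ) : OrthOuter.toSim _ (pdIso m F a) = pd m F (1, a) := rfl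

theorem pdIso_single (i : Fin m) (u : Fˣ) :
    pdIso m F (Pi.mulSingle i u) = swapAt i * refl (quadPlus m F) (tv i (u : F)) := by
  refine ext_ap fun x => ?_
  rw [ap_mul, swapAt_ap, refl_ap, Q_tv, polar_tv]
  show OrthOuter.sap (pd m F (1, Pi.mulSingle i u)) x = _
  rw [sap_pd]
  have hu := u.ne_zero
  funext j
  simp only [Function.comp_apply, Pi.sub_apply, Pi.smul_apply, smul_eq_mul]
  rcases j with j | j <;> by_cases h : j = i
  · subst h; simp [pdVal, tv]; field_simp; ring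
  · rw [Equiv.swap_apply_of_ne_of_ne (by simpa using h) (by simp)]; simp [pdVal, tv, h]
  · subst h; simp [pdVal, tv]; field_simp; ring
  · rw [Equiv.swap_apply_of_ne_of_ne (by simp) (by simpa using h)]; simp [pdVal, tv, h]

open Classical in
theorem sign_pdIso (hm : 4 ≤ m) (a : Fin m → Fˣ) :
    dick (pdIso m F a) = 1 ∧ spin (pdIso m F a) = quadraticChar F ((∏ i, a i : Fˣ) : F) := by
  have hG : Good (quadPlus m F) := goodPlus hm
  have key : ∀ b : Fin m → Fˣ, b ∈ ({b | dick (pdIso m F b) = 1 ∧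
      spin (pdIso m F b) = quadraticChar F ((∏ i, b i : Fˣ) : F)} : Set (Fin m → Fˣ)) := by
    intro b
    rw [← Finset.univ_prod_mulSingle b]
    refine Finset.prod_induction _ (fun c => c ∈ _) (fun c d hc hd => ?_) ?_ fun i _ => ?_
    · refine ⟨by rw [map_mul, dick_mul hG, hc.1, hd.1, one_mul], ?_⟩
      rw [map_mul, spin_mul hG, hc.2, hd.2, ← map_mul, ← Units.val_mul, ← Finset.prod_mul_distrib]
      rfl
    · refine ⟨by rw [map_one, dick_one], ?_⟩
      simp [spin_one]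
    · have h1 : quadPlus m F (tv i 1) ≠ 0 := by simp [Q_tv]
      have h2 : quadPlus m F (tv i (b i : F)) ≠ 0 := by simp [Q_tv]
      rw [Set.mem_setOf_eq, pdIso_single, swapAt]
      refine ⟨by rw [dick_refl_mul hG.nd _ h1, dick_refl hG.nd h2]; norm_num, ?_⟩
      rw [spin_refl_mul hG.nd _ h1, spin_refl hG.nd h2, ← map_mul, Q_tv, Q_tv, Fintype.prod_pi_mulSingle']
      congr 1
      ring
  exact key a

theorem pdIso_mem_omega (hm : 4 ≤ m) {a : Fin m → Fˣ} (h : IsSquare (∏ i, a i)) :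
    pdIso m F a ∈ Omega F ⇑(quadPlus m F) := by
  classical
  rw [mem_omega_iff (goodPlus hm), (sign_pdIso hm a).1, (sign_pdIso hm a).2]
  refine ⟨rfl, (quadraticChar_one_iff_isSquare (Units.ne_zero _)).2 ?_⟩
  obtain ⟨c, hc⟩ := h
  exact ⟨c, by rw [hc, Units.val_mul]⟩

theorem pd_scal (t : Fˣ) : OrthOuter.scal (quadPlus m F) t = pd m F (t * t, fun _ => t) := by
  refine OrthOuter.ext_sap fun x => ?_
  rw [OrthOuter.sap_scal, sap_pd]
  funext j
  rcases j with j | j <;> simp [pdVal]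

theorem oc_pd_eq_one (hm : 4 ≤ m) {p : Fˣ × (Fin m → Fˣ)} (t : Fˣ) (h1 : p.1 = t * t)
    (h2 : IsSquare (∏ i, t⁻¹ * p.2 i)) : oc (quadPlus m F) (pd m F p) = 1 := by
  have e : p = (t * t, fun _ => t) * (1, fun i => t⁻¹ * p.2 i) :=
    Prod.ext (by simp [h1]) (funext fun i => by simp)
  rw [e, map_mul, ← pd_scal, ← toSim_pdIso, map_mul, oc_scal, one_mul]
  exact oc_omega (pdIso_mem_omega hm h2)

theorem isSquare_of_oc_pd (hm : 4 ≤ m) {p : Fˣ × (Fin m → Fˣ)}
    (h : oc (quadPlus m F) (pd m F p) = 1) : IsSquare p.1 := by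
  have H : Base (quadPlus m F) := basePlus hm
  obtain ⟨t, o, -, e⟩ := exists_of_oc_eq_one H h
  have hne := OrthOuter.exists_Q_ne H.nd (by have := H.seven; omega)
  have h2 := congrArg (OrthOuter.mult hne) e
  rw [mult_pd, map_mul, OrthOuter.mult_scal, OrthOuter.mult_eq hne (g := OrthOuter.toSim _ o) (c := 1)
    (fun v => by simp [Q_ap]), one_mul] at h2
  exact ⟨t, h2⟩

theorem dick_swapAt (hm : 4 ≤ m) (i : Fin m) : dick (swapAt (F := F) i) = -1 :=
  dick_refl (quadPlus_nondeg m) (by simp [Q_tv])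

set_option maxHeartbeats 1000000 in
/-- The generation of the classes of similarities. -/
theorem exists_oc_eq (hm : 4 ≤ m) (i₀ : Fin m) {ν : Fˣ} (hν : (2 : F) = 0 ∨ ¬ IsSquare ν)
    (x : OrthOuter.Sim (quadPlus m F)) :
    ∃ j k l : ℕ, oc (quadPlus m F) x =
      oc _ (pd m F (ν ^ j, Pi.mulSingle i₀ (ν ^ k))) * oc _ (OrthOuter.toSim _ (swapAt i₀)) ^ l := by
  classical
  have H : Base (quadPlus m F) := basePlus hm
  have hG : Good (quadPlus m F) := goodPlus hm
  have hne := OrthOuter.exists_Q_ne H.nd (by have := H.seven; omega)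
  have sq_or : ∀ μ : Fˣ, ∃ (j : ℕ) (t : Fˣ), μ = ν ^ j * (t * t) := by
    intro μ
    by_cases hμ : IsSquare μ
    · obtain ⟨t, ht⟩ := hμ; exact ⟨0, t, by rw [ht, pow_zero, one_mul]⟩
    obtain ⟨t, ht⟩ : IsSquare (ν⁻¹ * μ) := by
      rcases hν with h2 | hn
      · haveI : CharP F 2 := CharTwo.of_one_ne_zero_of_two_eq_zero one_ne_zero h2
        obtain ⟨r, hr⟩ := FiniteField.isSquare_of_char_two (ringChar.eq F 2) ((μ : Fˣ) : F)
        exact absurd ⟨Units.mk0 r (fun h0 => μ.ne_zero (by rw [hr, h0, mul_zero])), Units.ext hr⟩ hμ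
      · have cast : ∀ u : Fˣ, IsSquare (u : F) → IsSquare u := fun u ⟨r, hr⟩ =>
          ⟨Units.mk0 r (fun h0 => u.ne_zero (by rw [hr, h0, mul_zero])), Units.ext hr⟩
        refine cast _ ((quadraticChar_one_iff_isSquare (Units.ne_zero _)).1 ?_)
        rw [Units.val_mul, map_mul,
          quadraticChar_neg_one_iff_not_isSquare.2 fun hc => hμ (cast _ hc),
          quadraticChar_neg_one_iff_not_isSquare.2 fun hc => hn (by simpa using (cast _ hc).inv)]
        norm_num
    exact ⟨1, t, by rw [← ht, pow_one, mul_inv_cancel_left]⟩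
  obtain ⟨j, t, ht⟩ := sq_or (OrthOuter.mult hne x)
  obtain ⟨o, ho⟩ := (OrthOuter.mem_range_toSim_iff hne
    ((pd m F (ν ^ j, 1))⁻¹ * (OrthOuter.scal (quadPlus m F) t)⁻¹ * x)).2 (by
      rw [map_mul, map_mul, map_inv, map_inv, mult_pd, OrthOuter.mult_scal, ht, ← mul_inv, inv_mul_cancel])
  have hx : oc (quadPlus m F) x = oc (quadPlus m F) (pd m F (ν ^ j, 1)) * oc (quadPlus m F) (OrthOuter.toSim (quadPlus m F) o) := by
    rw [ho, map_mul, map_mul, map_inv, map_inv, oc_scal, inv_one, mul_one, mul_inv_cancel_left]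
  obtain ⟨l, hl⟩ : ∃ l : ℕ, dick (o * swapAt i₀ ^ l) = 1 := by
    rcases dick_eq_or o with h | h
    · exact ⟨0, by rw [pow_zero, mul_one, h]⟩
    · exact ⟨1, by rw [pow_one, dick_mul hG, h, dick_swapAt hm]; norm_num⟩
  obtain ⟨k, hk⟩ : ∃ k : ℕ, (pdIso m F (Pi.mulSingle i₀ (ν ^ k)))⁻¹ * (o * swapAt i₀ ^ l) ∈
      Omega F ⇑(quadPlus m F) := by
    rcases spin_eq_or hG (o * swapAt i₀ ^ l) with h | h
    · exact ⟨0, by rw [pow_zero, Pi.mulSingle_one, map_one, inv_one, one_mul, mem_omega_iff hG]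
                   exact ⟨hl, h⟩⟩
    · rcases hν with h2 | hn
      · rw [spin_eq_one_of_two hG h2] at h; norm_num at h
      refine ⟨1, ?_⟩
      have hs := sign_pdIso hm (Pi.mulSingle i₀ (ν⁻¹ ^ 1) : Fin m → Fˣ)
      rw [← map_inv, ← Pi.mulSingle_inv, ← inv_pow, mem_omega_iff hG, dick_mul hG, spin_mul hG, hs.1, hs.2,
        hl, h, Fintype.prod_pi_mulSingle', pow_one, Units.val_inv_eq_inv_val]
      refine ⟨rfl, ?_⟩
      have hns : ¬ IsSquare ((ν : F)⁻¹) := by
        rintro ⟨c, hc⟩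
        have hc0 : c ≠ 0 := fun h0 => by simp [h0] at hc
        refine hn ⟨Units.mk0 c⁻¹ (inv_ne_zero hc0), Units.ext ?_⟩
        rw [Units.val_mul, Units.val_mk0, ← mul_inv, ← hc, inv_inv]
      rw [quadraticChar_neg_one_iff_not_isSquare.2 hns]
      norm_num
  refine ⟨j, k, l, ?_⟩
  have ho' : oc (quadPlus m F) (OrthOuter.toSim (quadPlus m F) o) =
      oc (quadPlus m F) (pd m F (1, Pi.mulSingle i₀ (ν ^ k))) * oc (quadPlus m F) (OrthOuter.toSim (quadPlus m F) (swapAt i₀)) ^ l := by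
    have h1 := oc_omega hk
    rw [map_mul, map_mul, map_inv, map_inv, inv_mul_eq_one, toSim_pdIso, map_mul, map_mul] at h1
    have hr : oc (quadPlus m F) (OrthOuter.toSim (quadPlus m F) (swapAt i₀)) * oc (quadPlus m F) (OrthOuter.toSim (quadPlus m F) (swapAt i₀)) = 1 := by
      rw [← map_mul, ← map_mul, swapAt_mul_self, map_one, map_one]
    rw [map_pow, map_pow] at h1
    rw [h1, mul_assoc, ← pow_add, ← two_mul, pow_mul, sq, hr, one_pow, mul_one]
  rw [hx, ho', ← mul_assoc, ← map_mul, ← map_mul]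
  rw [Prod.mk_mul_mk, mul_one, one_mul]

/-! ### field automorphisms -/

theorem semisim_gal_plus (σ : F ≃+* F) :
    IsSemisimilarityPair ⇑(quadPlus m F) (1 : GL (Fin m ⊕ Fin m) F) σ :=
  ⟨1, fun v => by
    show quadFormPlus m F _ = _ * σ (quadFormPlus m F v)
    simp [quadFormPlus, map_sum]⟩

/-- Field automorphisms as automorphisms of `PΩ⁺`. -/
noncomputable def galHom (m : ℕ) (F : Type*) [Field F] [Fintype F] :
    (F ≃+* F) →* MulAut (POmega F ⇑(quadPlus m F)) :=
  MonoidHom.mk' (fun σ => semiAut _ (semisim_gal_plus (m := m) σ)) fun a b => by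
    rw [semiAut_mul]
    exact semiAut_congr _ _ (by rw [map_one, one_mul]) rfl

theorem gal_conjAut (σ : F ≃+* F) (x y : OrthOuter.Sim (quadPlus m F))
    (h : FieldAut.galGL σ (x : GL (Fin m ⊕ Fin m) F) = (y : GL (Fin m ⊕ Fin m) F)) :
    galHom m F σ * OrthOuter.conjAut _ x = OrthOuter.conjAut _ y * galHom m F σ := by
  obtain ⟨hx, ex⟩ := conjAut_eq_semiAut x
  obtain ⟨hy, ey⟩ := conjAut_eq_semiAut y
  show semiAut _ (semisim_gal_plus σ) * _ = _ * semiAut _ (semisim_gal_plus σ)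
  rw [ex, ey, semiAut_mul, semiAut_mul]
  refine semiAut_congr _ _ ?_ (by rw [mul_one, one_mul])
  simp [h]

theorem gal_pd (σ : F ≃+* F) (p : Fˣ × (Fin m → Fˣ)) :
    galHom m F σ * OrthOuter.conjAut _ (pd m F p) =
      OrthOuter.conjAut _ (pd m F (Units.map σ.toMonoidHom p.1, fun i => Units.map σ.toMonoidHom (p.2 i))) *
        galHom m F σ := by
  refine gal_conjAut σ _ _ (Units.ext ?_)
  rw [FieldAut.galGL_apply_coe]
  show (Matrix.diagonal _).map σ = Matrix.diagonal _
  rw [Matrix.diagonal_map (map_zero σ)]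
  congr 1
  funext j
  rcases j with j | j <;> simp [pdVal]

theorem gal_swap (σ : F ≃+* F) (i : Fin m) :
    galHom m F σ * OrthOuter.conjAut _ (OrthOuter.toSim _ (swapAt i)) =
      OrthOuter.conjAut _ (OrthOuter.toSim _ (swapAt i)) * galHom m F σ := by
  refine gal_conjAut σ _ _ (Units.ext (Matrix.ext_of_mulVec_single fun j => ?_))
  have hs : σ ∘ (Pi.single j 1 : Fin m ⊕ Fin m → F) = Pi.single j 1 := by
    funext l; simp [Pi.single_apply, apply_ite σ]
  conv_lhs => rw [← hs]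
  rw [FieldAut.galGL_mulVec, OrthOuter.toSim_coe, ← ap_apply, swapAt_ap, ← Function.comp_assoc, hs]

end Cfsg.Agent.AutPOmega
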