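import Cfsg.Agent.Lib.AutPOmega.Basic

/-!
# Automorphisms of `PΩ(Q)`: long root elements are canonical

* `IsRoot x` : `x` is the class of `eich u w` with `u, w` spanning a totally singular line
* `centralSyl_iff_isRoot` : equivalently `x ≠ 1` is central in some Sylow subgroup of the defining characteristic
* `isRoot_map_iff` : automorphisms preserve roots
* `cg g` : conjugation by an isometry
-/

set_option autoImplicit false
set_option linter.unusedSectionVars false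

namespace Cfsg.Agent.AutPOmega

open Cfsg Matrix Module Cfsg.Agent.Orth
open QuadraticMap (polar)

variable {ι : Type} [Fintype ι] [DecidableEq ι] {F : Type*} [Field F] [Fintype F]
variable {Q : QuadraticForm F (ι → F)}

/-- The long root elements of `PΩ(Q)`. -/
def IsRoot (x : POmega F ⇑Q) : Prop := ∃ u w, SPair Q u w ∧ x = E Q u w

theorem IsRoot.ne_one (H : Base Q) {x : POmega F ⇑Q} (hx : IsRoot x) : x ≠ 1 := by
  obtain ⟨u, w, h, rfl⟩ := hx
  exact fun e => h.eich_ne_one H.nd ((E_eq_one_iff H).1 e)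

theorem exists_spair_isometry (H : Base Q) {u w u' w' : ι → F} (h : SPair Q u w) (h' : SPair Q u' w') :
    ∃ g : IsoGrp Q, ap g u = u' ∧ ap g w = w' := by
  have hinj : ∀ {a b : ι → F}, SPair Q a b →
      Function.Injective (Fintype.linearCombination F ![a, b]) := fun {a b} hab => by
    rw [← LinearMap.ker_eq_bot, LinearMap.ker_eq_bot']
    intro c hc
    simp [Fintype.linearCombination_apply] at hc
    obtain ⟨h0, h1⟩ := hab.coeff hc
    funext i; fin_cases i <;> assumption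
  let e1 := LinearEquiv.ofInjective _ (hinj h)
  let e2 := LinearEquiv.ofInjective _ (hinj h')
  have hz : ∀ {a b : ι → F}, SPair Q a b → ∀ x ∈ LinearMap.range (Fintype.linearCombination F ![a, b]),
      Q x = 0 := fun {a b} hab x hx => by
    obtain ⟨c, rfl⟩ := hx
    simp only [Fintype.linearCombination_apply, Fin.sum_univ_two, Matrix.cons_val_zero,
      Matrix.cons_val_one]
    exact (hab.ts (x := c 0 • a + c 1 • b) (mem_ln.2 ⟨_, _, rfl⟩) (zero_mem _)).1
  obtain ⟨g, hg, -⟩ := OrthAct.exists_iso_map H.nd (e1.symm.trans e2)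
    (fun x => by rw [hz h _ x.2]; exact hz h' _ (e2 _).2)
  have key : ∀ c, ap g ((e1 c : _) : ι → F) = ((e2 c : _) : ι → F) := fun c => by
    rw [hg, LinearEquiv.trans_apply, LinearEquiv.symm_apply_apply]
  have val : ∀ {a b : ι → F} (hab : SPair Q a b) (c : Fin 2 → F),
      ((LinearEquiv.ofInjective _ (hinj hab) c : _) : ι → F) = c 0 • a + c 1 • b := fun {a b} hab c => by
    simp [LinearEquiv.ofInjective_apply, Fintype.linearCombination_apply]
  refine ⟨g, ?_, ?_⟩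
  · have := key ![1, 0]; simpa [e1, e2, val h, val h'] using this
  · have := key ![0, 1]; simpa [e1, e2, val h, val h'] using this

variable (Q) in
/-- Conjugation by an isometry. -/
noncomputable def cg (g : IsoGrp Q) : MulAut (POmega F ⇑Q) :=
  FieldAut.indAut FieldAut.omMat_injective
    ⟨MulAut.conj (g : GL ι F), FieldAut.keep_conj_sim (FieldAut.iso_le_sim g.2)⟩

theorem cg_om (g : IsoGrp Q) {x : IsoGrp Q} (hx : x ∈ Omega F ⇑Q) :
    cg Q g (om x) = om (g * x * g⁻¹) := by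
  have hm : g * x * g⁻¹ ∈ Omega F ⇑Q :=
    (inferInstance : (commutator (IsoGrp Q)).Normal).conj_mem x hx g
  rw [om_of_mem hx, om_of_mem hm, cg, FieldAut.indAut_mk]
  refine congrArg _ (FieldAut.omMat_injective ?_)
  rw [FieldAut.mat_liftAut]
  rfl

theorem cg_E (H : Base Q) (g : IsoGrp Q) (u w : ι → F) :
    cg Q g (E Q u w) = E Q (ap g u) (ap g w) := by
  rw [E, cg_om g (H.eich_mem _ _), conj_eich]; rfl

/-- The subgroup of classes `E e w`, `w ∈ W`. -/
def rootU (H : Base Q) {e : ι → F} (he : Q e = 0) (W : Submodule F (ι → F))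
    (hW : ∀ w ∈ W, polar ⇑Q e w = 0) : Subgroup (POmega F ⇑Q) where
  carrier := {x | ∃ w ∈ W, x = E Q e w}
  one_mem' := ⟨0, W.zero_mem, (E_zero e).symm⟩
  mul_mem' := by
    rintro _ _ ⟨a, ha, rfl⟩ ⟨b, hb, rfl⟩
    exact ⟨a + b, W.add_mem ha hb, (E_add H he (hW a ha) (hW b hb)).symm⟩
  inv_mem' := by
    rintro _ ⟨a, ha, rfl⟩
    refine ⟨-a, W.neg_mem ha, ?_⟩
    rw [E, E, ← om_inv (H.eich_mem _ _), eich_inv]

theorem E_pow (H : Base Q) {e w : ι → F} (he : Q e = 0) (hw : polar ⇑Q e w = 0) (k : ℕ) :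
    E Q e w ^ k = E Q e ((k : F) • w) := by
  induction k with
  | zero => rw [pow_zero, Nat.cast_zero, zero_smul, E_zero]
  | succ k ih =>
    rw [pow_succ, ih, Nat.cast_succ, add_smul, one_smul,
      E_add H he (by rw [pl_smul_right, hw, mul_zero]) hw]

theorem rootU_isPGroup (H : Base Q) (p : ℕ) [CharP F p] {e : ι → F} (he : Q e = 0)
    (W : Submodule F (ι → F)) (hW : ∀ w ∈ W, polar ⇑Q e w = 0) : IsPGroup p (rootU H he W hW) := by
  rintro ⟨x, w, hw, rfl⟩
  refine ⟨1, Subtype.ext ?_⟩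
  rw [SubmonoidClass.coe_pow, pow_one, OneMemClass.coe_one]
  show E Q e w ^ p = 1
  rw [E_pow H he (hW w hw), CharP.cast_eq_zero, zero_smul, E_zero]

/-- `x` is a non-trivial element central in some Sylow subgroup of the characteristic. -/
def CentralSyl (x : POmega F ⇑Q) : Prop :=
  x ≠ 1 ∧ ∃ P : Subgroup (POmega F ⇑Q), IsPGroup (ringChar F) P ∧
    Nat.card P = ringChar F ^ (Nat.card (POmega F ⇑Q)).factorization (ringChar F) ∧
    ∀ y ∈ P, Commute x y

theorem CentralSyl.map {x : POmega F ⇑Q} (α : MulAut (POmega F ⇑Q)) (hx : CentralSyl x) :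
    CentralSyl (α x) := by
  obtain ⟨h1, P, hP, hc, hcom⟩ := hx
  refine ⟨fun h => h1 (α.injective (by rw [h, map_one])), P.map α.toMonoidHom, hP.map _, ?_, ?_⟩
  · rw [← hc]
    exact (Nat.card_congr (P.equivMapOfInjective α.toMonoidHom α.injective).toEquiv).symm
  · rintro _ ⟨y, hy, rfl⟩
    exact (hcom y hy).map α

/-- An element of `Ω` commuting modulo scalars with all of `U_e` is in `U_e` modulo scalars. -/
theorem exists_of_commute_rootU (H : Base Q) {e f : ι → F} (h : HPair Q e f) {g : IsoGrp Q}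
    (hg : g ∈ Omega F ⇑Q) (hc : ∀ w ∈ perp Q e f, Commute (om g) (E Q e w)) :
    ∃ s ∈ perp Q e f, om g = E Q e s := by
  have hex : ∀ w ∈ perp Q e f, eich Q (ap g e) (ap g w) = eich Q e w := fun w hw =>
    (commute_E_iff H hg).1 (hc w hw)
  obtain ⟨w0, hw0, hQw0⟩ := h.exists_nonsing_perp H.nd (by have := H.seven; omega)
  obtain ⟨a, ha⟩ := fix_of_commute_eich H.nd h.qe h.ne_zero (mem_perp.1 hw0).1 hQw0
    (g := g) (by rw [← mul_inv_eq_iff_eq_mul, conj_eich, hex w0 hw0])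
  have hw : ∀ w ∈ perp Q e f, ∃ c : F, a • ap g w = w + c • e := by
    intro w hw
    have h1 := hex w hw
    rw [ha, eich_smul_left] at h1
    refine eich_right_inj H.nd h.qe h.ne_zero (mem_perp.1 hw).1 ?_ h1.symm
    rw [pl_smul_right, ← pl_smul_left, ← ha, polar_ap, (mem_perp.1 hw).1]
  have ha2 : a * a = 1 := by
    obtain ⟨c, hcw⟩ := hw w0 hw0
    have h2 := congrArg Q hcw
    rw [Q_smul, Q_ap, Q_add, Q_smul, pl_smul_right, h.qe, pl_comm Q w0 e, (mem_perp.1 hw0).1] at h2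
    exact mul_right_cancel₀ hQw0 (by linear_combination h2)
  set φ : (ι → F) →ₗ[F] (ι → F) := a • ap g with hφ
  have hpol : ∀ x y, polar ⇑Q (φ x) (φ y) = polar ⇑Q x y := fun x y => by
    rw [hφ, LinearMap.smul_apply, LinearMap.smul_apply, pl_smul_left, pl_smul_right, polar_ap,
      ← mul_assoc, ha2, one_mul]
  have hQφ : ∀ x, Q (φ x) = Q x := fun x => by
    rw [hφ, LinearMap.smul_apply, Q_smul, Q_ap, ha2, one_mul]
  have hφe : φ e = e := by rw [hφ, LinearMap.smul_apply, ha, smul_smul, ha2, one_smul]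
  set s := wPart Q e f (φ f) with hs
  have hsW : s ∈ perp Q e f := h.wPart_mem _
  have hef : polar ⇑Q e (φ f) = 1 := by
    conv_lhs => rw [← hφe]
    rw [hpol, h.pf]
  have hdec : φ f = polar ⇑Q f (φ f) • e + (1 : F) • f + s := by
    conv_lhs => rw [decomp (Q := Q) e f (φ f), hef]
  have hd : polar ⇑Q f (φ f) = -Q s := by
    have := congrArg Q hdec
    rw [h.Q_comb hsW, hQφ, h.qf] at this
    linear_combination -this
  have hφw : ∀ w ∈ perp Q e f, φ w = w - polar ⇑Q s w • e := by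
    intro w hwp
    obtain ⟨c, hcw⟩ := hw w hwp
    obtain ⟨hew, hfw⟩ := mem_perp.1 hwp
    have h1 : φ w = w + c • e := hcw
    have h2 := hpol f w
    rw [h1, hdec, hfw] at h2
    simp only [pl_add_left, pl_add_right, pl_smul_left, pl_smul_right, pl_self, h.qe, hew, hfw,
      pl_comm Q s e, (mem_perp.1 hsW).1, pl_comm Q f e, h.pf] at h2
    rw [h1, show c = -polar ⇑Q s w by linear_combination h2]
    module
  refine ⟨s, hsW, (om_eq_iff H hg (H.eich_mem _ _)).2 ⟨a, ha2, fun x => ?_⟩⟩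
  show _ = φ x
  conv_rhs => rw [decomp (Q := Q) e f x, map_add, map_add, map_smul, map_smul, hφe, hdec, hd,
    hφw _ (h.wPart_mem x)]
  rw [eich_ap h.qe (mem_perp.1 hsW).1]
  have e1 : polar ⇑Q s x = polar ⇑Q s (wPart Q e f x) := by
    conv_lhs => rw [decomp (Q := Q) e f x]
    rw [pl_add_right, pl_add_right, pl_smul_right, pl_smul_right, pl_comm Q s e, pl_comm Q s f,
      (mem_perp.1 hsW).1, (mem_perp.1 hsW).2]; ring
  rw [e1]
  nth_rewrite 1 [decomp (Q := Q) e f x]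
  module

theorem exists_sylow_key (H : Base Q) :
    ∃ P : Sylow (ringChar F) (POmega F ⇑Q), Nontrivial (P : Subgroup (POmega F ⇑Q)) ∧
      ∀ x, x ≠ 1 → (∀ y ∈ (P : Subgroup (POmega F ⇑Q)), Commute x y) → IsRoot x := by
  haveI hp : Fact (ringChar F).Prime := ⟨CharP.char_is_prime F _⟩
  obtain ⟨e, f, h⟩ := exists_hpair H.nd (by have := H.seven; omega)
  obtain ⟨e2, f2, h2, he2, hf2, hndW, hfW⟩ := exists_two_hpairs H h
  set W0 := perp Q e f ⊓ perp Q e2 f2 with hW0
  set T1 := rootU H h.qe (perp Q e f) (fun w hw => (mem_perp.1 hw).1) with hT1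
  set T2 := rootU H h2.qe W0 (fun w hw => (mem_perp.1 hw.2).1) with hT2
  have hnorm : T2 ≤ Subgroup.normalizer (T1 : Set (POmega F ⇑Q)) := by
    have key : ∀ w ∈ W0, ∀ y ∈ T1, E Q e2 w * y * (E Q e2 w)⁻¹ ∈ T1 := by
      rintro w hw _ ⟨v, hv, rfl⟩
      obtain ⟨h2e, h2f⟩ := mem_perp.1 he2
      obtain ⟨hwe, hwf⟩ := mem_perp.1 hw.1
      have hfix : ∀ z, polar ⇑Q e2 z = 0 → polar ⇑Q w z = 0 → ap (eich Q e2 w) z = z := fun z z1 z2 => by
        rw [eich_ap h2.qe (mem_perp.1 hw.2).1, z1, z2]; module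
      have hfe := hfix e (by rw [pl_comm]; exact h2e) (by rw [pl_comm]; exact hwe)
      have hff := hfix f (by rw [pl_comm]; exact h2f) (by rw [pl_comm]; exact hwf)
      refine ⟨ap (eich Q e2 w) v, mem_perp.2 ?_, ?_⟩
      · obtain ⟨v1, v2⟩ := mem_perp.1 hv
        constructor
        · rw [← hfe, polar_ap, v1]
        · rw [← hff, polar_ap, v2]
      · conv_rhs => rw [← hfe]
        exact om_conj H (H.eich_mem _ _) e v
    rintro _ ⟨w, hw, rfl⟩
    rw [Subgroup.mem_normalizer_iff]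
    refine fun y => ⟨key w hw y, fun hy => ?_⟩
    have hinv : (E Q e2 w)⁻¹ = E Q e2 (-w) := by rw [E, E, ← om_inv (H.eich_mem _ _), eich_inv]
    have := key (-w) (W0.neg_mem hw) _ hy
    rw [← hinv] at this
    simpa [mul_assoc] using this
  have hT : IsPGroup (ringChar F) (T2 ⊔ T1 : Subgroup (POmega F ⇑Q)) :=
    IsPGroup.to_sup_of_normal_right' (rootU_isPGroup H _ _ _ _) (rootU_isPGroup H _ _ _ _) hnorm
  obtain ⟨P, hP⟩ := hT.exists_le_sylow
  obtain ⟨w0, hw0, hQw0⟩ : ∃ w ∈ W0, Q w ≠ 0 := by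
    obtain ⟨v, hv, -, hQv⟩ := exists_ne_zero_Q_eq hndW (by have := H.seven; omega) 1
    exact ⟨v, hv, by rw [hQv]; exact one_ne_zero⟩
  haveI : Nontrivial (P : Subgroup (POmega F ⇑Q)) := by
    refine ⟨⟨⟨E Q e e2, hP (Subgroup.mem_sup_right ⟨e2, he2, rfl⟩)⟩, 1, fun hh => ?_⟩⟩
    have := (E_eq_one_iff H).1 (Subtype.ext_iff.1 hh)
    refine SPair.eich_ne_one H.nd ⟨h.qe, h2.qe, (mem_perp.1 he2).1, h.ne_zero, fun hm => ?_⟩ this
    obtain ⟨c, hc⟩ := Submodule.mem_span_singleton.1 hm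
    have h0 : polar ⇑Q f e2 = 0 := (mem_perp.1 he2).2
    rw [← hc, pl_smul_right, pl_comm, h.pf, mul_one] at h0
    exact h2.ne_zero (by rw [← hc, h0, zero_smul])
  refine ⟨P, inferInstance, fun z hz1 hzc => ?_⟩
  obtain ⟨g, hg, hgz⟩ := exists_om z
  obtain ⟨s, hs, hzs⟩ := exists_of_commute_rootU H h hg fun w hw => by
    rw [← hgz]; exact hzc _ (hP (Subgroup.mem_sup_right ⟨w, hw, rfl⟩))
  rw [hzs] at hgz
  obtain ⟨hse, hsf⟩ := mem_perp.1 hs
  have hrel : ∀ w ∈ W0, polar ⇑Q e2 s • w = (polar ⇑Q w s + Q w * polar ⇑Q e2 s) • e2 := by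
    intro w hw
    have hc1 : Commute (E Q e2 w) (E Q e s) := by
      rw [← hgz]; exact (hzc _ (hP (Subgroup.mem_sup_left ⟨w, hw, rfl⟩))).symm
    have h1 := (commute_E_iff H (H.eich_mem _ _)).1 hc1
    obtain ⟨hwe, hwf⟩ := mem_perp.1 hw.1
    obtain ⟨h2e, h2f⟩ := mem_perp.1 he2
    have hew2 : polar ⇑Q e2 w = 0 := (mem_perp.1 hw.2).1
    have hfe : ap (eich Q e2 w) e = e := by
      rw [eich_ap h2.qe hew2, pl_comm Q e2 e, h2e, pl_comm Q w e, hwe]; module
    rw [hfe] at h1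
    obtain ⟨c, hc⟩ := eich_right_inj H.nd h.qe h.ne_zero hse
      (by conv_lhs => rw [← hfe]
          rw [polar_ap, hse]) h1.symm
    have hc0 : c = 0 := by
      have h3 := congrArg (polar ⇑Q f) hc
      rw [eich_ap h2.qe hew2] at h3
      simp only [pl_add_right, pl_sub_right, pl_smul_right, hsf, hwf, h2f, pl_comm Q f e, h.pf] at h3
      linear_combination -h3
    rw [hc0, zero_smul, add_zero, eich_ap h2.qe hew2] at hc
    linear_combination (norm := module) hc
  have hes : polar ⇑Q e2 s = 0 := by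
    have h1 := hrel w0 hw0
    have h3 := congrArg (polar ⇑Q f2) h1
    rw [pl_smul_right, pl_smul_right, (mem_perp.1 hw0.2).2, mul_zero, pl_comm Q f2 e2, h2.pf,
      mul_one] at h3
    rw [← h3, zero_smul, smul_eq_zero] at h1
    exact h1.resolve_right fun h0 => hQw0 (by simp [h0])
  have hws : ∀ w ∈ W0, polar ⇑Q w s = 0 := fun w hw => by
    have h1 := hrel w hw
    rw [hes, zero_smul, mul_zero, add_zero, eq_comm, smul_eq_zero] at h1
    exact h1.resolve_right h2.ne_zero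
  have hs' : wPart Q e2 f2 s = 0 := by
    by_contra h0
    have hm : wPart Q e2 f2 s ∈ W0 :=
      ⟨sub_mem (sub_mem hs ((perp Q e f).smul_mem _ he2)) ((perp Q e f).smul_mem _ hf2),
        h2.wPart_mem s⟩
    obtain ⟨y, hy, hne⟩ := hndW _ hm h0
    apply hne
    rw [pl_comm, wPart, pl_sub_right, pl_sub_right, pl_smul_right, pl_smul_right, hws y hy,
      pl_comm Q y e2, pl_comm Q y f2, (mem_perp.1 hy.2).1, (mem_perp.1 hy.2).2]
    ring
  have hsk : s = polar ⇑Q f2 s • e2 := by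
    conv_lhs => rw [decomp (Q := Q) e2 f2 s, hes, hs', zero_smul, add_zero, add_zero]
  have hk : polar ⇑Q f2 s ≠ 0 := fun hk => by
    rw [hk, zero_smul] at hsk
    exact hz1 (by rw [hgz, hsk, E_zero])
  rw [hgz, hsk]
  refine ⟨e, _, SPair.smul_right ⟨h.qe, h2.qe, (mem_perp.1 he2).1, h.ne_zero, fun hm => ?_⟩ hk, rfl⟩
  obtain ⟨c, hc⟩ := Submodule.mem_span_singleton.1 hm
  have h0 : polar ⇑Q f e2 = 0 := (mem_perp.1 he2).2
  rw [← hc, pl_smul_right, pl_comm, h.pf, mul_one] at h0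
  exact h2.ne_zero (by rw [← hc, h0, zero_smul])

theorem IsRoot.conj (H : Base Q) {x : POmega F ⇑Q} (hx : IsRoot x) (y : POmega F ⇑Q) :
    IsRoot (y * x * y⁻¹) := by
  obtain ⟨u, w, h, rfl⟩ := hx
  obtain ⟨g, hg, rfl⟩ := exists_om y
  refine ⟨_, _, ⟨by rw [Q_ap, h.qu], by rw [Q_ap, h.qw], by rw [polar_ap, h.p], ap_ne_zero g h.nu,
    fun hm => h.ind ?_⟩, om_conj H hg u w⟩
  obtain ⟨c, hc⟩ := Submodule.mem_span_singleton.1 hm
  exact Submodule.mem_span_singleton.2 ⟨c, ap_inj g (by rw [map_smul, hc])⟩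

theorem centralSyl_iff_isRoot (H : Base Q) (x : POmega F ⇑Q) : CentralSyl x ↔ IsRoot x := by
  haveI hp : Fact (ringChar F).Prime := ⟨CharP.char_is_prime F _⟩
  obtain ⟨P, hnt, hkey⟩ := exists_sylow_key H
  constructor
  · rintro ⟨hx1, P', hP', hP'c, hxc⟩
    obtain ⟨y, hy⟩ := MulAction.exists_smul_eq (POmega F ⇑Q) (Sylow.ofCard P' hP'c) P
    have hroot : IsRoot (y * x * y⁻¹) := hkey _ (fun hh => hx1 (by simpa using hh)) fun z hz => by
      rw [← hy, Sylow.coe_subgroup_smul] at hz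
      obtain ⟨t, ht, rfl⟩ := hz
      exact (hxc t ht).map (MulAut.conj y)
    have := hroot.conj H y⁻¹
    simpa [mul_assoc] using this
  · rintro ⟨u, w, hs, rfl⟩
    obtain ⟨z, hz, hz1⟩ := (Subgroup.nontrivial_iff_exists_ne_one _).1
      (P.isPGroup'.center_nontrivial)
    have hzc : ∀ y ∈ (P : Subgroup (POmega F ⇑Q)), Commute (z : POmega F ⇑Q) y := fun y hy =>
      (congrArg Subtype.val (Subgroup.mem_center_iff.1 hz ⟨y, hy⟩)).symm
    have hz1' : (z : POmega F ⇑Q) ≠ 1 := fun hh => hz1 (Subtype.ext hh)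
    obtain ⟨u', w', hs', he⟩ := hkey _ hz1' hzc
    obtain ⟨g, hgu, hgw⟩ := exists_spair_isometry H hs' hs
    rw [← hgu, ← hgw, ← cg_E H g, ← he]
    exact CentralSyl.map _ ⟨hz1', P, P.isPGroup', P.card_eq_multiplicity, hzc⟩

theorem IsRoot.map (H : Base Q) {x : POmega F ⇑Q} (α : MulAut (POmega F ⇑Q)) (hx : IsRoot x) :
    IsRoot (α x) :=
  (centralSyl_iff_isRoot H _).1 (((centralSyl_iff_isRoot H x).2 hx).map α)

theorem isRoot_map_iff (H : Base Q) {x : POmega F ⇑Q} (α : MulAut (POmega F ⇑Q)) :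
    IsRoot (α x) ↔ IsRoot x :=
  ⟨fun h => by simpa using h.map H α⁻¹, fun h => h.map H α⟩

end Cfsg.Agent.AutPOmega
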