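import Cfsg.Agent.Lib.AutPOmega.Star

/-!
# Automorphisms of `PΩ(Q)`: semilinearity on a root group

* `singular_induction` : a non-degenerate space with a hyperbolic pair is additively generated by singular vectors
* `exists_A` : the action on `U_e` is given by a semisimilarity of `perp e f`
* `exists_semisim` : a semisimilarity pair inducing the same map on `U_e` and at `f`
-/

set_option autoImplicit false
set_option linter.unusedSectionVars false

namespace Cfsg.Agent.AutPOmega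

open Cfsg Matrix Module Cfsg.Agent.Orth
open QuadraticMap (polar)

variable {ι : Type} [Fintype ι] [DecidableEq ι] {F : Type*} [Field F] [Fintype F]
variable {Q : QuadraticForm F (ι → F)}

theorem singular_induction {W : Submodule F (ι → F)} {e2 f2 : ι → F} (h2 : HPair Q e2 f2)
    (he : e2 ∈ W) (hf : f2 ∈ W) {P : (ι → F) → Prop} (hadd : ∀ a ∈ W, ∀ b ∈ W, P a → P b → P (a + b))
    (hs : ∀ a ∈ W, Q a = 0 → P a) : ∀ a ∈ W, P a := by
  intro a ha
  set w := wPart Q e2 f2 a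
  have hwW : w ∈ W := sub_mem (sub_mem ha (W.smul_mem _ he)) (W.smul_mem _ hf)
  have hwp : w ∈ perp Q e2 f2 := h2.wPart_mem a
  have hPe : ∀ t : F, P (t • e2) := fun t => hs _ (W.smul_mem _ he) (by rw [Q_smul, h2.qe, mul_zero])
  have hPf : ∀ t : F, P (t • f2) := fun t => hs _ (W.smul_mem _ hf) (by rw [Q_smul, h2.qf, mul_zero])
  have hPs : P ((1 : F) • e2 + (-Q w) • f2 + w) :=
    hs _ (add_mem (add_mem (W.smul_mem _ he) (W.smul_mem _ hf)) hwW) (by rw [h2.Q_comb hwp]; ring)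
  have key : a = (((1 : F) • e2 + (-Q w) • f2 + w) + (polar ⇑Q f2 a - 1) • e2) +
      (polar ⇑Q e2 a + Q w) • f2 := by
    conv_lhs => rw [decomp (Q := Q) e2 f2 a]
    module
  rw [key]
  have hm1 : (1 : F) • e2 + (-Q w) • f2 + w ∈ W := add_mem (add_mem (W.smul_mem _ he) (W.smul_mem _ hf)) hwW
  exact hadd _ (add_mem hm1 (W.smul_mem _ he)) _ (W.smul_mem _ hf)
    (hadd _ hm1 _ (W.smul_mem _ he) hPs (hPe _)) (hPf _)

theorem exists_perp_companion (H : Base Q) {e f w z : ι → F} (h : HPair Q e f) (hw : w ∈ perp Q e f)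
    (hw0 : w ≠ 0) (hQw : Q w = 0) (hz : z ∈ perp Q e f) (hQz : Q z = 0) (hwz : polar ⇑Q w z ≠ 0) :
    ∃ y ∈ perp Q e f, Q y = 0 ∧ y ≠ 0 ∧ polar ⇑Q w y = 0 ∧ polar ⇑Q z y = 0 ∧
      y ∉ Submodule.span F {w} ∧ y ∉ Submodule.span F {z} := by
  obtain ⟨hnd, hd⟩ := finrank_perp_eq H.nd h
  have hp : HPair Q w ((polar ⇑Q w z)⁻¹ • z) :=
    ⟨hQw, by rw [Q_smul, hQz, mul_zero], by rw [pl_smul_right, inv_mul_cancel₀ hwz]⟩
  obtain ⟨hnd2, hd2⟩ := ndOn_cut hnd hp hw (Submodule.smul_mem _ _ hz)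
  obtain ⟨y, hy, hy0, hQy⟩ := exists_ne_zero_Q_eq hnd2 (by have := H.seven; omega) 0
  obtain ⟨h1, h2⟩ := mem_perp.1 hy.2
  rw [pl_smul_left, mul_eq_zero] at h2
  have h2' := h2.resolve_left (inv_ne_zero hwz)
  refine ⟨y, hy.1, hQy, hy0, h1, h2', fun hm => ?_, fun hm => ?_⟩
  · obtain ⟨c, rfl⟩ := Submodule.mem_span_singleton.1 hm
    rw [pl_smul_right, mul_eq_zero, pl_comm] at h2'
    exact hy0 (by rw [h2'.resolve_right hwz, zero_smul])
  · obtain ⟨c, rfl⟩ := Submodule.mem_span_singleton.1 hm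
    rw [pl_smul_right, mul_eq_zero] at h1
    exact hy0 (by rw [h1.resolve_right hwz, zero_smul])

theorem exists_indep_perp (H : Base Q) {e f w z : ι → F} (h : HPair Q e f) (hw : w ∈ perp Q e f)
    (hw0 : w ≠ 0) (hQw : Q w = 0) (hz : z ∈ perp Q e f) (hz0 : z ≠ 0) (hQz : Q z = 0) :
    (∃ y ∈ perp Q e f, Q y = 0 ∧ y ≠ 0 ∧ polar ⇑Q w y = 0 ∧ polar ⇑Q z y = 0 ∧
      y ∉ Submodule.span F {w} ∧ y ∉ Submodule.span F {z}) ∨
      (polar ⇑Q w z = 0 ∧ z ∉ Submodule.span F {w}) := by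
  by_cases hwz : polar ⇑Q w z = 0
  · by_cases hm : z ∈ Submodule.span F {w}
    · obtain ⟨c, rfl⟩ := Submodule.mem_span_singleton.1 hm
      have hc : c ≠ 0 := fun h0 => hz0 (by rw [h0, zero_smul])
      obtain ⟨hnd, -⟩ := finrank_perp_eq H.nd h
      obtain ⟨w', hw', hww'⟩ := exists_hpair_in hnd hw hQw hw0
      obtain ⟨y, hy, hQy, hy0, h1, -, h3, -⟩ := exists_perp_companion H h hw hw0 hQw hw' hww'.qf
        (by rw [hww'.pf]; exact one_ne_zero)
      refine .inl ⟨y, hy, hQy, hy0, h1, by rw [pl_smul_left, h1, mul_zero], h3, fun hm => h3 ?_⟩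
      obtain ⟨d, rfl⟩ := Submodule.mem_span_singleton.1 hm
      exact Submodule.mem_span_singleton.2 ⟨d * c, mul_smul _ _ _⟩
    · exact .inr ⟨hwz, hm⟩
  · obtain ⟨y, hy⟩ := exists_perp_companion H h hw hw0 hQw hz hQz hwz
    exact .inl ⟨y, hy⟩

/-- The action on `U_e`. -/
theorem exists_A (H : Base Q) (α : MulAut (POmega F ⇑Q)) {e f e' f' : ι → F} (h : HPair Q e f)
    (h' : HPair Q e' f') (h1 : ∀ z, α z ∈ Star Q e' ↔ z ∈ Star Q e) :
    ∃ (A : (ι → F) → (ι → F)) (σ : F ≃+* F) (c : F), c ≠ 0 ∧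
      (∀ w ∈ perp Q e f, A w ∈ perp Q e' f') ∧
      (∀ a ∈ perp Q e f, ∀ b ∈ perp Q e f, A (a + b) = A a + A b) ∧
      (∀ (k : F), ∀ w ∈ perp Q e f, A (k • w) = σ k • A w) ∧
      (∀ w ∈ perp Q e f, Q (A w) = c * σ (Q w)) ∧
      ∀ w ∈ perp Q e f, α (E Q e w) = E Q e' (A w) := by
  classical
  obtain ⟨e2, f2, h2, he2, hf2, hndW2, hd2⟩ := exists_two_hpairs H h
  set W := perp Q e f with hW
  have himg : ∀ w ∈ W, ∃ w' ∈ perp Q e' f', α (E Q e w) = E Q e' w' := by
    refine singular_induction h2 he2 hf2 (W := W) (P := fun w => ∃ w' ∈ perp Q e' f', α (E Q e w) = E Q e' w') ?_ ?_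
    · rintro a ha b hb ⟨a', ha', ea⟩ ⟨b', hb', eb⟩
      refine ⟨a' + b', add_mem ha' hb', ?_⟩
      rw [E_add H h.qe (mem_perp.1 ha).1 (mem_perp.1 hb).1, map_mul, ea, eb,
        E_add H h'.qe (mem_perp.1 ha').1 (mem_perp.1 hb').1]
    · intro a ha hQa
      by_cases ha0 : a = 0
      · exact ⟨0, zero_mem _, by rw [ha0, E_zero, E_zero, map_one]⟩
      have hin : E Q e a ∈ Star Q e :=
        (star_iff H h.qe h.ne_zero (spair_perp h ha ha0 hQa)).2 (left_mem_ln _ _)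
      obtain ⟨w', hw', -, -, he⟩ := star_eq_perp H h' ((h1 _).2 hin)
      exact ⟨w', hw', he⟩
  let A : (ι → F) → (ι → F) := fun w => if hw : w ∈ W then (himg w hw).choose else 0
  have hA1 : ∀ w ∈ W, A w ∈ perp Q e' f' ∧ α (E Q e w) = E Q e' (A w) := fun w hw => by
    simp only [A, dif_pos hw]; exact (himg w hw).choose_spec
  have huniq : ∀ w ∈ W, ∀ x ∈ perp Q e' f', α (E Q e w) = E Q e' x → A w = x := fun w hw x hx he =>
    E_inj_perp H h' (hA1 w hw).1 hx ((hA1 w hw).2.symm.trans he)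
  have hadd : ∀ a ∈ W, ∀ b ∈ W, A (a + b) = A a + A b := fun a ha b hb =>
    huniq _ (add_mem ha hb) _ (add_mem (hA1 a ha).1 (hA1 b hb).1) (by
      rw [E_add H h.qe (mem_perp.1 ha).1 (mem_perp.1 hb).1, map_mul, (hA1 a ha).2, (hA1 b hb).2,
        E_add H h'.qe (mem_perp.1 (hA1 a ha).1).1 (mem_perp.1 (hA1 b hb).1).1])
  have hinj : ∀ a ∈ W, ∀ b ∈ W, A a = A b → a = b := fun a ha b hb he =>
    E_inj_perp H h ha hb (α.injective (by rw [(hA1 a ha).2, (hA1 b hb).2, he]))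
  have hzero : A 0 = 0 := huniq 0 W.zero_mem 0 (zero_mem _) (by rw [E_zero, E_zero, map_one])
  have hne : ∀ w ∈ W, w ≠ 0 → A w ≠ 0 := fun w hw hw0 h0 =>
    hw0 (hinj w hw 0 W.zero_mem (h0.trans hzero.symm))
  have hsing : ∀ w ∈ W, Q w = 0 → Q (A w) = 0 := by
    intro w hw hQw
    by_cases hw0 : w = 0
    · rw [hw0, hzero, QuadraticMap.map_zero]
    have := IsRoot.map H α ((isRoot_E_perp_iff H h hw).2 ⟨hw0, hQw⟩)
    rw [(hA1 w hw).2] at this
    exact ((isRoot_E_perp_iff H h' (hA1 w hw).1).1 this).2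
  -- scalars
  have hpar : ∀ w ∈ W, w ≠ 0 → Q w = 0 → ∀ z ∈ W, z ≠ 0 → Q z = 0 →
      (z ∈ Submodule.span F {w} ↔ A z ∈ Submodule.span F {A w}) := by
    intro w hw hw0 hQw z hz hz0 hQz
    have s1 := spair_perp h hw hw0 hQw
    have s2 := spair_perp h hz hz0 hQz
    have t1 := spair_perp h' (hA1 w hw).1 (hne w hw hw0) (hsing w hw hQw)
    have t2 := spair_perp h' (hA1 z hz).1 (hne z hz hz0) (hsing z hz hQz)
    have key : ∀ {e f w z : ι → F} (h : HPair Q e f), w ∈ perp Q e f → z ∈ perp Q e f → SPair Q e w →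
        SPair Q e z → (z ∈ Submodule.span F {w} ↔ ln e z = ln e w) := by
      intro e f w z h hw hz sw sz
      constructor
      · intro hm
        refine (sw.line_of_two (left_mem_ln _ _) ?_ sw.nu sz.ind)
        exact (Submodule.span_le.2 (Set.singleton_subset_iff.2 (right_mem_ln e w))) hm
      · intro hl
        obtain ⟨a, b, hab⟩ := mem_ln.1 (hl ▸ right_mem_ln e z)
        have h3 := (mem_perp.1 hz).2
        rw [← hab, pl_add_right, pl_smul_right, pl_smul_right, (mem_perp.1 hw).2, pl_comm Q f e, h.pf,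
          mul_zero, add_zero, mul_one] at h3
        exact Submodule.mem_span_singleton.2 ⟨b, by rw [← hab, h3, zero_smul, zero_add]⟩
    rw [key h hw hz s1 s2, key h' (hA1 w hw).1 (hA1 z hz).1 t1 t2, ← same_iff H s2 s1,
      ← sameL_map_iff H α, (hA1 w hw).2, (hA1 z hz).2, same_iff H t2 t1]
  have hσ : ∀ w ∈ W, w ≠ 0 → Q w = 0 → ∀ k : F, ∃ c : F, A (k • w) = c • A w := by
    intro w hw hw0 hQw k
    by_cases hk : k = 0
    · exact ⟨0, by rw [hk, zero_smul, zero_smul, hzero]⟩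
    obtain ⟨c, hc⟩ := Submodule.mem_span_singleton.1 ((hpar w hw hw0 hQw (k • w) (W.smul_mem k hw)
      (smul_ne_zero hk hw0) (by rw [Q_smul, hQw, mul_zero])).1
      (Submodule.smul_mem _ k (Submodule.mem_span_singleton_self w)))
    exact ⟨c, hc.symm⟩
  let σf : F → F := fun k => (hσ e2 he2 h2.ne_zero h2.qe k).choose
  have hσ2 : ∀ k, A (k • e2) = σf k • A e2 := fun k => (hσ e2 he2 h2.ne_zero h2.qe k).choose_spec
  have hindep : ∀ w ∈ W, w ≠ 0 → Q w = 0 → ∀ z ∈ W, z ≠ 0 → Q z = 0 → polar ⇑Q w z = 0 →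
      z ∉ Submodule.span F {w} → ∀ k c d : F, A (k • w) = c • A w → A (k • z) = d • A z → c = d := by
    intro w hw hw0 hQw z hz hz0 hQz hwz hm k c d ec ed
    have hs0 : w + z ≠ 0 := fun h0 => hm (by
      rw [eq_neg_of_add_eq_zero_right h0]
      exact Submodule.neg_mem _ (Submodule.mem_span_singleton_self w))
    obtain ⟨r, hr⟩ := hσ (w + z) (add_mem hw hz) hs0 (by rw [Q_add, hQw, hQz, hwz]; ring) k
    rw [smul_add, hadd _ (W.smul_mem k hw) _ (W.smul_mem k hz), hadd _ hw _ hz, ec, ed] at hr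
    have h3 : (c - r) • A w + (d - r) • A z = 0 := by linear_combination (norm := module) hr
    have hdr : d - r = 0 := by
      by_contra hne'
      refine hm ((hpar w hw hw0 hQw z hz hz0 hQz).2 (Submodule.mem_span_singleton.2
        ⟨-((d - r)⁻¹ * (c - r)), ?_⟩))
      rw [neg_smul, mul_smul, eq_neg_of_add_eq_zero_left h3, smul_neg, neg_neg, inv_smul_smul₀ hne']
    rw [hdr, zero_smul, add_zero, smul_eq_zero] at h3
    rw [sub_eq_zero.1 (h3.resolve_right (hne w hw hw0)), sub_eq_zero.1 hdr]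
  have hsem0 : ∀ (k : F), ∀ w ∈ W, Q w = 0 → A (k • w) = σf k • A w := by
    intro k w hw hQw
    by_cases hw0 : w = 0
    · rw [hw0, smul_zero, hzero, smul_zero]
    obtain ⟨c, hc⟩ := hσ w hw hw0 hQw k
    rw [hc]
    congr 1
    rcases exists_indep_perp H h hw hw0 hQw he2 h2.ne_zero h2.qe with
      ⟨y, hy, hQy, hy0, hwy, hey, hmw, hme⟩ | ⟨hwe, hm⟩
    · obtain ⟨d, hd⟩ := hσ y hy hy0 hQy k
      rw [hindep w hw hw0 hQw y hy hy0 hQy hwy hmw k c d hc hd,
        hindep e2 he2 h2.ne_zero h2.qe y hy hy0 hQy hey hme k _ d (hσ2 k) hd]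
    · exact hindep w hw hw0 hQw e2 he2 h2.ne_zero h2.qe hwe hm k c _ hc (hσ2 k)
  have hsem : ∀ (k : F), ∀ w ∈ W, A (k • w) = σf k • A w := by
    intro k
    refine singular_induction h2 he2 hf2 (P := fun w => A (k • w) = σf k • A w) ?_ (hsem0 k)
    intro a ha b hb ea eb
    rw [smul_add, hadd _ (W.smul_mem k ha) _ (W.smul_mem k hb), ea, eb, hadd a ha b hb, smul_add]
  have hA2 : A e2 ≠ 0 := hne e2 he2 h2.ne_zero
  let σh : F →+* F :=
    { toFun := σf
      map_one' := by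
        apply smul_left_injective F hA2
        simp only [← hσ2, one_smul]
      map_zero' := by
        apply smul_left_injective F hA2
        simp only [← hσ2, zero_smul, hzero]
      map_mul' := fun k l => by
        apply smul_left_injective F hA2
        simp only
        rw [← hσ2, mul_smul, hsem k _ (W.smul_mem l he2), hσ2 l, smul_smul]
      map_add' := fun k l => by
        apply smul_left_injective F hA2
        simp only
        rw [← hσ2, add_smul, hadd _ (W.smul_mem k he2) _ (W.smul_mem l he2), hσ2, hσ2, add_smul] }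
  set σ : F ≃+* F := RingEquiv.ofBijective σh
    ⟨σh.injective, Finite.injective_iff_surjective.1 σh.injective⟩ with hσdef
  have hσa : ∀ k, σ k = σf k := fun k => rfl
  -- the form
  set c := polar ⇑Q (A e2) (A f2) with hc
  have hperp0 : ∀ x ∈ W, Q x = 0 → ∀ y ∈ W, Q y = 0 → polar ⇑Q x y = 0 → polar ⇑Q (A x) (A y) = 0 := by
    intro x hx hQx y hy hQy hxy
    have h3 := hsing (x + y) (add_mem hx hy) (by rw [Q_add, hQx, hQy, hxy]; ring)
    rw [hadd x hx y hy, Q_add, hsing x hx hQx, hsing y hy hQy, zero_add, zero_add] at h3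
    exact h3
  set W2 := W ⊓ perp Q e2 f2 with hW2d
  obtain ⟨e3, he3, f3, hf3, h3⟩ := exists_hpair_of_three hndW2 (by have := H.seven; omega)
  have horth : ∀ w ∈ W2, polar ⇑Q (A e2) (A w) = 0 ∧ polar ⇑Q (A f2) (A w) = 0 := by
    refine singular_induction h3 he3 hf3
      (P := fun w => polar ⇑Q (A e2) (A w) = 0 ∧ polar ⇑Q (A f2) (A w) = 0) ?_ fun a ha hQa =>
        ⟨hperp0 e2 he2 h2.qe a ha.1 hQa (mem_perp.1 ha.2).1, hperp0 f2 hf2 h2.qf a ha.1 hQa (mem_perp.1 ha.2).2⟩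
    intro a ha b hb ea eb
    rw [hadd a ha.1 b hb.1, pl_add_right, pl_add_right, ea.1, ea.2, eb.1, eb.2, add_zero]
    exact ⟨rfl, rfl⟩
  have hQ2 : ∀ w ∈ W2, Q (A w) = c * σ (Q w) := by
    intro w hw
    have hm : (-Q w) • e2 + f2 ∈ W := add_mem (W.smul_mem _ he2) hf2
    have h4 := hsing ((-Q w) • e2 + f2 + w) (add_mem hm hw.1)
      (by rw [← one_smul F f2, h2.Q_comb hw.2]; ring)
    obtain ⟨o1, o2⟩ := horth w hw
    rw [hadd _ hm _ hw.1, hadd _ (W.smul_mem _ he2) _ hf2, hsem _ _ he2, ← hσa, map_neg] at h4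
    simp only [Q_add, Q_smul, hsing e2 he2 h2.qe, hsing f2 hf2 h2.qf, pl_add_left, pl_smul_left, o1, o2,
      ← hc] at h4
    linear_combination h4
  have hQ : ∀ w ∈ W, Q (A w) = c * σ (Q w) := by
    intro w hw
    set a := polar ⇑Q f2 w
    set b := polar ⇑Q e2 w
    set w2 := wPart Q e2 f2 w with hw2d
    have hw2 : w2 ∈ W2 :=
      ⟨sub_mem (sub_mem hw (W.smul_mem _ he2)) (W.smul_mem _ hf2), h2.wPart_mem w⟩
    obtain ⟨o1, o2⟩ := horth w2 hw2
    conv_rhs => rw [decomp (Q := Q) e2 f2 w, h2.Q_comb hw2.2]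
    conv_lhs => rw [decomp (Q := Q) e2 f2 w,
      hadd _ (add_mem (W.smul_mem _ he2) (W.smul_mem _ hf2)) _ hw2.1,
      hadd _ (W.smul_mem _ he2) _ (W.smul_mem _ hf2), hsem _ _ he2, hsem _ _ hf2, ← hσa, ← hσa]
    simp only [Q_add, Q_smul, hsing e2 he2 h2.qe, hsing f2 hf2 h2.qf, pl_add_left, pl_smul_left,
      pl_smul_right, o1, o2, ← hc, hQ2 w2 hw2, map_add, map_mul]
    ring
  have hc0 : c ≠ 0 := by
    intro h0
    obtain ⟨hnd', -⟩ := finrank_perp_eq H.nd h'
    obtain ⟨hnd, -⟩ := finrank_perp_eq H.nd h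
    -- the image of `A` is all of `perp e' f'`
    let A' : W → perp Q e' f' := fun w => ⟨A w.1, (hA1 w.1 w.2).1⟩
    have hsur : Function.Surjective A' := by
      refine (Nat.bijective_iff_injective_and_card A').2
        ⟨fun x y hxy => Subtype.ext (hinj _ x.2 _ y.2 (congrArg Subtype.val hxy)), ?_⟩ |>.2
      rw [Module.natCard_eq_pow_finrank (K := F) (V := ↥W),
        Module.natCard_eq_pow_finrank (K := F) (V := ↥(perp Q e' f'))]
      have a1 := (finrank_perp_eq H.nd h).2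
      have a2 := (finrank_perp_eq H.nd h').2
      congr 1
      show finrank F ↥(perp Q e f) = _
      omega
    obtain ⟨v, hv, hQv⟩ := h'.exists_nonsing_perp H.nd (by have := H.seven; omega)
    obtain ⟨w, hw⟩ := hsur ⟨v, hv⟩
    exact hQv (by rw [← show A w.1 = v from congrArg Subtype.val hw, hQ w.1 w.2, h0, zero_mul])
  exact ⟨A, σ, c, hc0, fun w hw => (hA1 w hw).1, hadd, fun k w hw => by rw [hσa]; exact hsem k w hw, hQ,
    fun w hw => (hA1 w hw).2⟩

/-- A semisimilarity with the same action on `U_e`. -/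
theorem exists_semisim (H : Base Q) (α : MulAut (POmega F ⇑Q)) {e f e' f' : ι → F} (h : HPair Q e f)
    (h' : HPair Q e' f') (h1 : ∀ z, α z ∈ Star Q e' ↔ z ∈ Star Q e) :
    ∃ (g : GL ι F) (σ : F ≃+* F) (c : F), c ≠ 0 ∧
      (∀ v, Q ((g : Matrix ι ι F) *ᵥ (σ ∘ v)) = c * σ (Q v)) ∧
      (g : Matrix ι ι F) *ᵥ (σ ∘ f) = f' ∧
      ∀ w ∈ perp Q e f, α (E Q e w) =
        E Q ((g : Matrix ι ι F) *ᵥ (σ ∘ e)) (c⁻¹ • ((g : Matrix ι ι F) *ᵥ (σ ∘ w))) := by
  obtain ⟨A, σ, c, hc, hAW, hadd, hsem, hQ, hα⟩ := exists_A H α h h' h1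
  let Gs : (ι → F) → (ι → F) := fun v =>
    (σ (polar ⇑Q f v) * c) • e' + σ (polar ⇑Q e v) • f' + A (wPart Q e f v)
  have hwadd : ∀ u v, wPart Q e f (u + v) = wPart Q e f u + wPart Q e f v := fun u v => by
    simp only [wPart, pl_add_right]; module
  have hwsmul : ∀ (k : F) v, wPart Q e f (k • v) = k • wPart Q e f v := fun k v => by
    simp only [wPart, pl_smul_right]; module
  have hGadd : ∀ u v, Gs (u + v) = Gs u + Gs v := fun u v => by
    simp only [Gs, pl_add_right, map_add, hwadd, hadd _ (h.wPart_mem u) _ (h.wPart_mem v)]; module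
  have hGsmul : ∀ (k : F) v, Gs (k • v) = σ k • Gs v := fun k v => by
    simp only [Gs, pl_smul_right, map_mul, hwsmul, hsem k _ (h.wPart_mem v)]; module
  have hGQ : ∀ v, Q (Gs v) = c * σ (Q v) := fun v => by
    conv_rhs => rw [decomp (Q := Q) e f v, h.Q_comb (h.wPart_mem v), map_add, map_mul]
    rw [h'.Q_comb (hAW _ (h.wPart_mem v)), hQ _ (h.wPart_mem v)]
    ring
  have hc2 : ∀ (k : F) (v : ι → F), σ.symm ∘ (k • v) = σ.symm k • (σ.symm ∘ v) := fun k v => by
    funext i; simp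
  have hc1 : ∀ u v : ι → F, σ.symm ∘ (u + v) = σ.symm ∘ u + σ.symm ∘ v := fun u v => by
    funext i; simp
  let L : (ι → F) →ₗ[F] (ι → F) :=
    { toFun := fun v => Gs (σ.symm ∘ v)
      map_add' := fun u v => by rw [hc1, hGadd]
      map_smul' := fun k v => by rw [hc2, hGsmul, RingEquiv.apply_symm_apply, RingHom.id_apply] }
  have hL : ∀ v, L (σ ∘ v) = Gs v := fun v => by
    show Gs (σ.symm ∘ (σ ∘ v)) = Gs v
    congr 1; funext i; simp
  have hLinj : Function.Injective L := by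
    rw [← LinearMap.ker_eq_bot, LinearMap.ker_eq_bot']
    intro v hv
    by_contra hv0
    have hv' : σ.symm ∘ v ≠ 0 := fun h0 => hv0 (funext fun i => by simpa using congrFun h0 i)
    obtain ⟨y, hy⟩ := exists_polar_ne H.nd hv'
    have h3 := hGQ (σ.symm ∘ v + y)
    rw [hGadd, show Gs (σ.symm ∘ v) = 0 from hv, zero_add, hGQ, Q_add, map_add, map_add] at h3
    have h4 : c * σ (Q (σ.symm ∘ v)) = 0 := by
      rw [← hGQ, show Gs (σ.symm ∘ v) = 0 from hv, QuadraticMap.map_zero]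
    have h5 : c * σ (polar ⇑Q (σ.symm ∘ v) y) = 0 := by linear_combination -h3 - h4
    exact hy (by simpa [hc] using h5)
  let Le := LinearEquiv.ofInjectiveEndo L hLinj
  let g : GL ι F := ⟨LinearMap.toMatrix' Le.toLinearMap, LinearMap.toMatrix' Le.symm.toLinearMap,
    by rw [← LinearMap.toMatrix'_comp]; simp, by rw [← LinearMap.toMatrix'_comp]; simp⟩
  have hg : ∀ v, (g : Matrix ι ι F) *ᵥ (σ ∘ v) = Gs v := fun v => by
    rw [show (g : Matrix ι ι F) *ᵥ (σ ∘ v) = Le (σ ∘ v) from LinearMap.toMatrix'_mulVec _ _]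
    exact hL v
  have hA0 : A 0 = 0 := by have := hsem 0 0 (zero_mem _); simpa using this
  refine ⟨g, σ, c, hc, fun v => by rw [hg, hGQ], ?_, fun w hw => ?_⟩
  · rw [hg]
    have e1 : wPart Q e f f = 0 := by
      rw [wPart, pl_self, h.qf, h.pf]; simp
    show (σ (polar ⇑Q f f) * c) • e' + σ (polar ⇑Q e f) • f' + A (wPart Q e f f) = f'
    rw [e1, hA0, pl_self, h.qf, h.pf, mul_zero, map_zero, map_one]
    module
  · rw [hg, hg, hα w hw]
    obtain ⟨hw1, hw2⟩ := mem_perp.1 hw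
    have e1 : wPart Q e f e = 0 := by
      rw [wPart, pl_self, h.qe, pl_comm, h.pf]; simp
    have e2 : wPart Q e f w = w := by rw [wPart, hw1, hw2]; simp
    have g1 : Gs e = c • e' := by
      show (σ (polar ⇑Q f e) * c) • e' + σ (polar ⇑Q e e) • f' + A (wPart Q e f e) = _
      rw [e1, hA0, pl_self, h.qe, pl_comm, h.pf, mul_zero, map_zero, map_one]
      module
    have g2 : Gs w = A w := by
      show (σ (polar ⇑Q f w) * c) • e' + σ (polar ⇑Q e w) • f' + A (wPart Q e f w) = _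
      rw [e2, hw1, hw2, map_zero]
      module
    rw [g1, g2, E_smul_left, smul_inv_smul₀ hc]

end Cfsg.Agent.AutPOmega
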