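import Cfsg.Agent.Lib.AutPOmega.Meets

/-!
# Automorphisms of `PΩ(Q)`: the action on singular points

* `Star Q u` : the root elements whose line passes through `u`
* `exists_star_image` : automorphisms permute the stars
* `HPair.star_image` : opposite points go to opposite points
-/

set_option autoImplicit false
set_option linter.unusedSectionVars false

namespace Cfsg.Agent.AutPOmega

open Cfsg Matrix Module Cfsg.Agent.Orth
open QuadraticMap (polar)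

variable {ι : Type} [Fintype ι] [DecidableEq ι] {F : Type*} [Field F] [Fintype F]
variable {Q : QuadraticForm F (ι → F)}

variable (Q) in
/-- The roots at a singular point. -/
def Star (u : ι → F) : Set (POmega F ⇑Q) := {z | IsRoot z ∧ ∃ w, polar ⇑Q u w = 0 ∧ z = E Q u w}

theorem E_wPart {e f w : ι → F} (h : HPair Q e f) (hw : polar ⇑Q e w = 0) :
    eich Q e (wPart Q e f w) = eich Q e w := by
  have h' := decomp (Q := Q) e f w
  rw [hw, zero_smul, add_zero, add_comm] at h'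
  conv_rhs => rw [h', eich_add_smul_self h.qe (mem_perp.1 (h.wPart_mem w)).1]

theorem E_inj_perp (H : Base Q) {e f w w' : ι → F} (h : HPair Q e f) (hw : w ∈ perp Q e f)
    (hw' : w' ∈ perp Q e f) (he : E Q e w = E Q e w') : w = w' := by
  obtain ⟨c, hc⟩ := eich_right_inj H.nd h.qe h.ne_zero (mem_perp.1 hw).1 (mem_perp.1 hw').1
    ((E_eq_iff H).1 he)
  have h3 := congrArg (polar ⇑Q f) hc
  rw [pl_add_right, pl_smul_right, (mem_perp.1 hw).2, (mem_perp.1 hw').2, pl_comm Q f e, h.pf,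
    mul_one, zero_add] at h3
  rw [hc, ← h3, zero_smul, add_zero]

theorem spair_perp {e f w : ι → F} (h : HPair Q e f) (hw : w ∈ perp Q e f) (hw0 : w ≠ 0)
    (hQw : Q w = 0) : SPair Q e w :=
  ⟨h.qe, hQw, (mem_perp.1 hw).1, h.ne_zero, fun hm => by
    obtain ⟨c, hc⟩ := Submodule.mem_span_singleton.1 hm
    have h3 := (mem_perp.1 hw).2
    rw [← hc, pl_smul_right, pl_comm, h.pf, mul_one] at h3
    exact hw0 (by rw [← hc, h3, zero_smul])⟩

theorem isRoot_E_perp_iff (H : Base Q) {e f w : ι → F} (h : HPair Q e f) (hw : w ∈ perp Q e f) :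
    IsRoot (E Q e w) ↔ w ≠ 0 ∧ Q w = 0 := by
  refine ⟨fun hr => ⟨fun h0 => hr.ne_one H (by rw [h0, E_zero]), ?_⟩,
    fun ⟨h0, hQ⟩ => ⟨e, w, spair_perp h hw h0 hQ, rfl⟩⟩
  obtain ⟨u', w', hs, he⟩ := hr
  obtain ⟨he1, he2⟩ := mem_perp.1 hw
  have h1 : ap (eich Q e w) f - f ∈ ln u' w' := by
    rw [(E_eq_iff H).1 he, eich_line_ap hs]
    exact sub_mem (Submodule.smul_mem _ _ (right_mem_ln _ _)) (Submodule.smul_mem _ _ (left_mem_ln _ _))
  have h2 := (hs.ts h1 h1).1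
  rw [eich_ap h.qe he1, h.pf, pl_comm Q w f, he2, show f + (1 : F) • w - (0 + Q w * 1) • e - f =
    w + (-Q w) • e by module, Q_add, Q_smul Q (-Q w) e, h.qe, pl_smul_right, pl_comm Q w e, he1] at h2
  linear_combination h2

theorem star_iff (H : Base Q) {u a b : ι → F} (hu : Q u = 0) (hu0 : u ≠ 0) (hab : SPair Q a b) :
    E Q a b ∈ Star Q u ↔ u ∈ ln a b := by
  constructor
  · rintro ⟨hr, w, hw, he⟩
    obtain ⟨f, h⟩ := exists_hpair_left H.nd hu hu0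
    have he' : E Q a b = E Q u (wPart Q u f w) := by rw [he]; exact (congrArg om (E_wPart h hw)).symm
    rw [he'] at hr
    obtain ⟨h0, hQ⟩ := (isRoot_E_perp_iff H h (h.wPart_mem w)).1 hr
    rw [hab.line_eq H.nd (spair_perp h (h.wPart_mem w) h0 hQ) ((E_eq_iff H).1 he')]
    exact left_mem_ln _ _
  · intro hm
    obtain ⟨c, hc, -, e⟩ := hab.basis_at hm hu0
    exact ⟨⟨a, b, hab, rfl⟩, c, hc.p, congrArg om e⟩

theorem star_eq_perp (H : Base Q) {e f : ι → F} (h : HPair Q e f) {z : POmega F ⇑Q} (hz : z ∈ Star Q e) :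
    ∃ w ∈ perp Q e f, w ≠ 0 ∧ Q w = 0 ∧ z = E Q e w := by
  obtain ⟨hr, w, hw, rfl⟩ := hz
  have he : E Q e (wPart Q e f w) = E Q e w := congrArg om (E_wPart h hw)
  rw [← he] at hr ⊢
  obtain ⟨h0, hQ⟩ := (isRoot_E_perp_iff H h (h.wPart_mem w)).1 hr
  exact ⟨_, h.wPart_mem w, h0, hQ, rfl⟩

theorem mem_of_meet_both {u a b u'' w'' : ι → F} (ha : SPair Q u a) (hb : SPair Q u b)
    (hab : polar ⇑Q a b ≠ 0) (hs : SPair Q u'' w'') (h1 : Meet (ln u'' w'') (ln u a))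
    (h2 : Meet (ln u'' w'') (ln u b)) : u ∈ ln u'' w'' := by
  obtain ⟨a1, ha10, ha1M, ha1L⟩ := h1
  obtain ⟨b1, hb10, hb1M, hb1L⟩ := h2
  obtain ⟨s1, t1, rfl⟩ := mem_ln.1 ha1L
  obtain ⟨s2, t2, rfl⟩ := mem_ln.1 hb1L
  by_cases ht1 : t1 = 0
  · subst ht1
    rw [zero_smul, add_zero] at ha10 ha1M
    have := Submodule.smul_mem _ s1⁻¹ ha1M
    rwa [inv_smul_smul₀ fun h0 : s1 = 0 => ha10 (by rw [h0, zero_smul])] at this
  by_cases ht2 : t2 = 0
  · subst ht2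
    rw [zero_smul, add_zero] at hb10 hb1M
    have := Submodule.smul_mem _ s2⁻¹ hb1M
    rwa [inv_smul_smul₀ fun h0 : s2 = 0 => hb10 (by rw [h0, zero_smul])] at this
  exfalso
  have h0 := (hs.ts ha1M hb1M).2
  simp only [pl_add_left, pl_add_right, pl_smul_left, pl_smul_right, pl_self, ha.qu, hb.p,
    pl_comm Q a u, ha.p] at h0
  ring_nf at h0
  exact mul_ne_zero (mul_ne_zero ht1 ht2) hab h0

theorem star_iff_meets (H : Hyp Q) {u a b : ι → F} (ha : SPair Q u a) (hb : SPair Q u b)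
    (hab : polar ⇑Q a b ≠ 0) (z : POmega F ⇑Q) :
    z ∈ Star Q u ↔ IsRoot z ∧ Meets z (E Q u a) ∧ Meets z (E Q u b) := by
  constructor
  · intro hz
    obtain ⟨u'', w'', hs, rfl⟩ := hz.1
    have hu : u ∈ ln u'' w'' := (star_iff H ha.qu ha.nu hs).1 hz
    exact ⟨hz.1, (meets_iff H hs ha).2 ⟨u, ha.nu, hu, left_mem_ln _ _⟩,
      (meets_iff H hs hb).2 ⟨u, ha.nu, hu, left_mem_ln _ _⟩⟩
  · rintro ⟨⟨u'', w'', hs, rfl⟩, h1, h2⟩
    exact (star_iff H ha.qu ha.nu hs).2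
      (mem_of_meet_both ha hb hab hs ((meets_iff H hs ha).1 h1) ((meets_iff H hs hb).1 h2))

theorem exists_star_image (H : Hyp Q) (α : MulAut (POmega F ⇑Q)) {u : ι → F} (hu : Q u = 0) (hu0 : u ≠ 0) :
    ∃ u', Q u' = 0 ∧ u' ≠ 0 ∧ ∀ z, α z ∈ Star Q u' ↔ z ∈ Star Q u := by
  obtain ⟨f, h⟩ := exists_hpair_left H.nd hu hu0
  obtain ⟨e2, f2, h2, he2, hf2, -, -⟩ := exists_two_hpairs H h
  have ha := spair_perp h he2 h2.ne_zero h2.qe
  have hb := spair_perp h hf2 h2.swap.ne_zero h2.qf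
  have hab : polar ⇑Q e2 f2 ≠ 0 := by rw [h2.pf]; exact one_ne_zero
  have hne : ln u e2 ≠ ln u f2 := fun e => hab (ha.ts (right_mem_ln _ _) (e ▸ right_mem_ln _ _)).2
  have hnp : ¬ Perp Q (ln u e2) (ln u f2) := fun hp => hab (hp _ (right_mem_ln _ _) _ (right_mem_ln _ _))
  obtain ⟨u1, w1, hs1, e1⟩ := IsRoot.map H α (x := E Q u e2) ⟨u, e2, ha, rfl⟩
  obtain ⟨u2, w2, hs2, e2'⟩ := IsRoot.map H α (x := E Q u f2) ⟨u, f2, hb, rfl⟩
  have hm : Meet (ln u1 w1) (ln u2 w2) := by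
    rw [← meets_iff H hs1 hs2, ← e1, ← e2', meets_map_iff H α, meets_iff H ha hb]
    exact ⟨u, hu0, left_mem_ln _ _, left_mem_ln _ _⟩
  have hne' : ln u1 w1 ≠ ln u2 w2 := by
    rwa [Ne, ← same_iff H hs1 hs2, ← e1, ← e2', sameL_map_iff H α, same_iff H ha hb]
  have hnp' : ¬ Perp Q (ln u1 w1) (ln u2 w2) := fun hp => hnp (by
    have := (coplanar_iff H hs1 hs2).2 ⟨hne', hm, hp⟩
    rw [← e1, ← e2', coplanar_map_iff H α, coplanar_iff H ha hb] at this
    exact this.2.2)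
  obtain ⟨u', hu'0, hu'1, hu'2⟩ := hm
  obtain ⟨a', ha', hla, ea⟩ := hs1.basis_at hu'1 hu'0
  obtain ⟨b', hb', hlb, eb⟩ := hs2.basis_at hu'2 hu'0
  have hab' : polar ⇑Q a' b' ≠ 0 := fun h0 => hnp' (by
    rw [← hla, ← hlb]
    exact perp_ln_iff.2 ⟨⟨by rw [pl_self, ha'.qu, mul_zero], hb'.p⟩, by rw [pl_comm]; exact ha'.p, h0⟩)
  refine ⟨u', ha'.qu, hu'0, fun z => ?_⟩
  rw [star_iff_meets H ha' hb' hab', star_iff_meets H ha hb hab,
    ← show α (E Q u e2) = E Q u' a' from e1.trans (congrArg om ea),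
    ← show α (E Q u f2) = E Q u' b' from e2'.trans (congrArg om eb), isRoot_map_iff H α,
    meets_map_iff H α, meets_map_iff H α]

theorem star_image_opposite (H : Base Q) (α : MulAut (POmega F ⇑Q)) {e f e' f' : ι → F}
    (h : HPair Q e f) (he' : Q e' = 0) (he'0 : e' ≠ 0) (hf' : Q f' = 0) (hf'0 : f' ≠ 0)
    (h1 : ∀ z, α z ∈ Star Q e' ↔ z ∈ Star Q e) (h2 : ∀ z, α z ∈ Star Q f' ↔ z ∈ Star Q f) :
    polar ⇑Q e' f' ≠ 0 := by
  have disj : ∀ z, z ∈ Star Q e → z ∈ Star Q f → False := fun z hz hz' => by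
    obtain ⟨a, b, hs, rfl⟩ := hz.1
    have := (hs.ts ((star_iff H h.qe h.ne_zero hs).1 hz) ((star_iff H h.qf h.swap.ne_zero hs).1 hz')).2
    rw [h.pf] at this
    exact one_ne_zero this
  intro h0
  by_cases hind : f' ∈ Submodule.span F {e'}
  · obtain ⟨c, hc⟩ := Submodule.mem_span_singleton.1 hind
    have hc0 : c ≠ 0 := fun h0 => hf'0 (by rw [← hc, h0, zero_smul])
    obtain ⟨e2, f2, h2', he2, -, -, -⟩ := exists_two_hpairs H h
    have hs := spair_perp h he2 h2'.ne_zero h2'.qe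
    have hin : E Q e e2 ∈ Star Q e := (star_iff H h.qe h.ne_zero hs).2 (left_mem_ln _ _)
    obtain ⟨a, b, hab, he⟩ := IsRoot.map H α hin.1
    refine disj _ hin ((h2 _).1 ?_)
    rw [he, star_iff H hf' hf'0 hab, ← hc]
    refine Submodule.smul_mem _ c ((star_iff H he' he'0 hab).1 ?_)
    rw [← he, h1]; exact hin
  · have hs : SPair Q e' f' := ⟨he', hf', h0, he'0, hind⟩
    obtain ⟨z, hz⟩ := α.surjective (E Q e' f')
    exact disj z ((h1 z).1 (hz ▸ (star_iff H he' he'0 hs).2 (left_mem_ln _ _)))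
      ((h2 z).1 (hz ▸ (star_iff H hf' hf'0 hs).2 (right_mem_ln _ _)))

end Cfsg.Agent.AutPOmega
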